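import Cfsg.Agent.H332.EB.Two_m3
import Cfsg.Agent.Blocks.AvgIntegral
import Mathlib
import Cfsg.Agent.H104.EB.COne
import Cfsg.Agent.CpAutHNFive.Main
import Cfsg.Agent.H569.HNFiveQ_m3
import Cfsg.Agent.H149.Sp.Th
import Cfsg.Agent.MFive.Fus
import Cfsg.Agent.LThreeMB.Quo
import Cfsg.Agent.H225.AxB
import Cfsg.Agent.H864.ExtraSing
import Cfsg.Agent.KFacts.MonsterE
import Cfsg.Agent.CpAut.TwoTool
import Cfsg.Agent.TypeM.FactsLy
import Cfsg.Agent.TypeM.OutLyFin
import Cfsg.Agent.S0028
import Cfsg.Agent.H729.PairTh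
import Cfsg.Agent.H55.OutGen
import Cfsg.Agent.S2083
import Cfsg.Agent.H661.SporEven
import Cfsg.Agent.Blocks.PrincipalConstGen
import Cfsg.Agent.Blocks.PrincipalSection
import Cfsg.Agent.Blocks.SectionSum
import Cfsg.Agent.Blocks.SectionCount
import Cfsg.Agent.Blocks.CentralSylow
import Cfsg.Agent.Blocks.ExistsModular
import Cfsg.Agent.Blocks.Orthogonality
import Cfsg.Agent.Blocks.Osima
import Cfsg.Agent.H644.CentralQuot
import Cfsg.Agent.H680.ONThirtyOne_m3
import Cfsg.Agent.Blocks.CyclicUpper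
import Cfsg.Agent.M22.BDataOfBlocks
import Cfsg.Agent.SmallSimple.SelfCentPrime
import Cfsg.Agent.H686.CharKit
import Cfsg.Agent.H852.IMPerm
import Cfsg.Agent.H701.EB.CoThree
import Cfsg.Agent.H852.IMMathieu2
import Cfsg.Agent.S2060
import Cfsg.Agent.S2063
import Cfsg.Agent.S2064
import Cfsg.Agent.H694.EB.Nilp
import Cfsg.Agent.S2061
import Cfsg.Agent.Schreier.MTwelve
import Cfsg.Agent.H326.Four.RowON
import Cfsg.Agent.UGT.ThEP.KFacts_m3
import Cfsg.Agent.H682.EB.CoOneLoc
import Cfsg.Agent.H711.BabyReal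
import Cfsg.Agent.KFacts.Baby.RowB_m3
import Cfsg.Agent.BM.KHAll
import Cfsg.Agent.S0145
import Cfsg.Agent.S0942
import Cfsg.Agent.FastGrp
import Cfsg.Agent.Prune
set_option linter.all false

section
prune_inst 0x7ffcfcf9aba8b9dfdfff7e3ffed9dff831808fffe6dff94bffe16b9f8b9f036329e56bad0de410fece66e21410b87803fb7eceffe06bdc7ffffd5df01ffbee0fb5e7b508119488340f3c0fff03f0778e6f3ffffff7fffffffffffffffffffffffffdfbfeffff

-- part: H684/EB/N8
section
prune_inst 0x302004002202000000001060001c62c2000000004b00008100070206800c0000000e208ca00109100a000400340048130000800200000000204400011c04a1808014043000010022000f003002010000000080000000000000000000000000204010000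
set_option linter.all false
open scoped Cfsg.Agent.FastGrp

-- part: H684/EB/Tw
section
/-!
# Averages of class functions and twisted averages of characters

* `isIntegral_half`: `(χ(y f²) + χ(y f)) / 2` is an algebraic integer if `f ^ 4 = 1`, `y` commutes with `f` and
  `χ(y f³) = χ(y f)`.
* `avg F`, `classInner_avg`: the class function `g ↦ ∑ t, F (t⁻¹ g t)` and its coefficients.
-/

set_option autoImplicit false

namespace Cfsg.Agent.H684.EB

open Cfsg Cfsg.Agent.H610.EB
open scoped ComplexConjugate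

universe u v

theorem isIntegral_tw {G : Type u} [Group G] {V : Type v} [AddCommGroup V] [Module ℂ V]
    [FiniteDimensional ℂ V] (ρ : Representation ℂ G V) {y f : G} (hy : IsOfFinOrder y)
    (hc : Commute y f) (hf : f ^ 4 = 1) {ω : ℂ} (hω : ω ^ 4 = 1) :
    IsIntegral ℤ ((4 : ℂ)⁻¹ * (ρ.character y + ω ^ 3 * ρ.character (y * f) +
      ω ^ 2 * ρ.character (y * f ^ 2) + ω * ρ.character (y * f ^ 3))) := by
  set a : Module.End ℂ V := ρ f with ha
  have ha4 : a ^ 4 = 1 := by rw [ha, ← map_pow, hf, map_one]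
  set π : Module.End ℂ V := (4 : ℂ)⁻¹ • (1 + ω ^ 3 • a + ω ^ 2 • a ^ 2 + ω • a ^ 3) with hπ
  have h1 : π * a = ω • π := by
    rw [hπ, smul_mul_assoc, smul_comm ω (4 : ℂ)⁻¹]
    congr 1
    rw [add_mul, add_mul, add_mul, smul_mul_assoc, smul_mul_assoc, smul_mul_assoc, one_mul, ← pow_succ,
      ← pow_succ, ha4, smul_add, smul_add, smul_add, smul_smul, smul_smul, smul_smul, ← pow_two]
    have e1 : ω * ω ^ 3 = 1 := by rw [← hω]; ring
    have e2 : ω * ω ^ 2 = ω ^ 3 := by ring
    have e3 : ω * ω = ω ^ 2 := by ring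
    rw [e1, e2, e3, one_smul]
    norm_num only []
    abel
  have h2 : ∀ j : ℕ, π * a ^ j = ω ^ j • π := by
    intro j
    induction j with
    | zero => simp
    | succ j ih =>
      rw [pow_succ, ← mul_assoc, ih, smul_mul_assoc, h1, smul_smul, ← pow_succ]
  have hidem : π * π = π := by
    have h3 := h2 1
    rw [pow_one, pow_one] at h3
    have h5 : π * π = (4 : ℂ)⁻¹ • (π + ω ^ 3 • (π * a) + ω ^ 2 • (π * a ^ 2) + ω • (π * a ^ 3)) := by
      nth_rewrite 2 [hπ]
      rw [mul_smul_comm, mul_add, mul_add, mul_add, mul_one, mul_smul_comm, mul_smul_comm,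
        mul_smul_comm]
    rw [h5, h3, h2, h2, smul_smul (ω ^ 3) ω π, smul_smul (ω ^ 2) (ω ^ 2) π, smul_smul ω (ω ^ 3) π]
    have e1 : ω ^ 3 * ω = 1 := by rw [← hω]; ring
    have e2 : ω ^ 2 * ω ^ 2 = 1 := by rw [← hω]; ring
    have e3 : ω * ω ^ 3 = 1 := by rw [← hω]; ring
    rw [e1, e2, e3, one_smul]
    have h4 : π + π + π + π = (4 : ℂ) • π := by
      rw [show (4 : ℂ) = 1 + 1 + 1 + 1 by norm_num, add_smul, add_smul, add_smul, one_smul]
    rw [h4, smul_smul, inv_mul_cancel₀ (by norm_num), one_smul]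
  have hcom : Commute (ρ y) π := by
    have h3 : Commute (ρ y) a := by
      rw [ha, Commute, SemiconjBy, ← map_mul, ← map_mul, hc.eq]
    rw [hπ]
    refine Commute.smul_right ?_ _
    refine Commute.add_right (Commute.add_right (Commute.add_right (Commute.one_right _) ?_) ?_) ?_
    · exact Commute.smul_right h3 _
    · exact Commute.smul_right (h3.pow_right 2) _
    · exact Commute.smul_right (h3.pow_right 3) _
  have hpow : ∀ k : ℕ, k ≠ 0 → π ^ k = π := by
    intro k hk
    induction k with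
    | zero => exact absurd rfl hk
    | succ k ih =>
      by_cases h0 : k = 0
      · subst h0; simp
      · rw [pow_succ, ih h0, hidem]
  have hT : (ρ y * π) ^ (orderOf y + 1) = ρ y * π := by
    rw [hcom.mul_pow, hpow _ (Nat.succ_ne_zero _), ← map_pow, pow_succ, pow_orderOf_eq_one, one_mul]
  have hint := Blocks.AvgIntegral.isIntegral_trace_of_pow (hy.orderOf_pos.ne') hT
  have heq : LinearMap.trace ℂ V (ρ y * π) = (4 : ℂ)⁻¹ * (ρ.character y + ω ^ 3 * ρ.character (y * f) +
      ω ^ 2 * ρ.character (y * f ^ 2) + ω * ρ.character (y * f ^ 3)) := by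
    rw [hπ, mul_smul_comm, map_smul, smul_eq_mul, mul_add, mul_add, mul_add, map_add, map_add, map_add,
      mul_smul_comm, mul_smul_comm, mul_smul_comm, map_smul, map_smul, map_smul, mul_one, ha, ← map_pow,
      ← map_pow, ← map_mul, ← map_mul, ← map_mul]
    rfl
  rwa [heq] at hint

/-- The half sum is an algebraic integer. -/
theorem isIntegral_half {G : Type u} [Group G] [Finite G] {χ : G → ℂ} (hχ : IsCharacter G χ)
    {y f : G} (hc : Commute y f) (hf : f ^ 4 = 1) (h3 : χ (y * f ^ 3) = χ (y * f)) :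
    IsIntegral ℤ ((χ (y * f ^ 2) + χ (y * f)) / 2) := by
  obtain ⟨n, ρ, rfl⟩ := hχ
  have hy := isOfFinOrder_of_finite y
  have h1 := isIntegral_tw ρ hy hc hf (ω := 1) (by norm_num)
  have hI : Complex.I ^ 4 = 1 := Complex.I_pow_four
  have h2 := isIntegral_tw ρ hy hc hf (ω := Complex.I) hI
  have h4 := h1.sub h2
  rw [h3] at h4
  have hI2 : Complex.I ^ 2 = -1 := Complex.I_sq
  have hI3 : Complex.I ^ 3 = - Complex.I := by
    rw [pow_succ, hI2]
    ring
  rw [hI2, hI3] at h4
  have h5 : (ρ.character (y * f ^ 2) + ρ.character (y * f)) / 2 =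
      (4 : ℂ)⁻¹ * (ρ.character y + 1 ^ 3 * ρ.character (y * f) +
      1 ^ 2 * ρ.character (y * f ^ 2) + 1 * ρ.character (y * f)) -
      (4 : ℂ)⁻¹ * (ρ.character y + -Complex.I * ρ.character (y * f) +
      -1 * ρ.character (y * f ^ 2) + Complex.I * ρ.character (y * f)) := by
    ring
  rw [h5]
  exact h4

section avg
variable {G : Type u} [Group G] [Fintype G]

/-- sum over the conjugates -/
noncomputable def avg (F : G → ℂ) : G → ℂ := fun g => ∑ t : G, F (t⁻¹ * g * t)

theorem avg_def (F : G → ℂ) (g : G) : avg F g = ∑ t : G, F (t⁻¹ * g * t) := rfl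

theorem isClassFunction_avg (F : G → ℂ) : IsClassFunction G (avg F) := by
  intro g h
  rw [avg_def, avg_def]
  refine Fintype.sum_equiv (Equiv.mulLeft h⁻¹) _ _ fun t => ?_
  rw [Equiv.coe_mulLeft]
  congr 1
  group

theorem classInner_avg (F : G → ℂ) {χ : G → ℂ} (hχ : IsClassFunction G χ) :
    classInner (avg F) χ = ∑ h : G, F h * conj (χ h) := by
  rw [Characters.Core.classInner_def]
  have h1 : ∑ g : G, avg F g * conj (χ g) = ∑ t : G, ∑ h : G, F h * conj (χ h) := by
    simp only [avg_def, Finset.sum_mul]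
    rw [Finset.sum_comm]
    refine Finset.sum_congr rfl fun t _ => ?_
    refine Fintype.sum_equiv (MulAut.conj t⁻¹).toEquiv _ _ fun g => ?_
    have h2 : (MulAut.conj t⁻¹).toEquiv g = t⁻¹ * g * t := by
      show MulAut.conj t⁻¹ g = _
      rw [MulAut.conj_apply, inv_inv]
    rw [h2]
    congr 2
    have h3 := hχ g t⁻¹
    rw [inv_inv] at h3
    exact h3.symm
  rw [h1, Finset.sum_const, Finset.card_univ, nsmul_eq_mul, Nat.card_eq_fintype_card,
    ← mul_assoc, inv_mul_cancel₀ (by exact_mod_cast Fintype.card_ne_zero), one_mul]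

theorem avg_congr {F F' : G → ℂ} (m : G) (h : ∀ g, F' g = F (m * g * m⁻¹)) : avg F' = avg F := by
  funext g
  rw [avg_def, avg_def]
  refine Fintype.sum_equiv (Equiv.mulRight m⁻¹) _ _ fun t => ?_
  rw [Equiv.coe_mulRight, h]
  congr 1
  group

theorem avg_comp (F : G → ℂ) (σ : G → G) (hσ : ∀ t g : G, σ (t⁻¹ * g * t) = t⁻¹ * σ g * t) (g : G) :
    avg F (σ g) = avg (fun h => F (σ h)) g := by
  rw [avg_def, avg_def]
  refine Finset.sum_congr rfl fun t _ => ?_
  rw [hσ]

theorem conj_avg {F : G → ℂ} (h : ∀ g, conj (F g) = F g) (g : G) : conj (avg F g) = avg F g := by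
  rw [avg_def, map_sum]
  exact Finset.sum_congr rfl fun t _ => h _

end avg

end Cfsg.Agent.H684.EB
end

-- part: H684/EB/N4
section
/-!
# TEAM EB, criterion (N4)

`y` of odd order, `f` of order 4 commuting with `y`, inverted by some `n` commuting with `y`; some `m` inverts `y` and
normalizes `⟨f⟩`; the 2-part of `|C(y f)|` is 4. The class function with `Ψ(y f²) = -2`, `Ψ(y f) = Ψ(y f⁻¹) = -1` (times
centralizer orders) has local coefficients `-(χ(y f²) + χ(y f)) / 2`, degree 0 and odd norm.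

* `evenS_of_n4`: if these coefficients are in `M` for `χ` outside the principal block, then `EvenS G`.
-/

set_option autoImplicit false
set_option linter.unusedSectionVars false

namespace Cfsg.Agent.H684.EB

open Cfsg Cfsg.Agent.H610.EB
open scoped ComplexConjugate

universe u v

/-- The data of (N4). -/
structure N4 {G : Type u} [Group G] (y f n m : G) : Prop where
  odd : Odd (orderOf y)
  four : orderOf f = 4
  comm : Commute y f
  ny : Commute n y
  nf : n * f * n⁻¹ = f⁻¹
  my : m * y * m⁻¹ = y⁻¹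
  mf : m * f * m⁻¹ = f ∨ m * f * m⁻¹ = f⁻¹
  card : (Nat.card (Subgroup.centralizer ({y * f} : Set G))).factorization 2 = 2

section delta
variable {G : Type u} [Group G] [DecidableEq G]

/-- indicator function -/
def dl (a : G) : G → ℂ := fun g => if g = a then 1 else 0

theorem dl_def (a g : G) : dl a g = if g = a then 1 else 0 := rfl

theorem conj_dl (a g : G) : conj (dl a g) = dl a g := by
  rw [dl_def]
  split_ifs <;> simp

theorem dl_inv (a g : G) : dl a g⁻¹ = dl a⁻¹ g := by
  rw [dl_def, dl_def]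
  congr 1
  rw [inv_eq_iff_eq_inv]

theorem dl_conj (a m g : G) : dl a (m * g * m⁻¹) = dl (m⁻¹ * a * m) g := by
  rw [dl_def, dl_def]
  congr 1
  apply propext
  constructor
  · intro h
    rw [← h]
    group
  · intro h
    rw [h]
    group

theorem dl_pow {k : ℕ} (hk : ∀ g : G, (g ^ k) ^ k = g) (a g : G) : dl a (g ^ k) = dl (a ^ k) g := by
  rw [dl_def, dl_def]
  congr 1
  apply propext
  constructor
  · intro h
    rw [← h, hk]
  · intro h
    rw [h, hk]

variable [Fintype G]

theorem sum_dl_mul (a : G) (w : G → ℂ) : ∑ h : G, dl a h * w h = w a := by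
  simp only [dl_def, ite_mul, one_mul, zero_mul]
  rw [Finset.sum_ite_eq' Finset.univ a w, if_pos (Finset.mem_univ a)]

theorem avg_dl_self (a : G) : avg (dl a) a = (Nat.card (Subgroup.centralizer ({a} : Set G)) : ℂ) := by
  rw [avg_def]
  simp only [dl_def]
  rw [Finset.sum_boole]
  congr 1
  rw [← Fintype.card_subtype, ← Nat.card_eq_fintype_card]
  refine Nat.card_congr (Equiv.subtypeEquivRight fun t => ?_)
  rw [Subgroup.mem_centralizer_singleton_iff]
  constructor
  · intro h
    calc t * a = t * (t⁻¹ * a * t) := by rw [h]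
      _ = a * t := by group
  · intro h
    rw [mul_assoc, ← h]
    group

theorem avg_dl_conj {a b : G} (m : G) (h : m * a * m⁻¹ = b) :
    avg (dl b) a = (Nat.card (Subgroup.centralizer ({a} : Set G)) : ℂ) := by
  rw [← avg_dl_self]
  have h1 : avg (dl a) = avg (dl b) := avg_congr m fun g => by
    rw [dl_conj, ← h]
    congr 1
    group
  rw [h1]

theorem avg_dl_of_not {a b : G} (h : ∀ t : G, t⁻¹ * a * t ≠ b) : avg (dl b) a = 0 := by
  rw [avg_def]
  exact Finset.sum_eq_zero fun t _ => by rw [dl_def, if_neg (h t)]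

end delta

section
variable {G : Type u} [Group G]

theorem orderOf_conjug (a t : G) : orderOf (t * a * t⁻¹) = orderOf a :=
  MulEquiv.orderOf_eq (MulAut.conj t) a

theorem orderOf_conj' (a t : G) : orderOf (t⁻¹ * a * t) = orderOf a := by
  have := orderOf_conjug a t⁻¹
  rwa [inv_inv] at this

theorem N4.comm2 {y f n m : G} (h : N4 y f n m) : Commute y (f ^ 2) := h.comm.pow_right 2

theorem N4.f4 {y f n m : G} (h : N4 y f n m) : f ^ 4 = 1 := by rw [← h.four, pow_orderOf_eq_one]

theorem N4.f2_ne {y f n m : G} (h : N4 y f n m) : f ^ 2 ≠ 1 := by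
  intro h1
  have h2 := orderOf_dvd_of_pow_eq_one h1
  rw [h.four] at h2
  exact absurd h2 (by decide)

theorem N4.f_ne_inv {y f n m : G} (h : N4 y f n m) : f ≠ f⁻¹ := by
  intro h1
  apply h.f2_ne
  rw [pow_two]
  nth_rewrite 2 [h1]
  rw [mul_inv_cancel]

theorem N4.inv_f2 {y f n m : G} (h : N4 y f n m) : (f ^ 2)⁻¹ = f ^ 2 := by
  rw [inv_eq_iff_mul_eq_one, ← pow_add]
  exact h.f4

theorem N4.m_yf2 {y f n m : G} (h : N4 y f n m) : m * (y * f ^ 2) * m⁻¹ = (y * f ^ 2)⁻¹ := by
  have h1 : m * f ^ 2 * m⁻¹ = f ^ 2 := by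
    rcases h.mf with h2 | h2
    · rw [← conj_pow, h2]
    · rw [← conj_pow, h2, inv_pow, h.inv_f2]
  calc m * (y * f ^ 2) * m⁻¹ = (m * y * m⁻¹) * (m * f ^ 2 * m⁻¹) := by group
    _ = y⁻¹ * (f ^ 2)⁻¹ := by rw [h.my, h1, h.inv_f2]
    _ = (y * f ^ 2)⁻¹ := by rw [mul_inv_rev, (h.comm2.inv_inv).eq]

theorem N4.m_yf {y f n m : G} (h : N4 y f n m) :
    (m * (y * f) * m⁻¹ = (y * f)⁻¹ ∧ m * (y * f⁻¹) * m⁻¹ = (y * f⁻¹)⁻¹) ∨
      (m * (y * f) * m⁻¹ = (y * f⁻¹)⁻¹ ∧ m * (y * f⁻¹) * m⁻¹ = (y * f)⁻¹) := by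
  have h1 : m * (y * f) * m⁻¹ = y⁻¹ * (m * f * m⁻¹) := by
    rw [← h.my]
    group
  have h2 : m * (y * f⁻¹) * m⁻¹ = y⁻¹ * (m * f * m⁻¹)⁻¹ := by
    rw [← h.my]
    group
  have h3 : (y * f)⁻¹ = y⁻¹ * f⁻¹ := by rw [mul_inv_rev, h.comm.inv_inv.eq]
  have h4 : (y * f⁻¹)⁻¹ = y⁻¹ * f := by rw [mul_inv_rev, inv_inv, (h.comm.inv_left).eq]
  rcases h.mf with h5 | h5
  · right
    rw [h1, h2, h5, h3, h4]
    exact ⟨rfl, rfl⟩
  · left
    rw [h1, h2, h5, h3, h4, inv_inv]
    exact ⟨rfl, rfl⟩

theorem N4.n_yf {y f n m : G} (h : N4 y f n m) : n * (y * f) * n⁻¹ = y * f⁻¹ := by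
  calc n * (y * f) * n⁻¹ = (n * y * n⁻¹) * (n * f * n⁻¹) := by group
    _ = y * f⁻¹ := by rw [h.nf, h.ny.eq, mul_inv_cancel_right]

theorem N4.orderOf_yf2 {y f n m : G} (h : N4 y f n m) : orderOf (y * f ^ 2) = orderOf y * 2 := by
  have h1 : orderOf (f ^ 2) = 2 := by
    rw [orderOf_pow' f (by norm_num), h.four]
    norm_num
  rw [h.comm2.orderOf_mul_eq_mul_orderOf_of_coprime (by rw [h1]; exact Nat.coprime_two_right.2 h.odd), h1]

theorem N4.orderOf_yf {y f n m : G} (h : N4 y f n m) : orderOf (y * f) = orderOf y * 4 := by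
  rw [h.comm.orderOf_mul_eq_mul_orderOf_of_coprime (by
    rw [h.four]
    exact (Nat.coprime_two_right.2 h.odd).pow_right 2), h.four]

theorem N4.orderOf_yfi {y f n m : G} (h : N4 y f n m) : orderOf (y * f⁻¹) = orderOf y * 4 := by
  rw [← h.n_yf, ← h.orderOf_yf]
  exact orderOf_conjug (y * f) n

/-- The centralizer of `y f` centralizes `y` and `f`. -/
theorem N4.mem_centralizer {y f n m : G} (h : N4 y f n m) {g : G} :
    g ∈ Subgroup.centralizer ({y * f} : Set G) ↔ Commute g y ∧ Commute g f := by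
  rw [Subgroup.mem_centralizer_singleton_iff]
  constructor
  · intro h1
    have hc : Commute g (y * f) := h1
    obtain ⟨a, ha0, ha1⟩ := Nat.chineseRemainder
      (show Nat.Coprime (orderOf y) 4 from (Nat.coprime_two_right.2 h.odd).pow_right 2) 1 0
    obtain ⟨b, hb0, hb1⟩ := Nat.chineseRemainder
      (show Nat.Coprime (orderOf y) 4 from (Nat.coprime_two_right.2 h.odd).pow_right 2) 0 1
    have h2 : (y * f) ^ a = y := by
      rw [h.comm.mul_pow]
      have h3 : y ^ a = y := by
        nth_rewrite 2 [← pow_one y]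
        rw [pow_eq_pow_iff_modEq]
        exact ha0
      have h4 : f ^ a = 1 := by
        rw [← pow_zero f, pow_eq_pow_iff_modEq, h.four]
        exact ha1
      rw [h3, h4, mul_one]
    have h2' : (y * f) ^ b = f := by
      rw [h.comm.mul_pow]
      have h3 : f ^ b = f := by
        nth_rewrite 2 [← pow_one f]
        rw [pow_eq_pow_iff_modEq, h.four]
        exact hb1
      have h4 : y ^ b = 1 := by
        rw [← pow_zero y, pow_eq_pow_iff_modEq]
        exact hb0
      rw [h3, h4, one_mul]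
    constructor
    · have h5 := hc.pow_right a
      rwa [h2] at h5
    · have h5 := hc.pow_right b
      rwa [h2'] at h5
  · rintro ⟨h1, h2⟩
    exact (h1.mul_right h2).eq

/-- `8` divides the order of the centralizer of `y f²`. -/
theorem N4.eight [Finite G] {y f n m : G} (h : N4 y f n m) :
    2 * Nat.card (Subgroup.centralizer ({y * f} : Set G)) ∣
      Nat.card (Subgroup.centralizer ({y * f ^ 2} : Set G)) := by
  let K : Subgroup G :=
    { carrier := {g | Commute g y ∧ (g * f * g⁻¹ = f ∨ g * f * g⁻¹ = f⁻¹)}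
      one_mem' := ⟨Commute.one_left _, Or.inl (by group)⟩
      mul_mem' := by
        rintro a b ⟨ha, ha'⟩ ⟨hb, hb'⟩
        refine ⟨ha.mul_left hb, ?_⟩
        have e : a * b * f * (a * b)⁻¹ = a * (b * f * b⁻¹) * a⁻¹ := by group
        rw [e]
        rcases hb' with h1 | h1
        · rw [h1]
          exact ha'
        · rw [h1, show a * f⁻¹ * a⁻¹ = (a * f * a⁻¹)⁻¹ by group]
          rcases ha' with h2 | h2
          · right
            rw [h2]
          · left
            rw [h2, inv_inv]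
      inv_mem' := by
        rintro a ⟨ha, ha'⟩
        refine ⟨ha.inv_left, ?_⟩
        rcases ha' with h1 | h1
        · left
          nth_rewrite 1 [← h1]
          group
        · right
          have h2 : a * f⁻¹ * a⁻¹ = f := by
            rw [show a * f⁻¹ * a⁻¹ = (a * f * a⁻¹)⁻¹ by group, h1, inv_inv]
          nth_rewrite 1 [← h2]
          group }
  have hK : ∀ g, g ∈ K ↔ Commute g y ∧ (g * f * g⁻¹ = f ∨ g * f * g⁻¹ = f⁻¹) := fun g => Iff.rfl
  set H := Subgroup.centralizer ({y * f} : Set G) with hH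
  have hHm : ∀ g, g ∈ H ↔ Commute g y ∧ g * f * g⁻¹ = f := by
    intro g
    rw [hH, h.mem_centralizer, mul_inv_eq_iff_eq_mul]
    rfl
  have hHK : H ≤ K := by
    intro g hg
    rw [hHm] at hg
    exact (hK g).2 ⟨hg.1, Or.inl hg.2⟩
  have hKL : K ≤ Subgroup.centralizer ({y * f ^ 2} : Set G) := by
    intro g hg
    rw [hK] at hg
    rw [Subgroup.mem_centralizer_singleton_iff]
    have h1 : Commute g (f ^ 2) := by
      rw [Commute, SemiconjBy, ← mul_inv_eq_iff_eq_mul, ← conj_pow]
      rcases hg.2 with h2 | h2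
      · rw [h2]
      · rw [h2, inv_pow, h.inv_f2]
    exact (hg.1.mul_right h1).eq
  have hnK : n ∈ K := (hK n).2 ⟨h.ny, Or.inr h.nf⟩
  have h2 : (H.subgroupOf K).index = 2 := by
    rw [Subgroup.index_eq_two_iff]
    refine ⟨⟨n, hnK⟩, fun b => ?_⟩
    rw [Subgroup.mem_subgroupOf, Subgroup.mem_subgroupOf, Subgroup.coe_mul]
    obtain ⟨b, hb⟩ := b
    rw [hK] at hb
    simp only [hHm]
    have e : b * n * f * (b * n)⁻¹ = (b * f * b⁻¹)⁻¹ := by
      rw [show b * n * f * (b * n)⁻¹ = b * (n * f * n⁻¹) * b⁻¹ by group, h.nf]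
      group
    rw [e]
    have hbn : Commute (b * n) y := hb.1.mul_left h.ny
    rcases hb.2 with h3 | h3
    · right
      refine ⟨⟨hb.1, h3⟩, fun h4 => ?_⟩
      rw [h3] at h4
      exact h.f_ne_inv h4.2.symm
    · left
      refine ⟨⟨hbn, by rw [h3, inv_inv]⟩, fun h4 => ?_⟩
      rw [h3] at h4
      exact h.f_ne_inv h4.2.symm
  have h3 : Nat.card K = 2 * Nat.card H := by
    rw [← Subgroup.card_mul_index (H.subgroupOf K), h2, mul_comm,
      Nat.card_congr (Subgroup.subgroupOfEquivOfLe hHK).toEquiv]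
  rw [← h3]
  exact Subgroup.card_dvd_of_le hKL

end

section
variable {G : Type u} [Group G] [Fintype G]

open Classical in
/-- The function of (N4). -/
noncomputable def n4F (y f : G) : G → ℂ := fun g => -2 * dl (y * f ^ 2) g - dl (y * f) g - dl (y * f⁻¹) g

/-- The class function of (N4). -/
noncomputable def n4Psi (y f : G) : G → ℂ := fun g => (4 : ℂ)⁻¹ * avg (n4F y f) g

theorem n4Psi_def (y f g : G) : n4Psi y f g = (4 : ℂ)⁻¹ * avg (n4F y f) g := rfl

open Classical in
theorem n4F_def (y f g : G) : n4F y f g = -2 * dl (y * f ^ 2) g - dl (y * f) g - dl (y * f⁻¹) g := rfl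

theorem n4Psi_cf (y f : G) : IsClassFunction G (n4Psi y f) := by
  intro g h
  rw [n4Psi_def, n4Psi_def, isClassFunction_avg]

theorem n4Psi_real (y f g : G) : conj (n4Psi y f g) = n4Psi y f g := by
  classical
  have h2 : conj (2 : ℂ) = 2 := map_ofNat _ 2
  have h4 : conj (4 : ℂ) = 4 := map_ofNat _ 4
  rw [n4Psi_def, map_mul, map_inv₀, h4, conj_avg fun g => by
    rw [n4F_def, map_sub, map_sub, map_mul, conj_dl, conj_dl, conj_dl, map_neg, h2]]

theorem n4F_inv {y f n m : G} (h : N4 y f n m) (g : G) : n4F y f g⁻¹ = n4F y f (m * g * m⁻¹) := by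
  classical
  have hi : ∀ {a b : G}, m * a * m⁻¹ = b⁻¹ → m⁻¹ * b * m = a⁻¹ := by
    intro a b hab
    have h1 : b = (m * a * m⁻¹)⁻¹ := by rw [hab, inv_inv]
    rw [h1]
    group
  rw [n4F_def, n4F_def]
  have h1 : ∀ a : G, dl a g⁻¹ = dl a⁻¹ g := fun a => by rw [dl_inv]
  have h2 : ∀ a : G, dl a (m * g * m⁻¹) = dl (m⁻¹ * a * m) g := fun a => by rw [dl_conj]
  rw [h1, h1, h1, h2, h2, h2, hi h.m_yf2]
  rcases h.m_yf with ⟨h3, h4⟩ | ⟨h3, h4⟩
  · rw [hi h3, hi h4]
  · rw [hi h3, hi h4]
    ring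

theorem n4Psi_inv {y f n m : G} (h : N4 y f n m) (g : G) : n4Psi y f g⁻¹ = n4Psi y f g := by
  rw [n4Psi_def, n4Psi_def]
  congr 1
  rw [avg_comp (n4F y f) (fun g => g⁻¹) (fun t g => by group),
    avg_congr (F := n4F y f) (F' := fun g => n4F y f g⁻¹) m (fun g => n4F_inv h g)]

theorem n4Psi_pow {y f n m : G} (h : N4 y f n m) {k : ℕ} (hk : IsK G k) (g : G) :
    n4Psi y f (g ^ k) = n4Psi y f g := by
  classical
  rw [← n4Psi_inv h g, n4Psi_def, n4Psi_def]
  congr 1
  rw [avg_comp (n4F y f) (fun g => g ^ k) (fun t g => by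
      have := conj_pow (i := k) (a := t⁻¹) (b := g)
      simpa only [_root_.inv_inv] using this),
    avg_comp (n4F y f) (fun g => g⁻¹) (fun t g => by group)]
  congr 1
  funext g
  have h1 : ∀ a : G, dl a (g ^ k) = dl (a ^ k) g := fun a => by rw [dl_pow hk.pow_pow]
  have h2 : ∀ a : G, dl a g⁻¹ = dl a⁻¹ g := fun a => by rw [dl_inv]
  have hy : y ^ k = y⁻¹ := hk.odd y h.odd
  have hf : f ^ k = f := hk.two f ⟨2, by rw [h.four]; norm_num⟩
  have e1 : (y * f ^ 2) ^ k = (y * f ^ 2)⁻¹ := by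
    rw [h.comm2.mul_pow, hy, mul_inv_rev, h.inv_f2, ← pow_mul, mul_comm 2 k, pow_mul, hf,
      (h.comm2.inv_left).eq]
  have e2 : (y * f) ^ k = (y * f⁻¹)⁻¹ := by
    rw [h.comm.mul_pow, hy, hf, mul_inv_rev, inv_inv, (h.comm.inv_left).eq]
  have e3 : (y * f⁻¹) ^ k = (y * f)⁻¹ := by
    rw [h.comm.inv_right.mul_pow, hy, inv_pow, hf, mul_inv_rev, (h.comm.inv_inv).eq]
  show n4F y f (g ^ k) = n4F y f g⁻¹
  rw [n4F_def, n4F_def, h1, h1, h1, h2, h2, h2, e1, e2, e3]
  ring

open Classical in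
/-- sums against the function of (N4) -/
theorem sum_n4F (y f : G) (w : G → ℂ) :
    ∑ h : G, n4F y f h * w h = -2 * w (y * f ^ 2) - w (y * f) - w (y * f⁻¹) := by
  have h1 : ∀ h : G, n4F y f h * w h =
      -2 * (dl (y * f ^ 2) h * w h) - dl (y * f) h * w h - dl (y * f⁻¹) h * w h := by
    intro h
    rw [n4F_def]
    ring
  rw [Finset.sum_congr rfl fun h _ => h1 h, Finset.sum_sub_distrib, Finset.sum_sub_distrib,
    ← Finset.mul_sum, sum_dl_mul, sum_dl_mul, sum_dl_mul]

theorem n4_classInner_aux (y f : G) {χ : G → ℂ} (hχ : IsClassFunction G χ) :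
    classInner (n4Psi y f) χ =
      (4 : ℂ)⁻¹ * (-2 * conj (χ (y * f ^ 2)) - conj (χ (y * f)) - conj (χ (y * f⁻¹))) := by
  have h1 : n4Psi y f = (4 : ℂ)⁻¹ • avg (n4F y f) := rfl
  rw [h1, Characters.Core.classInner_smul_left, classInner_avg _ hχ,
    sum_n4F y f (fun h => conj (χ h))]

/-- The coefficients. -/
theorem n4_classInner {y f n m : G} (h : N4 y f n m) (χ : IrrCharacter G) :
    classInner (n4Psi y f) (χ : G → ℂ) =
      -(((χ : G → ℂ) (y * f ^ 2) + (χ : G → ℂ) (y * f)) / 2) := by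
  have hcf := Characters.Core.isIrr_isClassFunction χ.2
  have hch := Characters.Core.isIrr_isCharacter χ.2
  rw [n4_classInner_aux y f hcf, ← Characters.Core.isCharacter_apply_inv hch,
    ← Characters.Core.isCharacter_apply_inv hch, ← Characters.Core.isCharacter_apply_inv hch,
    ← h.m_yf2, hcf]
  have h1 : (χ : G → ℂ) (y * f⁻¹) = (χ : G → ℂ) (y * f) := by
    rw [← h.n_yf, hcf]
  rcases h.m_yf with ⟨h3, h4⟩ | ⟨h3, h4⟩
  · rw [← h3, ← h4, hcf, hcf, h1]
    ring
  · rw [← h3, ← h4, hcf, hcf, h1]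
    ring

theorem N4.apply_f3 {y f n m : G} (h : N4 y f n m) {χ : G → ℂ} (hχ : IsClassFunction G χ) :
    χ (y * f ^ 3) = χ (y * f) := by
  have h1 : f ^ 3 = f⁻¹ := by
    rw [eq_inv_iff_mul_eq_one, ← pow_succ]
    exact h.f4
  rw [h1, ← h.n_yf, hχ]

theorem N4.isIntegral {y f n m : G} (h : N4 y f n m) {χ : G → ℂ} (hχ : IsCharacter G χ) :
    IsIntegral ℤ ((χ (y * f ^ 2) + χ (y * f)) / 2) :=
  isIntegral_half hχ h.comm h.f4 (h.apply_f3 (Characters.Core.isCharacter_isClassFunction hχ))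

open Classical in
/-- The values. -/
theorem avg_n4F (y f g : G) :
    avg (n4F y f) g = -2 * avg (dl (y * f ^ 2)) g - avg (dl (y * f)) g - avg (dl (y * f⁻¹)) g := by
  simp only [avg_def, n4F_def]
  rw [Finset.sum_sub_distrib, Finset.sum_sub_distrib, ← Finset.mul_sum]

open Classical in
theorem n4Psi_zero {y f g : G} (h2 : ∀ t : G, t⁻¹ * g * t ≠ y * f ^ 2) (h1 : ∀ t : G, t⁻¹ * g * t ≠ y * f)
    (h3 : ∀ t : G, t⁻¹ * g * t ≠ y * f⁻¹) : n4Psi y f g = 0 := by
  rw [n4Psi_def, avg_n4F, avg_dl_of_not h2, avg_dl_of_not h1, avg_dl_of_not h3]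
  ring

open Classical in
theorem n4Psi_yf2 {y f n m : G} (h : N4 y f n m) : n4Psi y f (y * f ^ 2) =
    -((Nat.card (Subgroup.centralizer ({y * f ^ 2} : Set G)) : ℂ) / 2) := by
  have hy0 : 0 < orderOf y := orderOf_pos y
  rw [n4Psi_def, avg_n4F, avg_dl_self, avg_dl_of_not (fun t ht => by
      have h1 := orderOf_conj' (y * f ^ 2) t
      rw [ht, h.orderOf_yf, h.orderOf_yf2] at h1
      omega), avg_dl_of_not (fun t ht => by
      have h1 := orderOf_conj' (y * f ^ 2) t
      rw [ht, h.orderOf_yfi, h.orderOf_yf2] at h1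
      omega)]
  ring

open Classical in
theorem n4Psi_yf {y f n m : G} (h : N4 y f n m) : n4Psi y f (y * f) =
    -((Nat.card (Subgroup.centralizer ({y * f} : Set G)) : ℂ) / 2) := by
  have hy0 : 0 < orderOf y := orderOf_pos y
  rw [n4Psi_def, avg_n4F, avg_dl_self, avg_dl_of_not (fun t ht => by
      have h1 := orderOf_conj' (y * f) t
      rw [ht, h.orderOf_yf, h.orderOf_yf2] at h1
      omega), avg_dl_conj n h.n_yf]
  ring

theorem n4Psi_one {y f n m : G} (h : N4 y f n m) : n4Psi y f 1 = 0 := by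
  have hy0 : 0 < orderOf y := orderOf_pos y
  have e : ∀ t : G, t⁻¹ * 1 * t = 1 := fun t => by group
  refine n4Psi_zero ?_ ?_ ?_
  · intro t ht
    have h1 := h.orderOf_yf2
    rw [← ht, e, orderOf_one] at h1
    omega
  · intro t ht
    have h1 := h.orderOf_yf
    rw [← ht, e, orderOf_one] at h1
    omega
  · intro t ht
    have h1 := h.orderOf_yfi
    rw [← ht, e, orderOf_one] at h1
    omega

/-- The norm is odd. -/
theorem n4_norm {y f n m : G} (h : N4 y f n m) :
    ∃ N : ℕ, Odd N ∧ classInner (n4Psi y f) (n4Psi y f) = N := by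
  have h1 := n4_classInner_aux y f (n4Psi_cf y f)
  rw [n4Psi_real, n4Psi_real, n4Psi_real] at h1
  have h2 : n4Psi y f (y * f⁻¹) = n4Psi y f (y * f) := by
    rw [← h.n_yf]
    exact n4Psi_cf y f _ _
  rw [h2, n4Psi_yf2 h, n4Psi_yf h] at h1
  set a := Nat.card (Subgroup.centralizer ({y * f} : Set G)) with ha
  set b := Nat.card (Subgroup.centralizer ({y * f ^ 2} : Set G)) with hb
  have ha0 : a ≠ 0 := Nat.card_pos.ne'
  obtain ⟨c, hc⟩ := h.eight
  rw [← ha, ← hb] at hc
  obtain ⟨d, hd, hda⟩ : ∃ d : ℕ, Odd d ∧ a = 4 * d := by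
    have h3 := Nat.ordProj_mul_ordCompl_eq_self a 2
    rw [ha, h.card, ← ha] at h3
    refine ⟨a / 2 ^ 2, ?_, by rw [← h3]; norm_num⟩
    have h4 := Nat.not_dvd_ordCompl Nat.prime_two ha0
    rw [ha, h.card, ← ha] at h4
    rw [← Nat.not_even_iff_odd, even_iff_two_dvd]
    exact h4
  refine ⟨2 * (d * c) + d, ?_, ?_⟩
  · exact Even.add_odd (even_two_mul _) hd
  · rw [h1, hc, hda]
    push_cast
    ring

theorem classInner_top (N : Subgroup G) [Fintype N] (hN : N = ⊤) (φ ψ : G → ℂ) :
    classInner (fun n : N => φ n) (fun n : N => ψ n) = classInner φ ψ := by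
  subst hN
  rw [Characters.Core.classInner_def, Characters.Core.classInner_def, Subgroup.card_top]
  congr 1
  exact Fintype.sum_equiv Subgroup.topEquiv.toEquiv _ _ fun _ => rfl

/-- **(N4)** -/
theorem evenS_of_n4 {y f n m : G} (h : N4 y f n m)
    (hB : ∀ M : Ideal AlgInt, IsPModular 2 M → ∀ χ : IrrCharacter G, χ ∉ principalBlock M G →
      MemLocalIdeal M (((χ : G → ℂ) (y * f ^ 2) + (χ : G → ℂ) (y * f)) / 2)) : EvenS G := by
  intro k hk M hM
  have hprime : M.IsPrime := Blocks.Local.isPrime_of_isPModular hM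
  have hfin : Fintype (⊤ : Subgroup G) := Fintype.ofFinite _
  obtain ⟨N, hN, hnorm⟩ := n4_norm h
  obtain ⟨χ, h1, h2, h3, h4⟩ := H612.Base.crit (km_of_isK hk) (⊤ : Subgroup G) hM
    (Ψ := n4Psi y f) (n4Psi_cf y f) (n4Psi_inv h) (n4Psi_real y f) (n4Psi_pow h hk) (fun χ => by
      rw [n4_classInner h]
      exact Blocks.Local.memLocalRing_neg (Blocks.Local.memLocalRing_of_isIntegral
        (h.isIntegral (Characters.Core.isIrr_isCharacter χ.2)))) (by
      rw [classInner_top ⊤ rfl, hnorm, n4Psi_one h]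
      have e : ((N : ℂ) - 0 ^ 2) = N := by ring
      rw [e, Blocks.Local.memLocalIdeal_natCast_iff hM, ← even_iff_two_dvd, Nat.not_even_iff_odd]
      exact hN)
  refine ⟨χ, ?_, h2, h1, ?_⟩
  · by_contra hcon
    apply h4
    rw [n4_classInner h, Blocks.Local.memLocalIdeal_neg_iff]
    exact hB M hM χ hcon
  · intro h5
    obtain ⟨g, -, hg⟩ := h3
    exact hg (by rw [h5])

/-- **(N4)**, with vanishing outside the principal block -/
theorem evenS_of_n4' {y f n m : G} (h : N4 y f n m)
    (hB : ∀ M : Ideal AlgInt, IsPModular 2 M → ∀ χ : IrrCharacter G, χ ∉ principalBlock M G →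
      (χ : G → ℂ) (y * f ^ 2) = 0 ∧ (χ : G → ℂ) (y * f) = 0) : EvenS G := by
  refine evenS_of_n4 h fun M hM χ hχ => ?_
  have hprime : M.IsPrime := Blocks.Local.isPrime_of_isPModular hM
  rw [(hB M hM χ hχ).1, (hB M hM χ hχ).2]
  have e : ((0 : ℂ) + 0) / 2 = 0 := by ring
  rw [e]
  exact Blocks.Local.memLocalIdeal_zero

end

end Cfsg.Agent.H684.EB
end

-- part: H684/EB/Ord8
section
/-!
# Nonabelian groups of order 8

`exists_four`: an automorphism of 2-power order of a nonabelian group of order 8 normalizes a cyclic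
subgroup of order 4.
-/

set_option autoImplicit false

namespace Cfsg.Agent.H684.EB.Ord8

variable {Q : Type*} [Group Q]

theorem card_center (hQ : Nat.card Q = 8) (hna : ¬ ∀ a b : Q, a * b = b * a) :
    Nat.card (Subgroup.center Q) = 2 := by
  have : Finite Q := Nat.finite_of_card_ne_zero (by rw [hQ]; norm_num)
  have : Fact (Nat.Prime 2) := ⟨Nat.prime_two⟩
  have hp : IsPGroup 2 Q := IsPGroup.of_card (n := 3) (by rw [hQ]; norm_num)
  have hnt : Nontrivial Q := by
    rw [← Finite.one_lt_card_iff_nontrivial, hQ]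
    norm_num
  have h1 : Nat.card (Subgroup.center Q) ∣ 2 ^ 3 := by
    have := Subgroup.card_subgroup_dvd_card (Subgroup.center Q)
    rwa [hQ] at this
  obtain ⟨i, hi, hc⟩ := (Nat.dvd_prime_pow Nat.prime_two).1 h1
  have h2 : Nontrivial (Subgroup.center Q) := hp.center_nontrivial
  have h3 : i ≠ 0 := by
    rintro rfl
    rw [← Finite.one_lt_card_iff_nontrivial, hc] at h2
    norm_num at h2
  have hidx := Subgroup.card_mul_index (Subgroup.center Q)
  rw [hQ, hc] at hidx
  have hcyc : ¬ IsCyclic (Q ⧸ Subgroup.center Q) := by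
    intro h
    apply hna
    exact commutative_of_cyclic_center_quotient (QuotientGroup.mk' (Subgroup.center Q)) (by
      rw [QuotientGroup.ker_mk'])
  rcases (by omega : i = 1 ∨ i = 2 ∨ i = 3) with rfl | rfl | rfl
  · rw [hc, pow_one]
  · exfalso
    apply hcyc
    have h4 : Nat.card (Q ⧸ Subgroup.center Q) = 2 := by
      show (Subgroup.center Q).index = 2
      omega
    exact isCyclic_of_prime_card h4
  · exfalso
    apply hcyc
    have h4 : Nat.card (Q ⧸ Subgroup.center Q) = 1 := by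
      show (Subgroup.center Q).index = 1
      omega
    have := (Nat.card_eq_one_iff_unique.1 h4).1
    exact isCyclic_of_subsingleton

theorem card_quot (hQ : Nat.card Q = 8) (hna : ¬ ∀ a b : Q, a * b = b * a) :
    Nat.card (Q ⧸ Subgroup.center Q) = 4 := by
  have h1 := card_center hQ hna
  have h2 := Subgroup.card_mul_index (Subgroup.center Q)
  rw [h1, hQ] at h2
  show (Subgroup.center Q).index = 4
  omega

theorem sq_mem (hQ : Nat.card Q = 8) (hna : ¬ ∀ a b : Q, a * b = b * a) (x : Q) :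
    x ^ 2 ∈ Subgroup.center Q := by
  have : Finite Q := Nat.finite_of_card_ne_zero (by rw [hQ]; norm_num)
  have : Fact (Nat.Prime 2) := ⟨Nat.prime_two⟩
  have hcyc : ¬ IsCyclic (Q ⧸ Subgroup.center Q) := by
    intro h
    apply hna
    exact commutative_of_cyclic_center_quotient (QuotientGroup.mk' (Subgroup.center Q)) (by
      rw [QuotientGroup.ker_mk'])
  have h1 : Monoid.exponent (Q ⧸ Subgroup.center Q) = 2 :=
    (not_isCyclic_iff_exponent_eq_prime Nat.prime_two (by rw [card_quot hQ hna]; norm_num)).1 hcyc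
  have h2 : (QuotientGroup.mk x : Q ⧸ Subgroup.center Q) ^ 2 = 1 := by
    rw [← h1]
    exact Monoid.pow_exponent_eq_one _
  rw [← QuotientGroup.mk_pow] at h2
  exact (QuotientGroup.eq_one_iff _).1 h2

/-- the central involution -/
theorem exists_z (hQ : Nat.card Q = 8) (hna : ¬ ∀ a b : Q, a * b = b * a) :
    ∃ z : Q, z ≠ 1 ∧ z * z = 1 ∧ ∀ x, x ∈ Subgroup.center Q ↔ x = 1 ∨ x = z := by
  have h1 := card_center hQ hna
  obtain ⟨a, b, hab, huniv⟩ := Nat.card_eq_two_iff.1 h1
  have hmem : ∀ x : Subgroup.center Q, x = a ∨ x = b := by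
    intro x
    have : x ∈ ({a, b} : Set (Subgroup.center Q)) := by
      rw [huniv]
      exact Set.mem_univ _
    simpa using this
  obtain ⟨z, hz, hz1⟩ : ∃ z : Subgroup.center Q, z ≠ 1 ∧ ∀ x, x = 1 ∨ x = z := by
    rcases hmem 1 with h | h
    · refine ⟨b, fun h2 => hab (h.symm.trans h2.symm), fun x => ?_⟩
      rw [h]
      exact hmem x
    · refine ⟨a, fun h2 => hab (h2.trans h), fun x => ?_⟩
      rw [h]
      exact (hmem x).symm
  refine ⟨z, fun h => hz (Subtype.ext h), ?_, fun x => ⟨fun hx => ?_, fun hx => ?_⟩⟩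
  · rcases hz1 (z * z) with h | h
    · exact congrArg Subtype.val h
    · exfalso
      apply hz
      have h2 : z * z = z * 1 := by rw [h, mul_one]
      exact mul_left_cancel h2
  · rcases hz1 ⟨x, hx⟩ with h | h
    · left
      exact congrArg Subtype.val h
    · right
      exact congrArg Subtype.val h
  · rcases hx with rfl | rfl
    · exact one_mem _
    · exact z.2

theorem comm_mem (hQ : Nat.card Q = 8) (hna : ¬ ∀ a b : Q, a * b = b * a) (x y : Q) :
    ∃ c ∈ Subgroup.center Q, x * y * x⁻¹ = y * c := by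
  refine ⟨y⁻¹ * (x * y * x⁻¹), ?_, by group⟩
  -- the quotient has exponent two
  have h : ∀ a : Q, (QuotientGroup.mk a : Q ⧸ Subgroup.center Q) * QuotientGroup.mk a = 1 := by
    intro a
    rw [← QuotientGroup.mk_mul, QuotientGroup.eq_one_iff, ← pow_two]
    exact sq_mem hQ hna a
  have h2 : ∀ a b : Q ⧸ Subgroup.center Q, a * b = b * a := by
    intro a b
    obtain ⟨a, rfl⟩ := QuotientGroup.mk_surjective a
    obtain ⟨b, rfl⟩ := QuotientGroup.mk_surjective b
    have h3 := h (a * b)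
    have ha := h a
    have hb := h b
    rw [QuotientGroup.mk_mul] at h3
    have h4 : (QuotientGroup.mk a : Q ⧸ Subgroup.center Q)⁻¹ = QuotientGroup.mk a :=
      inv_eq_of_mul_eq_one_left ha
    have h5 : (QuotientGroup.mk b : Q ⧸ Subgroup.center Q)⁻¹ = QuotientGroup.mk b :=
      inv_eq_of_mul_eq_one_left hb
    have h6 := inv_eq_of_mul_eq_one_left h3
    rw [mul_inv_rev, h4, h5] at h6
    exact h6.symm
  rw [← QuotientGroup.eq_one_iff, QuotientGroup.mk_mul, QuotientGroup.mk_mul, QuotientGroup.mk_mul,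
    QuotientGroup.mk_inv, QuotientGroup.mk_inv, h2 (x : Q ⧸ Subgroup.center Q) y, mul_inv_cancel_right,
    inv_mul_cancel]

/-- **An automorphism of 2-power order of a nonabelian group of order 8 normalizes a cyclic subgroup of
order 4.** -/
theorem exists_four (hQ : Nat.card Q = 8) (hna : ¬ ∀ a b : Q, a * b = b * a) (α : MulAut Q)
    (hα : ∃ j : ℕ, α ^ 2 ^ j = 1) :
    ∃ f n : Q, orderOf f = 4 ∧ n * f * n⁻¹ = f⁻¹ ∧ (α f = f ∨ α f = f⁻¹) := by
  classical
  have hfin : Finite Q := Nat.finite_of_card_ne_zero (by rw [hQ]; norm_num)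
  have : Fact (Nat.Prime 2) := ⟨Nat.prime_two⟩
  obtain ⟨z, hz1, hzz, hz⟩ := exists_z hQ hna
  have hzc : ∀ x : Q, x * z = z * x := fun x =>
    Subgroup.mem_center_iff.1 ((hz z).2 (Or.inr rfl)) x
  have hαz : ∀ x, x ∈ Subgroup.center Q → α x ∈ Subgroup.center Q := by
    intro x hx
    rw [Subgroup.mem_center_iff] at hx ⊢
    intro g
    have h1 := congrArg α (hx (α.symm g))
    rw [map_mul, map_mul, MulEquiv.apply_symm_apply] at h1
    exact h1
  have hαz1 : α z = z := by
    rcases (hz _).1 (hαz z ((hz z).2 (Or.inr rfl))) with h | h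
    · exfalso
      apply hz1
      apply α.injective
      rw [h, map_one]
    · exact h
  -- the general end of the proof
  have hend : ∀ f : Q, f * f ≠ 1 → (α f = f ∨ α f = f * z) →
      ∃ f n : Q, orderOf f = 4 ∧ n * f * n⁻¹ = f⁻¹ ∧ (α f = f ∨ α f = f⁻¹) := by
    intro f hf hαf
    have h1 : f * f = z := by
      have h2 := sq_mem hQ hna f
      rw [hz, pow_two] at h2
      exact h2.resolve_left hf
    have h2 : f * z = f⁻¹ := by
      rw [eq_inv_iff_mul_eq_one, mul_assoc, ← hzc, ← mul_assoc, h1, hzz]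
    have h3 : ¬ ∀ n : Q, n * f = f * n := by
      intro hcon
      have h4 : f ∈ Subgroup.center Q := Subgroup.mem_center_iff.2 hcon
      rcases (hz f).1 h4 with h5 | h5
      · apply hf
        rw [h5, mul_one]
      · apply hf
        rw [h5, hzz]
    push Not at h3
    obtain ⟨n, hn⟩ := h3
    obtain ⟨c, hc, hc2⟩ := comm_mem hQ hna n f
    refine ⟨f, n, ?_, ?_, ?_⟩
    · have h4 : orderOf f = 2 ^ (1 + 1) := by
        apply orderOf_eq_prime_pow
        · rw [pow_one, pow_two]
          exact hf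
        · rw [show 2 ^ (1 + 1) = 2 * 2 from rfl, pow_mul, pow_two f, h1, pow_two, hzz]
      rw [h4]
      norm_num
    · rcases (hz c).1 hc with rfl | rfl
      · exfalso
        apply hn
        rw [mul_one, mul_inv_eq_iff_eq_mul] at hc2
        exact hc2
      · rw [hc2, h2]
    · rwa [h2] at hαf
  -- a fixed class
  let Z := Subgroup.center Q
  have hZ : Z.map (α : Q →* Q) = Z := by
    apply le_antisymm
    · rintro x ⟨y, hy, rfl⟩
      exact hαz y hy
    · intro x hx
      rcases (hz x).1 hx with rfl | rfl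
      · exact one_mem _
      · exact ⟨x, hx, hαz1⟩
  let β : (Q ⧸ Z) ≃* (Q ⧸ Z) := QuotientGroup.congr Z Z α hZ
  have hβ : ∀ x : Q, β (x : Q ⧸ Z) = ((α x : Q) : Q ⧸ Z) := fun x => rfl
  have hβpow : ∀ (m : ℕ) (x : Q), (((β : MulAut (Q ⧸ Z)) ^ m) (x : Q ⧸ Z)) = (((α ^ m) x : Q) : Q ⧸ Z) := by
    intro m
    induction m with
    | zero =>
      intro x
      rfl
    | succ m ih =>
      intro x
      rw [pow_succ, MulAut.mul_apply, pow_succ, MulAut.mul_apply,
        show (β : MulAut (Q ⧸ Z)) (x : Q ⧸ Z) = ((α x : Q) : Q ⧸ Z) from rfl, ih]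
  obtain ⟨j, hj⟩ := hα
  let σ : Equiv.Perm {c : Q ⧸ Z // c ≠ 1} :=
    { toFun := fun c => ⟨β c, fun h => c.2 (by
        apply β.injective
        rw [h, map_one])⟩
      invFun := fun c => ⟨β.symm c, fun h => c.2 (by
        apply β.symm.injective
        rw [h, map_one])⟩
      left_inv := fun c => Subtype.ext (β.symm_apply_apply _)
      right_inv := fun c => Subtype.ext (β.apply_symm_apply _) }
  have hσ : ∀ c, ((σ c : {c : Q ⧸ Z // c ≠ 1}) : Q ⧸ Z) = β c := fun c => rfl
  have hσpow : ∀ (m : ℕ) (c : {c : Q ⧸ Z // c ≠ 1}),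
      (((σ ^ m) c : {c : Q ⧸ Z // c ≠ 1}) : Q ⧸ Z) = ((β : MulAut (Q ⧸ Z)) ^ m) c := by
    intro m
    induction m with
    | zero =>
      intro c
      rfl
    | succ m ih =>
      intro c
      rw [pow_succ, Equiv.Perm.mul_apply, ih, hσ, pow_succ, MulAut.mul_apply]
  have hσ1 : σ ^ 2 ^ j = 1 := by
    apply Equiv.ext
    intro c
    apply Subtype.ext
    rw [hσpow]
    obtain ⟨x, hx⟩ := QuotientGroup.mk_surjective (c : Q ⧸ Z)
    rw [← hx, hβpow, hj, Equiv.Perm.one_apply, MulAut.one_apply, hx]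
  have hcardQ := card_quot hQ hna
  have : Fintype (Q ⧸ Z) := Fintype.ofFinite _
  have hcard : ¬ 2 ∣ Fintype.card {c : Q ⧸ Z // c ≠ 1} := by
    rw [Fintype.card_subtype_compl, Fintype.card_subtype_eq, ← Nat.card_eq_fintype_card, hcardQ]
    norm_num
  obtain ⟨⟨c, hc1⟩, hc2⟩ := Equiv.Perm.exists_fixed_point_of_prime hcard hσ1
  have hc3 : β c = c := congrArg Subtype.val hc2
  obtain ⟨x, rfl⟩ := QuotientGroup.mk_surjective c
  have hcls : ∀ a b : Q, (a : Q ⧸ Z) = b → b = a ∨ b = a * z := by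
    intro a b hab
    rw [QuotientGroup.eq] at hab
    rcases (hz _).1 hab with h | h
    · left
      exact (inv_mul_eq_one.1 h).symm
    · right
      rw [← h]
      group
  have hx1 : α x = x ∨ α x = x * z := hcls _ _ hc3.symm
  by_cases hxx : x * x = 1
  swap
  · exact hend x hxx hx1
  -- `x` is a noncentral involution
  have hxc : x ∉ Z := fun h => hc1 ((QuotientGroup.eq_one_iff x).2 h)
  obtain ⟨f, hf⟩ : ∃ f : Q, f * f ≠ 1 := by
    by_contra hcon
    push Not at hcon
    apply hna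
    intro a b
    have ha := inv_eq_of_mul_eq_one_left (hcon a)
    have hb := inv_eq_of_mul_eq_one_left (hcon b)
    have h3 := inv_eq_of_mul_eq_one_left (hcon (a * b))
    rw [mul_inv_rev, ha, hb] at h3
    exact h3.symm
  have hff : f * f = z := by
    have h2 := sq_mem hQ hna f
    rw [hz, pow_two] at h2
    exact h2.resolve_left hf
  -- squares of the elements of a class
  have hsq : ∀ a b : Q, (a : Q ⧸ Z) = b → b * b = a * a := by
    intro a b hab
    rcases hcls a b hab with rfl | rfl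
    · rfl
    · rw [mul_assoc, ← mul_assoc z a z, ← hzc a, mul_assoc a z z, hzz, mul_one]
  have hfc : (f : Q ⧸ Z) ≠ 1 := by
    intro h
    have h2 := hsq 1 f (by rw [h]; rfl)
    rw [mul_one] at h2
    exact hf h2
  have hfx : (f : Q ⧸ Z) ≠ (x : Q ⧸ Z) := by
    intro h
    have h2 := hsq _ _ h
    rw [hxx] at h2
    exact hf h2.symm
  -- the four classes
  have hfour : ∀ g : Q, (g : Q ⧸ Z) = 1 ∨ (g : Q ⧸ Z) = x ∨ (g : Q ⧸ Z) = f ∨ (g : Q ⧸ Z) = ((x * f : Q) : Q ⧸ Z) := by
    have h1 : ((x * f : Q) : Q ⧸ Z) ≠ 1 := by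
      intro h
      have h2 : ((x * f : Q) : Q ⧸ Z) = ((x * x : Q) : Q ⧸ Z) := by
        rw [h, hxx]
        rfl
      rw [QuotientGroup.mk_mul, QuotientGroup.mk_mul] at h2
      exact hfx (mul_left_cancel h2)
    have h2 : ((x * f : Q) : Q ⧸ Z) ≠ x := by
      intro h
      rw [QuotientGroup.mk_mul] at h
      exact hfc (mul_left_cancel (h.trans (mul_one _).symm))
    have h3 : ((x * f : Q) : Q ⧸ Z) ≠ f := by
      intro h
      rw [QuotientGroup.mk_mul] at h
      exact hc1 (mul_right_cancel (h.trans (one_mul _).symm))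
    have h4 : ({1, (x : Q ⧸ Z), (f : Q ⧸ Z), ((x * f : Q) : Q ⧸ Z)} : Finset (Q ⧸ Z)) = Finset.univ := by
      apply Finset.eq_univ_of_card
      rw [← Nat.card_eq_fintype_card, hcardQ, Finset.card_insert_of_notMem, Finset.card_insert_of_notMem,
        Finset.card_insert_of_notMem, Finset.card_singleton]
      · rw [Finset.mem_singleton]
        exact h3.symm
      · rw [Finset.mem_insert, Finset.mem_singleton]
        push Not
        exact ⟨hfx.symm, h2.symm⟩
      · rw [Finset.mem_insert, Finset.mem_insert, Finset.mem_singleton]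
        push Not
        exact ⟨fun h => hc1 h.symm, fun h => hfc h.symm, fun h => h1 h.symm⟩
    intro g
    have h5 : (g : Q ⧸ Z) ∈ ({1, (x : Q ⧸ Z), (f : Q ⧸ Z), ((x * f : Q) : Q ⧸ Z)} : Finset (Q ⧸ Z)) := by
      rw [h4]
      exact Finset.mem_univ _
    simpa only [_root_.QuotientGroup.eq_one_iff, _root_.QuotientGroup.mk_mul, _root_.Finset.mem_insert, _root_.Finset.mem_singleton] using h5
  -- `x` and `f` do not commute
  have hxf : x * f ≠ f * x := by
    intro hcom
    apply hxc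
    show x ∈ Subgroup.center Q
    rw [Subgroup.mem_center_iff]
    have hzcom : ∀ a b : Q, x * a = a * x → (a : Q ⧸ Z) = b → x * b = b * x := by
      intro a b ha hab
      rcases hcls a b hab with rfl | rfl
      · exact ha
      · rw [← mul_assoc, ha, mul_assoc, mul_assoc, hzc x]
    intro g
    rcases hfour g with h | h | h | h
    · exact (hzcom 1 g (by rw [mul_one, one_mul]) (by rw [h]; rfl)).symm
    · exact (hzcom x g rfl h.symm).symm
    · exact (hzcom f g hcom h.symm).symm
    · refine (hzcom (x * f) g ?_ h.symm).symm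
      rw [mul_assoc, ← hcom]
  have hfxz : x * f * x⁻¹ = f * z := by
    obtain ⟨c, hc, hc2⟩ := comm_mem hQ hna x f
    rcases (hz c).1 hc with rfl | rfl
    · exfalso
      apply hxf
      rw [mul_one, mul_inv_eq_iff_eq_mul] at hc2
      exact hc2
    · exact hc2
  have hxfxf : x * f * (x * f) = 1 := by
    have h1 : x * f = f * z * x := by
      rw [← mul_inv_eq_iff_eq_mul]
      exact hfxz
    calc x * f * (x * f) = f * z * x * (x * f) := by rw [h1]
      _ = f * z * (x * x) * f := by group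
      _ = f * z * f := by rw [hxx, mul_one]
      _ = f * f * z := by rw [mul_assoc, ← hzc f, mul_assoc]
      _ = 1 := by rw [hff, hzz]
  refine hend f hf ?_
  apply hcls
  have hαff : α f * α f = z := by rw [← map_mul, hff, hαz1]
  rcases hfour (α f) with h | h | h | h
  · exfalso
    have h2 := hsq 1 (α f) (by rw [h]; rfl)
    rw [hαff, mul_one] at h2
    exact hz1 h2
  · exfalso
    have h2 := hsq x (α f) h.symm
    rw [hαff, hxx] at h2
    exact hz1 h2
  · exact h.symm
  · exfalso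
    have h2 := hsq (x * f) (α f) h.symm
    rw [hαff, hxfxf] at h2
    exact hz1 h2

end Cfsg.Agent.H684.EB.Ord8
end

-- part: H684/EB/N8
section
/-!
# TEAM EB, criterion (N8) [T06]

`y` real of odd order, the Sylow 2-subgroups of `C(y)` nonabelian of order 8.

* `exists_n4`: the data of (N4);
* `n4_function`, `n8_function`: the class function with all its properties;
* `evenS_of_n4_oneBlock`, `evenS_of_n8`: the conclusion for `G = S`.
-/

set_option autoImplicit false
set_option linter.unusedSectionVars false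

namespace Cfsg.Agent.H684.EB

open Cfsg Cfsg.Agent.H610.EB
open scoped ComplexConjugate

universe u v

section
variable {S : Type u} [Group S]

open scoped Pointwise in
/-- The data of (N4) from a nonabelian Sylow 2-subgroup of order 8 of the centralizer. -/
theorem exists_n4_aux [Finite S] (y : S) (hodd : Odd (orderOf y)) (hreal : IsConj y y⁻¹)
    (C : Subgroup S) (hCm : ∀ x : S, x ∈ C ↔ Commute x y) (Q : Sylow 2 C) (P : Subgroup C)
    (hP : (Q : Subgroup C) = P) (hQ : Nat.card P = 8) (hna' : ¬ ∀ a b : P, a * b = b * a)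
    (z : S) (hz : orderOf z = 2) (hzQ : ∀ q ∈ P, Commute z (q : S)) (hzy : Commute z y) :
    ∃ f n m : S, N4 y f n m ∧ f ^ 2 = z := by
  classical
  have : Fact (Nat.Prime 2) := ⟨Nat.prime_two⟩
  have hPmem : ∀ x : C, x ∈ Q ↔ x ∈ P := fun x => by rw [← hP]; rfl
  -- an inverting element normalizing `Q`
  obtain ⟨g, hg⟩ := isConj_iff.1 hreal
  have hgC : ∀ x : S, x ∈ C → g * x * g⁻¹ ∈ C := by
    intro x hx
    rw [hCm] at hx ⊢
    have h1 : Commute (g * x * g⁻¹) (g * y * g⁻¹) := by
      have := hx.map (MulAut.conj g)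
      rwa [MulAut.conj_apply, MulAut.conj_apply] at this
    rw [hg] at h1
    simpa only [_root_.inv_inv] using h1.inv_right
  have hgi : g⁻¹ * y * g = y⁻¹ := by
    have h1 : y = (g * y * g⁻¹)⁻¹ := by rw [hg, inv_inv]
    nth_rewrite 1 [h1]
    group
  have hgC' : ∀ x : S, x ∈ C → g⁻¹ * x * g ∈ C := by
    intro x hx
    rw [hCm] at hx ⊢
    have h1 : Commute (g⁻¹ * x * g) (g⁻¹ * y * g) := by
      have := hx.map (MulAut.conj g⁻¹)
      rwa [MulAut.conj_apply, MulAut.conj_apply, inv_inv] at this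
    rw [hgi] at h1
    simpa only [_root_.inv_inv] using h1.inv_right
  let γ : MulAut C :=
    { toFun := fun x => ⟨g * x * g⁻¹, hgC x x.2⟩
      invFun := fun x => ⟨g⁻¹ * x * g, hgC' x x.2⟩
      left_inv := fun x => Subtype.ext (by
        show g⁻¹ * (g * x * g⁻¹) * g = x
        group)
      right_inv := fun x => Subtype.ext (by
        show g * (g⁻¹ * x * g) * g⁻¹ = x
        group)
      map_mul' := fun a b => Subtype.ext (by
        show g * (a * b) * g⁻¹ = g * a * g⁻¹ * (g * b * g⁻¹)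
        group) }
  have hγ : ∀ x : C, ((γ x : C) : S) = g * x * g⁻¹ := fun x => rfl
  obtain ⟨c, hc⟩ := MulAction.exists_smul_eq C (γ • Q) Q
  obtain ⟨m0, hm0⟩ : ∃ m0 : S, m0 = c * g := ⟨_, rfl⟩
  have hm0y : m0 * y * m0⁻¹ = y⁻¹ := by
    have h1 : (c : S) * y⁻¹ * (c : S)⁻¹ = y⁻¹ := by
      have h2 := ((hCm c).1 c.2).inv_right
      rw [h2.eq, mul_inv_cancel_right]
    calc m0 * y * m0⁻¹ = c * (g * y * g⁻¹) * (c : S)⁻¹ := by
          rw [hm0]
          group
      _ = y⁻¹ := by rw [hg, h1]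
  have hm0Q : ∀ q : C, q ∈ P → ∃ q' : C, q' ∈ P ∧ (q' : S) = m0 * q * m0⁻¹ := by
    intro q hq
    rw [← hPmem] at hq
    refine ⟨c * γ q * c⁻¹, ?_, ?_⟩
    · have h1 : γ q ∈ (γ • Q : Sylow 2 C) := by
        show γ q ∈ ((γ • Q : Sylow 2 C) : Subgroup C)
        rw [Sylow.pointwise_smul_def]
        exact Subgroup.smul_mem_pointwise_smul q γ (Q : Subgroup C) hq
      have h2 : c * γ q * c⁻¹ ∈ (c • (γ • Q) : Sylow 2 C) := by
        have h3 : c • (γ • Q) = MulAut.conj c • (γ • Q) := Sylow.smul_def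
        rw [h3]
        show c * γ q * c⁻¹ ∈ ((MulAut.conj c • (γ • Q) : Sylow 2 C) : Subgroup C)
        rw [Sylow.pointwise_smul_def]
        have h4 := Subgroup.smul_mem_pointwise_smul (γ q) (MulAut.conj c) ((γ • Q : Sylow 2 C) : Subgroup C) h1
        rwa [MulAut.smul_def, MulAut.conj_apply] at h4
      rw [hc] at h2
      exact (hPmem _).1 h2
    · show (c : S) * (g * q * g⁻¹) * (c : S)⁻¹ = _
      rw [hm0]
      group
  -- the 2-part
  obtain ⟨a, j, hj, haj⟩ := Nat.exists_eq_two_pow_mul_odd (orderOf_pos m0).ne'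
  obtain ⟨m, hm⟩ : ∃ m : S, m = m0 ^ j := ⟨_, rfl⟩
  have hmy : m * y * m⁻¹ = y⁻¹ := by
    have h1 : ∀ i : ℕ, m0 ^ (2 * i) * y * (m0 ^ (2 * i))⁻¹ = y := by
      intro i
      induction i with
      | zero => simp
      | succ i ih =>
        have h2 : m0 ^ (2 * (i + 1)) = m0 * m0 * m0 ^ (2 * i) := by
          rw [show 2 * (i + 1) = 2 * i + 1 + 1 by ring, pow_succ', pow_succ']
          exact (mul_assoc _ _ _).symm
        rw [h2]
        calc m0 * m0 * m0 ^ (2 * i) * y * (m0 * m0 * m0 ^ (2 * i))⁻¹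
            = m0 * (m0 * (m0 ^ (2 * i) * y * (m0 ^ (2 * i))⁻¹) * m0⁻¹) * m0⁻¹ := by group
          _ = m0 * y⁻¹ * m0⁻¹ := by rw [ih, hm0y]
          _ = (m0 * y * m0⁻¹)⁻¹ := by group
          _ = y := by rw [hm0y, inv_inv]
    obtain ⟨i, rfl⟩ := hj
    rw [hm, pow_succ']
    calc m0 * m0 ^ (2 * i) * y * (m0 * m0 ^ (2 * i))⁻¹
        = m0 * (m0 ^ (2 * i) * y * (m0 ^ (2 * i))⁻¹) * m0⁻¹ := by group
      _ = y⁻¹ := by rw [h1, hm0y]
  have hm2 : m ^ 2 ^ a = 1 := by
    rw [hm, ← pow_mul, mul_comm, ← haj, pow_orderOf_eq_one]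
  have hmQ : ∀ q : C, q ∈ P → ∃ q' : C, q' ∈ P ∧ (q' : S) = m * q * m⁻¹ := by
    have h1 : ∀ i : ℕ, ∀ q : C, q ∈ P → ∃ q' : C, q' ∈ P ∧ (q' : S) = m0 ^ i * q * (m0 ^ i)⁻¹ := by
      intro i
      induction i with
      | zero => exact fun q hq => ⟨q, hq, by simp⟩
      | succ i ih =>
        intro q hq
        obtain ⟨q1, hq1, e1⟩ := ih q hq
        obtain ⟨q2, hq2, e2⟩ := hm0Q q1 hq1
        refine ⟨q2, hq2, ?_⟩
        rw [e2, e1, pow_succ']
        group
    rw [hm]
    exact h1 j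
  -- the automorphism of `Q`
  choose φ hφ1 hφ2 using hmQ
  have hinj : ∀ (a b : C) (ha : a ∈ P) (hb : b ∈ P), φ a ha = φ b hb → a = b := by
    intro a b ha hb h
    have h1 : m * (a : S) * m⁻¹ = m * (b : S) * m⁻¹ := by rw [← hφ2 a ha, ← hφ2 b hb, h]
    exact Subtype.ext (mul_left_cancel (mul_right_cancel h1))
  let α0 : P →* P :=
    { toFun := fun q => ⟨φ q q.2, hφ1 q q.2⟩
      map_one' := Subtype.ext (Subtype.ext (by
        show ((φ ((1 : P) : C) (1 : P).2 : C) : S) = 1
        rw [hφ2]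
        show m * 1 * m⁻¹ = 1
        group))
      map_mul' := fun a b => Subtype.ext (Subtype.ext (by
        show ((φ ((a * b : P) : C) (a * b : P).2 : C) : S) = (φ a a.2 : C) * (φ b b.2 : C)
        rw [hφ2, hφ2, hφ2]
        show m * (((a : C) : S) * ((b : C) : S)) * m⁻¹ = _
        group)) }
  have hα0 : ∀ q : P, (((α0 q : P) : C) : S) = m * ((q : C) : S) * m⁻¹ := fun q => hφ2 q q.2
  have hα0i : Function.Injective α0 := by
    intro a b h
    apply Subtype.ext
    exact hinj a b a.2 b.2 (congrArg Subtype.val h)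
  let α : MulAut P := MulEquiv.ofBijective α0 (Finite.injective_iff_bijective.1 hα0i)
  have hα : ∀ q : P, (((α q : P) : C) : S) = m * ((q : C) : S) * m⁻¹ := hα0
  have hαpow : ∀ (i : ℕ) (q : P), ((((α ^ i) q : P) : C) : S) = m ^ i * ((q : C) : S) * (m ^ i)⁻¹ := by
    intro i
    induction i with
    | zero =>
      intro q
      simp
    | succ i ih =>
      intro q
      rw [pow_succ, MulAut.mul_apply, ih, hα, pow_succ]
      group
  obtain ⟨f, n, hf4, hnf, hαf⟩ := Ord8.exists_four hQ hna' α ⟨a, by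
    apply MulEquiv.ext
    intro q
    apply Subtype.ext
    apply Subtype.ext
    rw [hαpow, hm2, MulAut.one_apply]
    group⟩
  have hfS : orderOf ((f : C) : S) = 4 := by
    rw [Subgroup.orderOf_coe, Subgroup.orderOf_coe, hf4]
  have hnfS : ((n : C) : S) * ((f : C) : S) * ((n : C) : S)⁻¹ = ((f : C) : S)⁻¹ :=
    congrArg (fun x : P => ((x : C) : S)) hnf
  have hfy : Commute y ((f : C) : S) := ((hCm _).1 (f : C).2).symm
  -- `z` and `f ^ 2`
  obtain ⟨z0, hz01, hz0z0, hz0⟩ := Ord8.exists_z hQ hna'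
  have hzC : z ∈ C := (hCm z).2 hzy
  have hzQm : (⟨z, hzC⟩ : C) ∈ P := by
    -- `Q ⊔ ⟨z⟩` is a 2-group
    have h1 : ((Q : Subgroup C) ⊔ Subgroup.zpowers (⟨z, hzC⟩ : C)) = Q := by
      apply Q.3
      · have h2 : Subgroup.zpowers (⟨z, hzC⟩ : C) ≤ Subgroup.centralizer ((Q : Subgroup C) : Set C) := by
          rw [Subgroup.zpowers_le, Subgroup.mem_centralizer_iff]
          intro q hq
          apply Subtype.ext
          exact (hzQ q ((hPmem q).1 hq)).eq.symm
        refine IsPGroup.to_sup_of_normal_left' Q.2 ?_ (h2.trans (Subgroup.centralizer_le_normalizer _))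
        apply IsPGroup.of_card (n := 1)
        rw [Nat.card_zpowers, ← Subgroup.orderOf_coe, pow_one]
        exact hz
      · exact le_sup_left
    rw [← hP, ← h1]
    exact (le_sup_right : _ ≤ (Q : Subgroup C) ⊔ Subgroup.zpowers (⟨z, hzC⟩ : C)) (Subgroup.mem_zpowers _)
  have hzz0 : (⟨⟨z, hzC⟩, hzQm⟩ : P) = z0 := by
    have h1 : (⟨⟨z, hzC⟩, hzQm⟩ : P) ∈ Subgroup.center P := by
      rw [Subgroup.mem_center_iff]
      intro q
      apply Subtype.ext
      apply Subtype.ext
      exact (hzQ q q.2).eq.symm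
    rcases (hz0 _).1 h1 with h2 | h2
    · exfalso
      have h3 : z = 1 := congrArg (fun x : P => ((x : C) : S)) h2
      rw [h3, orderOf_one] at hz
      norm_num at hz
    · exact h2
  have hf2 : ((f : C) : S) ^ 2 = z := by
    have h1 := Ord8.sq_mem hQ hna' f
    rcases (hz0 _).1 h1 with h2 | h2
    · exfalso
      have h3 := orderOf_dvd_of_pow_eq_one h2
      rw [hf4] at h3
      exact absurd h3 (by decide)
    · rw [← hzz0] at h2
      have h3 := congrArg (fun x : P => ((x : C) : S)) h2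
      simpa using h3
  refine ⟨f, n, m, ⟨hodd, hfS, hfy, (hCm _).1 (n : C).2, hnfS, hmy, ?_, ?_⟩, hf2⟩
  · rcases hαf with h1 | h1
    · left
      rw [← hα, h1]
    · right
      rw [← hα, h1]
      rfl
  -- the 2-part of the centralizer of `y f`
  obtain ⟨H, hH⟩ : ∃ H : Subgroup S, H = Subgroup.centralizer ({y * ((f : C) : S)} : Set S) := ⟨_, rfl⟩
  rw [← hH]
  have hHm : ∀ g, g ∈ H ↔ Commute g y ∧ Commute g ((f : C) : S) := by
    intro g
    -- as in N4
    rw [hH, Subgroup.mem_centralizer_singleton_iff]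
    constructor
    · intro h1
      have hc : Commute g (y * ((f : C) : S)) := h1
      obtain ⟨a, ha0, ha1⟩ := Nat.chineseRemainder
        (show Nat.Coprime (orderOf y) 4 from (Nat.coprime_two_right.2 hodd).pow_right 2) 1 0
      obtain ⟨b, hb0, hb1⟩ := Nat.chineseRemainder
        (show Nat.Coprime (orderOf y) 4 from (Nat.coprime_two_right.2 hodd).pow_right 2) 0 1
      have h2 : (y * ((f : C) : S)) ^ a = y := by
        rw [hfy.mul_pow]
        have h3 : y ^ a = y := by
          nth_rewrite 2 [← pow_one y]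
          rw [pow_eq_pow_iff_modEq]
          exact ha0
        have h4 : ((f : C) : S) ^ a = 1 := by
          rw [← pow_zero ((f : C) : S), pow_eq_pow_iff_modEq, hfS]
          exact ha1
        rw [h3, h4, mul_one]
      have h2' : (y * ((f : C) : S)) ^ b = ((f : C) : S) := by
        rw [hfy.mul_pow]
        have h3 : ((f : C) : S) ^ b = ((f : C) : S) := by
          nth_rewrite 2 [← pow_one ((f : C) : S)]
          rw [pow_eq_pow_iff_modEq, hfS]
          exact hb1
        have h4 : y ^ b = 1 := by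
          rw [← pow_zero y, pow_eq_pow_iff_modEq]
          exact hb0
        rw [h3, h4, one_mul]
      constructor
      · have h5 := hc.pow_right a
        rwa [h2] at h5
      · have h5 := hc.pow_right b
        rwa [h2'] at h5
    · rintro ⟨h1, h2⟩
      exact (h1.mul_right h2).eq
  have hHC : H ≤ C := fun g hg => (hCm g).2 ((hHm g).1 hg).1
  have hfH : ((f : C) : S) ∈ H := (hHm _).2 ⟨hfy.symm, Commute.refl _⟩
  have hH0 : Nat.card H ≠ 0 := Nat.card_pos.ne'
  have h4 : 2 ^ 2 ∣ Nat.card H := by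
    have h1 : orderOf (⟨_, hfH⟩ : H) ∣ Nat.card H := orderOf_dvd_natCard _
    rw [← Subgroup.orderOf_coe] at h1
    have h2 : orderOf ((f : C) : S) ∣ Nat.card H := h1
    rw [hfS] at h2
    exact h2
  have h8 : ¬ 2 ^ 3 ∣ Nat.card H := by
    intro hd
    -- a Sylow 2-subgroup of `H` containing `f`
    have hfp : IsPGroup 2 (Subgroup.zpowers (⟨_, hfH⟩ : H)) := by
      apply IsPGroup.of_card (n := 2)
      rw [Nat.card_zpowers, ← Subgroup.orderOf_coe]
      show orderOf ((f : C) : S) = 2 ^ 2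
      rw [hfS]
      norm_num
    obtain ⟨T, hT⟩ := hfp.exists_le_sylow
    have hfT : (⟨_, hfH⟩ : H) ∈ (T : Subgroup H) := hT (Subgroup.mem_zpowers _)
    have hTcard : 8 ∣ Nat.card (T : Subgroup H) := by
      have h1 := T.card_eq_multiplicity
      rw [h1]
      exact pow_dvd_pow 2 ((Nat.Prime.pow_dvd_iff_le_factorization Nat.prime_two hH0).1 hd)
    have hT'card : Nat.card ((T : Subgroup H).map (Subgroup.inclusion hHC)) = Nat.card (T : Subgroup H) :=
      Nat.card_congr ((T : Subgroup H).equivMapOfInjective _ (Subgroup.inclusion_injective hHC)).symm.toEquiv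
    have hT'p : IsPGroup 2 ((T : Subgroup H).map (Subgroup.inclusion hHC)) := T.2.map _
    obtain ⟨R, hR⟩ := hT'p.exists_le_sylow
    obtain ⟨d, hd2⟩ := MulAction.exists_smul_eq C R Q
    have hRcard : Nat.card (R : Subgroup C) = 8 := by
      rw [← hQ, ← hP, R.card_eq_multiplicity, Q.card_eq_multiplicity]
    have hT'R : (T : Subgroup H).map (Subgroup.inclusion hHC) = R := by
      apply Subgroup.eq_of_le_of_card_ge hR
      rw [hT'card, hRcard]
      exact Nat.le_of_dvd Nat.card_pos hTcard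
    -- `R ≃ Q`
    have hdR : (MulAut.conj d • (R : Subgroup C) : Subgroup C) = P := by
      rw [← hP, ← hd2]
      rfl
    have eRQ : (R : Subgroup C) ≃* P :=
      (Subgroup.equivSMul (MulAut.conj d) (R : Subgroup C)).trans (MulEquiv.subgroupCongr hdR)
    have hnaR : ¬ ∀ a b : (R : Subgroup C), a * b = b * a := by
      intro h1
      apply hna'
      intro a b
      have h2 := h1 (eRQ.symm a) (eRQ.symm b)
      have h3 := congrArg eRQ h2
      rw [map_mul, map_mul, MulEquiv.apply_symm_apply, MulEquiv.apply_symm_apply] at h3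
      exact h3
    obtain ⟨w, hw1, hww, hw⟩ := Ord8.exists_z hRcard hnaR
    have hfR : (f : C) ∈ (R : Subgroup C) := by
      rw [← hT'R]
      exact ⟨⟨_, hfH⟩, hfT, rfl⟩
    have hfc : (⟨(f : C), hfR⟩ : (R : Subgroup C)) ∈ Subgroup.center (R : Subgroup C) := by
      rw [Subgroup.mem_center_iff]
      rintro ⟨x, hx⟩
      have hx' : x ∈ (T : Subgroup H).map (Subgroup.inclusion hHC) := by
        rw [hT'R]
        exact hx
      obtain ⟨x0, hx0, rfl⟩ := hx'
      apply Subtype.ext
      apply Subtype.ext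
      exact ((hHm x0).1 x0.2).2.eq
    have h9 : (⟨(f : C), hfR⟩ : (R : Subgroup C)) * ⟨(f : C), hfR⟩ = 1 := by
      rcases (hw _).1 hfc with h | h
      · rw [h, mul_one]
      · rw [h, hww]
    have h10 : ((f : C) : S) * ((f : C) : S) = 1 :=
      congrArg (fun x : (R : Subgroup C) => ((x : C) : S)) h9
    have h11 := orderOf_dvd_of_pow_eq_one (show ((f : C) : S) ^ 2 = 1 by rw [pow_two, h10])
    rw [hfS] at h11
    exact absurd h11 (by decide)
  apply le_antisymm
  · by_contra hcon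
    exact h8 ((Nat.Prime.pow_dvd_iff_le_factorization Nat.prime_two hH0).2 (by omega))
  · exact (Nat.Prime.pow_dvd_iff_le_factorization Nat.prime_two hH0).1 h4

/-- The data of (N4) from a nonabelian Sylow 2-subgroup of order 8 of the centralizer. -/
theorem exists_n4 [Finite S] (y : S) (hodd : Odd (orderOf y)) (hreal : IsConj y y⁻¹)
    (Q : Sylow 2 (Subgroup.centralizer ({y} : Set S))) (hQ : Nat.card Q = 8) (hna : ¬ IsMulCommutative Q)
    (z : S) (hz : orderOf z = 2) (hzQ : ∀ q ∈ Q, Commute z (q : S)) (hzy : Commute z y) :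
    ∃ f n m : S, N4 y f n m ∧ f ^ 2 = z :=
  exists_n4_aux y hodd hreal _ (fun x => by
    rw [Subgroup.mem_centralizer_singleton_iff]
    rfl) Q (Q : Subgroup (Subgroup.centralizer ({y} : Set S))) rfl hQ (fun h => hna ⟨⟨h⟩⟩) z hz hzQ hzy

end

section
variable {S : Type u} [Group S] [Fintype S]

/-- Vanishing outside the principal block from `OneBlock`. -/
theorem N4.vanish {y f n m : S} (h : N4 y f n m) {M : Ideal AlgInt} (hM : IsPModular 2 M)
    (h2 : OneBlock M (Subgroup.centralizer ({f ^ 2} : Set S)))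
    (h1 : OneBlock M (Subgroup.centralizer ({f} : Set S))) (χ : IrrCharacter S)
    (hχ : χ ∉ principalBlock M S) : (χ : S → ℂ) (y * f ^ 2) = 0 ∧ (χ : S → ℂ) (y * f) = 0 := by
  have hreg : IsPRegular 2 y := fun h0 => (Nat.not_even_iff_odd.2 h.odd) (even_iff_two_dvd.2 h0)
  have hf2 : orderOf (f ^ 2) = 2 := by
    rw [orderOf_pow' f (by norm_num), h.four]
    norm_num
  constructor
  · rw [h.comm2.eq]
    exact H104.EB.COne.vanish hM χ hχ (f ^ 2) ⟨1, by rw [hf2, pow_one]⟩ h2 y hreg h.comm2.symm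
  · rw [h.comm.eq]
    exact H104.EB.COne.vanish hM χ hχ f ⟨2, by rw [h.four]; norm_num⟩ h1 y hreg h.comm.symm

/-- **(N4)** with one-block centralizers -/
theorem evenS_of_n4_oneBlock {y f n m : S} (h : N4 y f n m)
    (h2 : ∀ M : Ideal AlgInt, IsPModular 2 M → OneBlock M (Subgroup.centralizer ({f ^ 2} : Set S)))
    (h1 : ∀ M : Ideal AlgInt, IsPModular 2 M → OneBlock M (Subgroup.centralizer ({f} : Set S))) :
    EvenS S :=
  evenS_of_n4' h fun M hM χ hχ => h.vanish hM (h2 M hM) (h1 M hM) χ hχ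

/-- **(N8) [T06]** -/
theorem evenS_of_n8 (y : S) (hodd : Odd (orderOf y)) (hreal : IsConj y y⁻¹)
    (Q : Sylow 2 (Subgroup.centralizer ({y} : Set S))) (hQ : Nat.card Q = 8) (hna : ¬ IsMulCommutative Q)
    (z : S) (hz : orderOf z = 2) (hzQ : ∀ q ∈ Q, Commute z (q : S)) (hzy : Commute z y)
    (hC : ∀ M : Ideal AlgInt, IsPModular 2 M → ∀ x : S, (∃ j : ℕ, orderOf x = 2 ^ j) → z ∈ Subgroup.zpowers x →
      OneBlock M (Subgroup.centralizer ({x} : Set S))) : EvenS S := by
  obtain ⟨f, n, m, h, hf⟩ := exists_n4 y hodd hreal Q hQ hna z hz hzQ hzy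
  refine evenS_of_n4_oneBlock h (fun M hM => ?_) (fun M hM => ?_)
  · rw [hf]
    exact hC M hM z ⟨1, by rw [hz, pow_one]⟩ (Subgroup.mem_zpowers z)
  · refine hC M hM f ⟨2, by rw [h.four]; norm_num⟩ ?_
    rw [← hf]
    exact Subgroup.pow_mem _ (Subgroup.mem_zpowers f) 2

/-- The function of (N4) with all its properties. -/
theorem n4_function {k : ℕ} (hk : IsK S k) {M : Ideal AlgInt} (hM : IsPModular 2 M) {y f n m : S}
    (h : N4 y f n m)
    (hB : ∀ χ : IrrCharacter S, χ ∉ principalBlock M S →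
      MemLocalIdeal M (((χ : S → ℂ) (y * f ^ 2) + (χ : S → ℂ) (y * f)) / 2)) :
    ∃ Ψ : S → ℂ, IsClassFunction S Ψ ∧
      (∀ χ : IrrCharacter S, MemLocalRing M (classInner Ψ (χ : S → ℂ))) ∧
      (∀ χ : IrrCharacter S, χ ∉ principalBlock M S → MemLocalIdeal M (classInner Ψ (χ : S → ℂ))) ∧
      (∀ g, Ψ (g ^ k) = Ψ g) ∧
      (∀ g, Ψ g ≠ 0 → ∃ q, IsConj g (y * q) ∧ Commute y q ∧ ∃ j : ℕ, orderOf q = 2 ^ j) ∧ Ψ 1 = 0 ∧
      (∀ χ : IrrCharacter S, conj (classInner Ψ (χ : S → ℂ)) = classInner Ψ (χ : S → ℂ)) ∧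
      ¬ MemLocalIdeal M (classInner Ψ Ψ) := by
  have hprime : M.IsPrime := Blocks.Local.isPrime_of_isPModular hM
  have hf2 : orderOf (f ^ 2) = 2 := by
    rw [orderOf_pow' f (by norm_num), h.four]
    norm_num
  refine ⟨n4Psi y f, n4Psi_cf y f, fun χ => ?_, fun χ hχ => ?_, n4Psi_pow h hk, fun g hg => ?_,
    n4Psi_one h, fun χ => H612.Base.conj_classInner (n4Psi_inv h) (n4Psi_real y f) χ, ?_⟩
  · rw [n4_classInner h]
    exact Blocks.Local.memLocalRing_neg (Blocks.Local.memLocalRing_of_isIntegral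
      (h.isIntegral (Characters.Core.isIrr_isCharacter χ.2)))
  · rw [n4_classInner h, Blocks.Local.memLocalIdeal_neg_iff]
    exact hB χ hχ
  · by_contra hcon
    push Not at hcon
    apply hg
    have key : ∀ q : S, Commute y q → (∃ j : ℕ, orderOf q = 2 ^ j) → ∀ t : S, t⁻¹ * g * t ≠ y * q := by
      rintro q hq ⟨j, hj⟩ t ht
      exact hcon q (isConj_iff.2 ⟨t⁻¹, by rw [inv_inv]; exact ht⟩) hq j hj
    exact n4Psi_zero (key _ h.comm2 ⟨1, by rw [hf2, pow_one]⟩) (key _ h.comm ⟨2, by rw [h.four]; norm_num⟩)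
      (key _ h.comm.inv_right ⟨2, by rw [orderOf_inv, h.four]; norm_num⟩)
  · obtain ⟨N, hN, hnorm⟩ := n4_norm h
    rw [hnorm, Blocks.Local.memLocalIdeal_natCast_iff hM, ← even_iff_two_dvd, Nat.not_even_iff_odd]
    exact hN

/-- The function of (N8) with all its properties. -/
theorem n8_function {k : ℕ} (hk : IsK S k) {M : Ideal AlgInt} (hM : IsPModular 2 M)
    (y : S) (hodd : Odd (orderOf y)) (hreal : IsConj y y⁻¹)
    (Q : Sylow 2 (Subgroup.centralizer ({y} : Set S))) (hQ : Nat.card Q = 8) (hna : ¬ IsMulCommutative Q)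
    (z : S) (hz : orderOf z = 2) (hzQ : ∀ q ∈ Q, Commute z (q : S)) (hzy : Commute z y)
    (hC : ∀ x : S, (∃ j : ℕ, orderOf x = 2 ^ j) → z ∈ Subgroup.zpowers x →
      OneBlock M (Subgroup.centralizer ({x} : Set S))) :
    ∃ Ψ : S → ℂ, IsClassFunction S Ψ ∧
      (∀ χ : IrrCharacter S, MemLocalRing M (classInner Ψ (χ : S → ℂ))) ∧
      (∀ χ : IrrCharacter S, χ ∉ principalBlock M S → MemLocalIdeal M (classInner Ψ (χ : S → ℂ))) ∧
      (∀ g, Ψ (g ^ k) = Ψ g) ∧
      (∀ g, Ψ g ≠ 0 → ∃ q, IsConj g (y * q) ∧ Commute y q ∧ ∃ j : ℕ, orderOf q = 2 ^ j) ∧ Ψ 1 = 0 ∧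
      (∀ χ : IrrCharacter S, conj (classInner Ψ (χ : S → ℂ)) = classInner Ψ (χ : S → ℂ)) ∧
      ¬ MemLocalIdeal M (classInner Ψ Ψ) := by
  have hprime : M.IsPrime := Blocks.Local.isPrime_of_isPModular hM
  obtain ⟨f, n, m, h, hf⟩ := exists_n4 y hodd hreal Q hQ hna z hz hzQ hzy
  refine n4_function hk hM h fun χ hχ => ?_
  have h0 := h.vanish hM (by
    rw [hf]
    exact hC z ⟨1, by rw [hz, pow_one]⟩ (Subgroup.mem_zpowers z)) (by
    refine hC f ⟨2, by rw [h.four]; norm_num⟩ ?_
    rw [← hf]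
    exact Subgroup.pow_mem _ (Subgroup.mem_zpowers f) 2) χ hχ
  rw [h0.1, h0.2]
  have e : ((0 : ℂ) + 0) / 2 = 0 := by ring
  rw [e]
  exact Blocks.Local.memLocalIdeal_zero

end

end Cfsg.Agent.H684.EB
end

private theorem dce_8ff63cce78d6 : _root_.True := by
  try have : _root_.True := by simp only [_root_.Cfsg.Agent.H684.EB.dl.congr_simp]
  exact _root_.True.intro
end

-- part: H481/EB/HN_mg
section
prune_inst 0x202444004002000000000040005c46c6000092004b0000c80006440680cc2009000e208ca003080002080400310048120000304000000000004400411904a1808044062000a104260009808082110000000080000000000000000000000000204010000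
set_option linter.all false
open scoped Cfsg.Agent.FastGrp

-- part: H481/EB/Out
section
/-!
# TEAM EB: the criterion (OUT)

`S` normal of index 2 in `G`, `Ψ` a class function on `S` with local coefficients, in the ideal outside the principal
block, fixed by the power map, of norm outside the ideal, and `a ∈ G ∖ S` moves the support of `Ψ` to a disjoint set.

* `concl_of_moved`: then the conclusion `Concl M G S k` holds;
* `OutFn`: the class function; `evenB_of_out`: the property `EvenB S` if `|Out S| ≤ 2`, every automorphism of `S` fixing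
  the element `y` of odd order is inner and `Ψ` is supported on the conjugates of the elements `y q`, `q` a 2-element.
-/

set_option autoImplicit false
set_option linter.unusedSectionVars false
set_option linter.style.haveILetI false

namespace Cfsg.Agent.H481.EB

open Cfsg Cfsg.Agent.Characters Cfsg.Agent.H694 Cfsg.Agent.H610 Cfsg.Agent.H610.EB Cfsg.Agent.H684.EB
open scoped ComplexConjugate
open Cfsg.Agent.Characters.Core
open Cfsg.Agent.OddOrderCharacters.NormalInduced (conjFn)
open Cfsg.Agent.OddOrderCharacters.PF9.CliffGen (resTo irr_ind)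
open Cfsg.Agent.Blocks.Local Cfsg.Agent.Blocks.Basic
open Cfsg.Agent.Blocks.Covering (conjIrr conjIrr_conjIrr conjIrr_one conjIrr_apply conjIrr_at_one)

universe u v

section
variable {G : Type u} [Group G] [Fintype G] {M : Ideal AlgInt} {k : ℕ}

/-- coefficients of the conjugate of a function -/
theorem classInner_conjNormal (S : Subgroup G) [S.Normal] [Fintype S] (F : S → ℂ) (a : G) (φ : IrrCharacter S) :
    classInner (fun s : S => F (MulAut.conjNormal a s)) (φ : S → ℂ) = classInner F (conjIrr S a⁻¹ φ : S → ℂ) := by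
  rw [← Clifford.classInner_comp_mulEquiv (MulAut.conjNormal a : MulAut S) F]
  refine congrArg (classInner _) ?_
  funext s
  show (φ : S → ℂ) s = (φ : S → ℂ) (MulAut.conjNormal a⁻¹ (MulAut.conjNormal a s))
  rw [← MulAut.mul_apply, ← map_mul, inv_mul_cancel, map_one]
  rfl

/-- **(OUT)** -/
theorem concl_of_moved (hM : IsPModular 2 M) (S : Subgroup G) [hS : S.Normal] [Fintype S] (hidx : S.index = 2)
    (hk : IsK G k) {Ψ : S → ℂ} (hcf : IsClassFunction S Ψ)
    (hint : ∀ χ : IrrCharacter S, MemLocalRing M (classInner Ψ (χ : S → ℂ)))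
    (hB : ∀ χ : IrrCharacter S, χ ∉ principalBlock M S → MemLocalIdeal M (classInner Ψ (χ : S → ℂ)))
    (hΨk : ∀ s : S, Ψ (s ^ k) = Ψ s)
    (hreal : ∀ χ : IrrCharacter S, conj (classInner Ψ (χ : S → ℂ)) = classInner Ψ (χ : S → ℂ))
    (hnorm : ¬ MemLocalIdeal M (classInner Ψ Ψ)) {a : G} (ha : a ∉ S)
    (hdis : ∀ s : S, Ψ s = 0 ∨ Ψ (MulAut.conjNormal a s) = 0) : Concl M G S k := by
  classical
  have hprime : M.IsPrime := isPrime_of_isPModular hM
  haveI := charP_resField hM
  haveI := @Fintype.ofFinite (IrrCharacter S) finite_irr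
  have hcf' : IsClassFunction S (fun s : S => Ψ (MulAut.conjNormal a s)) := by
    intro g s
    show Ψ (MulAut.conjNormal a _) = Ψ (MulAut.conjNormal a _)
    rw [map_mul, map_mul, map_inv]
    exact hcf _ _
  -- the two sums
  have h1 : classInner Ψ (fun s : S => Ψ (MulAut.conjNormal a s)) = 0 := by
    rw [Core.classInner_def]
    rw [Finset.sum_eq_zero, mul_zero]
    intro s _
    rcases hdis s with h | h
    · rw [h, zero_mul]
    · rw [h, map_zero, mul_zero]
  rw [classInner_eq_sum hcf hcf'] at h1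
  rw [classInner_eq_sum hcf hcf] at hnorm
  have h2 : ∀ χ : IrrCharacter S, classInner Ψ (χ : S → ℂ) *
      conj (classInner (fun s : S => Ψ (MulAut.conjNormal a s)) (χ : S → ℂ)) =
      classInner Ψ (χ : S → ℂ) * classInner Ψ (conjIrr S a⁻¹ χ : S → ℂ) := by
    intro χ
    rw [classInner_conjNormal, hreal]
  rw [Finset.sum_congr rfl fun χ _ => h2 χ] at h1
  have h3 : ∀ χ : IrrCharacter S, MemLocalRing M (classInner Ψ (χ : S → ℂ) * classInner Ψ (χ : S → ℂ) +
      classInner Ψ (χ : S → ℂ) * classInner Ψ (conjIrr S a⁻¹ χ : S → ℂ)) := fun χ =>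
    memLocalRing_add (memLocalRing_mul (hint _) (hint _)) (memLocalRing_mul (hint _) (hint _))
  have h4 : ∑ χ : IrrCharacter S, redC M (classInner Ψ (χ : S → ℂ) * classInner Ψ (χ : S → ℂ) +
      classInner Ψ (χ : S → ℂ) * classInner Ψ (conjIrr S a⁻¹ χ : S → ℂ)) ≠ 0 := by
    rw [← redC_sum fun χ _ => h3 χ, Finset.sum_add_distrib, h1, add_zero]
    intro h
    apply hnorm
    have h5 : ∑ χ : IrrCharacter S, classInner Ψ (χ : S → ℂ) * conj (classInner Ψ (χ : S → ℂ)) =
        ∑ χ : IrrCharacter S, classInner Ψ (χ : S → ℂ) * classInner Ψ (χ : S → ℂ) :=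
      Finset.sum_congr rfl fun χ _ => by rw [hreal]
    rw [h5]
    exact (redC_eq_zero_iff (memLocalRing_sum fun χ _ => memLocalRing_mul (hint _) (hint _))).1 h
  letI : MulAction Unit (IrrCharacter S) :=
    { smul := fun _ χ => χ
      one_smul := fun _ => rfl
      mul_smul := fun _ _ _ => rfl }
  obtain ⟨φ, -, hφ1, hφ2⟩ := exists_fixed_ne (P := Unit) (X := IrrCharacter S)
    (fun _ => ⟨0, Subsingleton.elim _ _⟩) (Twist.pw (hk.sub S).coprime) (pw_pw (hk.sub S)) (fun _ _ => rfl) _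
    (fun _ _ => rfl) (by
      intro χ
      congr 2
      · rw [classInner_pw (hk.sub S) hΨk]
      · rw [conjIrr_pw S hk, classInner_pw (hk.sub S) hΨk, classInner_pw (hk.sub S) hΨk]) h4
  have hφB : φ ∈ principalBlock M S := by
    by_contra hcon
    apply hφ2
    rw [redC_add (memLocalRing_mul (hint _) (hint _)) (memLocalRing_mul (hint _) (hint _)),
      redC_mul (hint _) (hint _), redC_mul (hint _) (hint _), (redC_eq_zero_iff (hint φ)).2 (hB φ hcon), zero_mul,
      zero_mul, add_zero]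
  have hmov : conjIrr S a⁻¹ φ ≠ φ := by
    intro h
    apply hφ2
    rw [h, redC_add (memLocalRing_mul (hint _) (hint _)) (memLocalRing_mul (hint _) (hint _)), CharTwo.add_self_eq_zero]
  have hφk := (Twist.fixed_iff (hk.sub S).coprime φ).1 hφ1
  have hφ1' : (φ : S → ℂ) ≠ fun _ => 1 := by
    intro h
    apply hmov
    apply Subtype.ext
    funext s
    rw [conjIrr_apply, h]
  refine of_inertia hM S ⟨1, by rw [hidx, pow_one]⟩ hk φ hφB hφk hφ1' S ?_ le_rfl (π := (φ : S → ℂ))
    (GC.of_irr φ.2) hφk ?_ (Or.inr ?_)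
  · intro g
    constructor
    · intro hg
      exact congrArg Subtype.val (conjIrr_mem_self S hg φ)
    · intro h
      by_contra hg
      have hga : g * a ∈ S := by
        rw [Subgroup.mul_mem_iff_of_index_two hidx]
        (clear * - ha hg; itauto)
      apply hmov
      have h5 : conjIrr S g φ = φ := Subtype.ext h
      have h6 : conjIrr S (g * a) φ = φ := conjIrr_mem_self S hga φ
      have h7 : conjIrr S a⁻¹ (conjIrr S (g * a) φ) = conjIrr S (g * a * a⁻¹) φ := conjIrr_conjIrr S _ _ _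
      rw [h6, mul_inv_cancel_right, h5] at h7
      exact h7
  · have h5 : mu (resTo (le_refl S) (φ : S → ℂ)) (φ : S → ℂ) = 1 := by
      have h6 : classInner (resTo (le_refl S) (φ : S → ℂ)) (φ : S → ℂ) = ((1 : ℤ) : ℂ) := by
        have h7 : resTo (le_refl S) (φ : S → ℂ) = (φ : S → ℂ) := rfl
        rw [h7, classInner_irr_self φ.2]
        push_cast
        rfl
      exact mu_eq h6
    rw [h5]
    exact odd_one
  · intro h
    apply ha
    rw [h]
    exact Subgroup.mem_top a

end

/-! ### the class function -/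

/-- The class function needed for (OUT), supported on the conjugates of the elements `y q`, `q` a 2-element commuting
with `y`. -/
structure OutFn (M : Ideal AlgInt) (k : ℕ) {S : Type u} [Group S] [Fintype S] (y : S) (Ψ : S → ℂ) : Prop where
  cf : IsClassFunction S Ψ
  int : ∀ χ : IrrCharacter S, MemLocalRing M (classInner Ψ (χ : S → ℂ))
  blk : ∀ χ : IrrCharacter S, χ ∉ principalBlock M S → MemLocalIdeal M (classInner Ψ (χ : S → ℂ))
  pow : ∀ s : S, Ψ (s ^ k) = Ψ s
  real : ∀ χ : IrrCharacter S, conj (classInner Ψ (χ : S → ℂ)) = classInner Ψ (χ : S → ℂ)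
  norm : ¬ MemLocalIdeal M (classInner Ψ Ψ)
  supp : ∀ s : S, Ψ s ≠ 0 → ∃ t q : S, Commute y q ∧ (∃ j : ℕ, orderOf q = 2 ^ j) ∧ s = t * (y * q) * t⁻¹

theorem OutFn.congr {S : Type u} [Group S] [Fintype S] {T : Type v} [Group T] [Fintype T] (e : S ≃* T)
    {M : Ideal AlgInt} {k : ℕ} {y : S} {Ψ : S → ℂ} (h : OutFn M k y Ψ) :
    OutFn M k (e y) (Ψ ∘ e.symm) := by
  have hin : ∀ χ : IrrCharacter T, classInner (Ψ ∘ e.symm) (χ : T → ℂ) = classInner Ψ (pull e χ : S → ℂ) := by
    intro χ
    rw [← Clifford.classInner_comp_mulEquiv e.symm Ψ (pull e χ : S → ℂ)]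
    congr 1
    funext t
    rw [Function.comp_apply, pull_apply, e.apply_symm_apply]
  refine ⟨?_, ?_, ?_, ?_, ?_, ?_, ?_⟩
  · intro g t
    rw [Function.comp_apply, Function.comp_apply, map_mul, map_mul, map_inv]
    exact h.cf _ _
  · intro χ
    rw [hin]
    exact h.int _
  · intro χ hχ
    rw [hin]
    exact h.blk _ fun h1 => hχ ((pull_mem e χ).1 h1)
  · intro t
    rw [Function.comp_apply, Function.comp_apply, map_pow]
    exact h.pow _
  · intro χ
    rw [hin]
    exact h.real _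
  · rw [Clifford.classInner_comp_mulEquiv e.symm]
    exact h.norm
  · intro t ht
    obtain ⟨x, q, h1, ⟨j, hj⟩, h2⟩ := h.supp _ ht
    refine ⟨e x, e q, h1.map e.toMonoidHom, ⟨j, ?_⟩, ?_⟩
    · rw [← hj]
      exact orderOf_injective e.toMonoidHom e.injective q
    · rw [← map_mul, ← map_mul, ← map_inv, ← map_mul, ← h2, e.apply_symm_apply]

/-- The 2'-part. -/
theorem exists_exp {S : Type*} [Group S] {y : S} (hy : Odd (orderOf y)) {q q' : S} (hq : ∃ j : ℕ, orderOf q = 2 ^ j)
    (hq' : ∃ j : ℕ, orderOf q' = 2 ^ j) : ∃ n : ℕ, y ^ n = y ∧ q ^ n = 1 ∧ q' ^ n = 1 := by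
  obtain ⟨j, hj⟩ := hq
  obtain ⟨j', hj'⟩ := hq'
  obtain ⟨n, hn1, hn2⟩ := Nat.chineseRemainder
    (show Nat.Coprime (orderOf y) (2 ^ (j + j')) from (Nat.coprime_two_right.2 hy).pow_right _) 1 0
  refine ⟨n, ?_, ?_, ?_⟩
  · nth_rewrite 2 [← pow_one y]
    rw [pow_eq_pow_iff_modEq]
    exact hn1
  · rw [← orderOf_dvd_iff_pow_eq_one, hj]
    exact (pow_dvd_pow 2 (Nat.le_add_right j j')).trans ((Nat.modEq_zero_iff_dvd).1 hn2)
  · rw [← orderOf_dvd_iff_pow_eq_one, hj']
    exact (pow_dvd_pow 2 (Nat.le_add_left j' j)).trans ((Nat.modEq_zero_iff_dvd).1 hn2)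

/-- Automorphisms which are not inner move the support of the function to a disjoint set. -/
theorem OutFn.disjoint {S : Type u} [Group S] [Fintype S] {M : Ideal AlgInt} {k : ℕ} {y : S} {Ψ : S → ℂ}
    (h : OutFn M k y Ψ) (hy : Odd (orderOf y))
    (hfix : ∀ α : MulAut S, α y = y → ∃ n : S, α = MulAut.conj n) {α : MulAut S}
    (hα : ∀ n : S, α ≠ MulAut.conj n) (s : S) : Ψ s = 0 ∨ Ψ (α s) = 0 := by
  by_contra hcon
  push Not at hcon
  obtain ⟨t, q, h1, hq, h2⟩ := h.supp s hcon.1
  obtain ⟨t', q', h1', hq', h2'⟩ := h.supp _ hcon.2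
  obtain ⟨n, hn1, hn2, hn3⟩ := exists_exp hy hq hq'
  have h3 : s ^ n = t * y * t⁻¹ := by rw [h2, conj_pow, h1.mul_pow, hn1, hn2, mul_one]
  have h4 : (α s) ^ n = t' * y * t'⁻¹ := by rw [h2', conj_pow, h1'.mul_pow, hn1, hn3, mul_one]
  rw [← map_pow, h3] at h4
  obtain ⟨m, hm⟩ := hfix (MulAut.conj t'⁻¹ * α * MulAut.conj t) (by
    rw [MulAut.mul_apply, MulAut.mul_apply, MulAut.conj_apply, MulAut.conj_apply, h4]
    group)
  apply hα (t' * m * t⁻¹)
  rw [map_mul, map_mul, ← hm, map_inv, map_inv]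
  group

/-! ### the property `EvenB` -/

section
variable {S : Type u} [Group S] {G : Type u} [Group G] {N : Subgroup G} [N.Normal]

/-- The automorphism of `S` induced by an element of `G`. -/
noncomputable def act (e : S ≃* N) : G →* MulAut S :=
  (MulAut.congr e.symm).toMonoidHom.comp (MulAut.conjNormal : G →* MulAut N)

theorem act_apply (e : S ≃* N) (g : G) (x : S) : act e g x = e.symm (MulAut.conjNormal g (e x)) := rfl

theorem mem_of_act (e : S ≃* N) (hC : Subgroup.centralizer (N : Set G) = ⊥) {g : G} {s : S}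
    (h : act e g = MulAut.conj s) : g ∈ N := by
  have h1 : ∀ x : S, g * (e x : G) * g⁻¹ = (e s : G) * e x * (e s : G)⁻¹ := by
    intro x
    have h2 : act e g x = MulAut.conj s x := by rw [h]
    rw [act_apply, MulAut.conj_apply] at h2
    have h3 := congrArg (fun t : S => (e t : G)) h2
    simp only [e.apply_symm_apply, MulAut.conjNormal_apply, map_mul, map_inv, Subgroup.coe_mul, Subgroup.coe_inv] at h3
    exact h3
  have h2 : (e s : G)⁻¹ * g ∈ Subgroup.centralizer (N : Set G) := by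
    rw [Subgroup.mem_centralizer_iff]
    intro n hn
    obtain ⟨x, hx⟩ := e.surjective ⟨n, hn⟩
    have h3 := h1 x
    rw [hx] at h3
    have h4 : g * n * g⁻¹ = (e s : G) * n * (e s : G)⁻¹ := h3
    calc n * ((e s : G)⁻¹ * g) = (e s : G)⁻¹ * ((e s : G) * n * (e s : G)⁻¹) * g := by group
      _ = (e s : G)⁻¹ * g * n := by rw [← h4]; group
  rw [hC, Subgroup.mem_bot] at h2
  rw [← inv_mul_eq_one.1 h2]
  exact (e s).2

end

/-- **(OUT)** for the property `EvenB` -/
theorem evenB_of_out {S : Type u} [Group S] [Finite S] (hS : EvenS S)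
    (hout : (MulAut.conj : S →* MulAut S).range.index = 1 ∨ (MulAut.conj : S →* MulAut S).range.index = 2) {y : S}
    (hy : Odd (orderOf y)) (hfix : ∀ α : MulAut S, α y = y → ∃ n : S, α = MulAut.conj n)
    (hΨ : ∀ [Fintype S] (k : ℕ), IsK S k → ∀ M : Ideal AlgInt, IsPModular 2 M → ∃ Ψ : S → ℂ, OutFn M k y Ψ) :
    EvenB S := by
  intro G _ _ N hN _ f hC hi k hk M hM
  obtain ⟨e⟩ := f
  haveI := Fintype.ofFinite S
  by_cases hNtop : N = ⊤
  · have hSG : S ≃* G := (e.trans (MulEquiv.subgroupCongr hNtop)).trans Subgroup.topEquiv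
    exact (hS.congr hSG).concl_top N hNtop hk hM
  obtain ⟨a, ha⟩ : ∃ a : G, a ∉ N := by
    by_contra hcon
    push Not at hcon
    exact hNtop ((eq_top_iff).2 fun g _ => hcon g)
  set I := (MulAut.conj : S →* MulAut S).range with hI
  have hact : ∀ g : G, g ∉ N → act e g ∉ I := by
    rintro g hg ⟨s, hs⟩
    exact hg (mem_of_act e hC hs.symm)
  have hI2 : I.index = 2 := by
    rcases hout with h | h
    · exfalso
      rw [Subgroup.index_eq_one] at h
      apply hact a ha
      rw [h]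
      exact Subgroup.mem_top _
    · exact h
  have hidx : N.index = 2 := by
    rw [Subgroup.index_eq_two_iff]
    refine ⟨a, fun b => ?_⟩
    by_cases hb : b ∈ N
    · right
      refine ⟨hb, fun h => ha ?_⟩
      have h1 := N.mul_mem (N.inv_mem hb) h
      rwa [inv_mul_cancel_left] at h1
    · left
      refine ⟨?_, hb⟩
      have h1 : act e (b * a) ∈ I := by
        rw [map_mul, Subgroup.mul_mem_iff_of_index_two hI2]
        have := hact a ha
        have := hact b hb
        itauto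
      obtain ⟨s, hs⟩ := h1
      exact mem_of_act e hC hs.symm
  have hkN : IsK N k := hk.sub N
  obtain ⟨Ψ, hΨ⟩ := hΨ k (isK_congr e.symm hkN) M hM
  have hΨN := hΨ.congr e
  have hα : ∀ n : S, act e a ≠ MulAut.conj n := by
    intro n hn
    exact ha (mem_of_act e hC hn)
  have hdis := hΨ.disjoint hy hfix hα
  refine concl_of_moved hM N hidx hk hΨN.cf hΨN.int hΨN.blk hΨN.pow hΨN.real hΨN.norm ha ?_
  intro n
  have h1 := hdis (e.symm n)
  rw [act_apply, e.apply_symm_apply] at h1
  exact h1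

end Cfsg.Agent.H481.EB
end

-- part: H481/EB/Univ
section
/-!
# TEAM EB: the property `EvenB` in all universes

* `concl_congr`: the conclusion `Concl` along an isomorphism between groups in different universes;
* `evenB_univ`: `EvenB T` implies `EvenB S` for `S ≃* T`, `S`, `T` in different universes.
-/

set_option autoImplicit false

namespace Cfsg.Agent.H481.EB

open Cfsg Cfsg.Agent.H610.EB Cfsg.Agent.H684.EB

universe u v

theorem concl_congr {G : Type u} [Group G] {H : Type v} [Group H] (e : G ≃* H) {M : Ideal AlgInt} {k : ℕ}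
    {N : Subgroup G} [Fintype N] {K : Subgroup H} [Fintype K] (hK : ∀ g, g ∈ N ↔ e g ∈ K) (h : Concl M H K k) :
    Concl M G N k := by
  obtain ⟨χ, h1, h2, h3, h4⟩ := h
  refine ⟨pull e χ, (pull_mem e χ).2 h1, ?_, ?_, ?_⟩
  · rw [charDegree_pull]
    exact h2
  · intro g
    rw [pull_apply, pull_apply, map_pow, h3]
  · let f : N ≃* K :=
      { toFun := fun n => ⟨e n, (hK n).1 n.2⟩
        invFun := fun m => ⟨e.symm m, (hK _).2 (by rw [e.apply_symm_apply]; exact m.2)⟩
        left_inv := fun n => Subtype.ext (e.symm_apply_apply (n : G))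
        right_inv := fun m => Subtype.ext (e.apply_symm_apply (m : H))
        map_mul' := fun a b => Subtype.ext (map_mul e (a : G) (b : G)) }
    rw [← Characters.Clifford.classInner_comp_mulEquiv f] at h4
    exact h4

theorem evenB_univ {S : Type u} [Group S] {T : Type v} [Group T] (e : S ≃* T) (h : EvenB T) : EvenB S := by
  intro G _ _ N hN _ f hC hi k hk M hM
  obtain ⟨f⟩ := f
  have hsm : Small.{v} G := inferInstance
  let s : G ≃* Shrink.{v} G := (Shrink.mulEquiv (α := G)).symm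
  have hfin : Finite (Shrink.{v} G) := Finite.of_equiv G s.toEquiv
  have hft : Fintype (Shrink.{v} G) := Fintype.ofFinite _
  let N' : Subgroup (Shrink.{v} G) := N.map s.toMonoidHom
  have hN' : N'.Normal := hN.map s.toMonoidHom s.surjective
  have hfN' : Fintype N' := Fintype.ofFinite _
  have hmem : ∀ g : G, g ∈ N ↔ s g ∈ N' := by
    intro g
    constructor
    · intro hg
      exact ⟨g, hg, rfl⟩
    · rintro ⟨x, hx, hxg⟩
      have : x = g := s.injective hxg
      rwa [← this]
  have hNN' : N ≃* N' := N.equivMapOfInjective s.toMonoidHom s.injective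
  refine concl_congr s hmem (h (Shrink.{v} G) N' ⟨(e.symm.trans f).trans hNN'⟩ ?_ ?_ k (isK_congr s hk) M hM)
  · rw [eq_bot_iff]
    intro x hx
    rw [Subgroup.mem_bot]
    obtain ⟨g, rfl⟩ := s.surjective x
    have h1 : g ∈ Subgroup.centralizer (N : Set G) := by
      rw [Subgroup.mem_centralizer_iff] at hx ⊢
      intro n hn
      have h2 := hx (s n) ((hmem n).1 hn)
      rw [← map_mul, ← map_mul] at h2
      exact s.injective h2
    rw [hC, Subgroup.mem_bot] at h1
    rw [h1, map_one]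
  · obtain ⟨j, hj⟩ := hi
    refine ⟨j, ?_⟩
    rw [← hj]
    have h1 : N = N'.comap s.toMonoidHom := by
      ext g
      rw [Subgroup.mem_comap]
      exact hmem g
    have h2 : (N'.comap s.toMonoidHom).index = N'.index := Subgroup.index_comap_of_surjective N' s.surjective
    rw [← h2, ← h1]

end Cfsg.Agent.H481.EB
end

-- part: H481/EB/HNFix
section
/-!
# TEAM EB, row HN: automorphisms of the Harada-Norton group fixing an element of order 5

* `inner_of_fix`: an automorphism of `HN` fixing the involution `W0` and an element `a` of order 5 of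
  `C(W0)` of type I is inner;
* `inner_of_fix_y`: an automorphism of `HN` fixing such an element `a` is inner.
-/

set_option autoImplicit false
set_option maxRecDepth 100000

namespace Cfsg.Agent.H481.EB.HN

open Cfsg.Agent.HN Cfsg.Agent.HN.Pres Cfsg.Agent.HN.P1408 Cfsg.Agent.HN.H0Basic Cfsg.Agent.HN.XMat
open Cfsg.Agent.HN.XStruct Cfsg.Agent.HN.XWords Cfsg.Agent.HN.XQuot Cfsg.Agent.HN.XInst
open Cfsg.Agent
open Cfsg.Agent.KFacts.HN
open Cfsg.Agent.CpAutHN.PPFacts (isPGroup_ker acts_of_ρ)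
open Cfsg.Agent.CpAutHN.LqFacts (conj_A conj_B conj_AB e1_A)
open Cfsg.Agent.CpAutHNFive Cfsg.Agent.CpAutHNFive.LFive Cfsg.Agent.CpAutHNFive.PFive
open Cfsg.Agent.SporadicA.PermTab (band_eq_true allB allB_iff)
open Cfsg.Agent.Lib.AltCarmichael (cyc cyc_mem)

/-- the image of the word of `φA c5` under the outer automorphism -/
def vO : List ℕ := bw 0 ++ (bw 0 ++ (bw 2 ++ bw 1))

theorem chkO : allB (fun m => Nat.beq (app (mw vO) m) (app PHI (app (mw vA) (app PHI m)))) 256 = true := by
  decide +kernel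

theorem app_vO {m : ℕ} (hm : m < 256) : app (mw vO) m = app PHI (app (mw vA) (app PHI m)) :=
  Nat.eq_of_beq_eq_true ((allB_iff _ _).1 chkO m hm)

/-- the 5-cycle of `vO` -/
def sO : A5 := ⟨cyc 3 0, cyc_mem 3 0 (by norm_num)⟩ * (⟨cyc 3 0, cyc_mem 3 0 (by norm_num)⟩ *
  (⟨cyc 3 2, cyc_mem 3 2 (by norm_num)⟩ * ⟨cyc 3 1, cyc_mem 3 1 (by norm_num)⟩))

theorem φB_sO : φB sO = e vO := by
  rw [sO, map_mul, map_mul, map_mul, φB_cyc (by norm_num), φB_cyc (by norm_num), φB_cyc (by norm_num), vO, e_append,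
    e_append, e_append]

/-- the permutation of `sO` -/
def pO : Equiv.Perm (Fin 5) := cyc 3 0 * (cyc 3 0 * (cyc 3 2 * cyc 3 1))

theorem perm_not_conj : ∀ h : Equiv.Perm (Fin 5), h * p5 = pO * h → Equiv.Perm.sign h = 1 → False := by
  decide +kernel

theorem sO_ne (h : A5) : h * c5 ≠ sO * h := by
  intro h1
  exact perm_not_conj h ((congrArg Subtype.val h1 :)) (Equiv.Perm.mem_alternatingGroup.1 h.2)

theorem sO_ne_one : sO ≠ 1 := by
  intro h
  have h1 : pO = 1 := (congrArg Subtype.val h :)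
  exact absurd h1 (by decide +kernel)

/-- `φA c5` and `φB sO` are not conjugate -/
theorem not_conj_O (g : Lq) : g * φA c5 * g⁻¹ ≠ φB sO := by
  intro h
  by_cases hg : g ∈ LL
  · obtain ⟨a, b, rfl⟩ := mem_LL.1 hg
    rw [conj_A] at h
    exact sO_ne_one (A_inter_B h).2
  · have h1 : g * e [1] ∈ LL := by
      rw [Subgroup.mul_mem_iff_of_index_two index_LL]
      have := e1_notMem
      itauto
    obtain ⟨a, b, hab⟩ := mem_LL.1 h1
    have h2 : g * φA c5 * g⁻¹ = φB (b * c5 * b⁻¹) := by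
      rw [← conj_B a b c5, hab, φB_apply]
      group
    rw [h2] at h
    have h3 := φB_inj h
    exact sO_ne b (mul_inv_eq_iff_eq_mul.1 h3)

/-- conjugation of masks -/
theorem conj_mask {x : PP} {w : List ℕ} (hw : ρ x = e w) (m : ℕ) :
    ∃ c : Bool, (x : Cfsg.Spor.HN)⁻¹ * r Q m * x = r Q (app (mw w) m) * sgn0 c := r_conj x.2 (acts_of_ρ hw) m

/-- **automorphisms fixing `W0` and `a` are inner** -/
theorem inner_of_fix {a : PP} (ha : ρ a = φA c5) {α : MulAut Cfsg.Spor.HN} (hW : α W0 = W0)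
    (hαa : α (a : Cfsg.Spor.HN) = a) : ∃ n : Cfsg.Spor.HN, α = MulAut.conj n := by
  obtain ⟨u, hu, h1 | h1⟩ := aut_form hW
  · have hβW : (MulAut.conj u * α) W0 = W0 := by
      rw [MulAut.mul_apply, hW, conj_fix hu]
    obtain ⟨s, -, hs⟩ := aut0 hβW (triv_of_masks hβW h1)
    refine ⟨u⁻¹ * s, ?_⟩
    rw [map_mul, ← hs, map_inv, inv_mul_cancel_left]
  · exfalso
    set β : MulAut Cfsg.Spor.HN := MulAut.conj u * α with hβ
    have hβW : β W0 = W0 := by
      rw [hβ, MulAut.mul_apply, hW, conj_fix hu]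
    have hsg : ∀ c, β (sgn0 c) = sgn0 c := by
      intro c; cases c
      · exact map_one β
      · exact hβW
    let U : PP := ⟨u, hu⟩
    have hβa : β (a : Cfsg.Spor.HN) = ((U * a * U⁻¹ : PP) : Cfsg.Spor.HN) := by
      rw [hβ, MulAut.mul_apply, hαa, MulAut.conj_apply]
      rfl
    obtain ⟨w, hw⟩ := _root_.Cfsg.Agent.KFacts.HN.exists_word (ρ (U * a * U⁻¹))
    have haw : ρ a = e vA := ha.trans φA_c5
    -- the relation of masks
    have key : ∀ m < 256, app (mw w) (app PHI m) = app PHI (app (mw vA) m) := by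
      intro m hm
      obtain ⟨c, hc⟩ := conj_mask haw m
      obtain ⟨b, hb⟩ := h1 m hm
      obtain ⟨b', hb'⟩ := h1 (app (mw vA) m) (app_lt _ _)
      obtain ⟨d, hd⟩ := conj_mask hw (app PHI m)
      have h2 := congrArg β hc
      rw [map_mul, map_mul, map_inv, hβa, hb, map_mul, hb', hsg] at h2
      have h3 := csg b (((U * a * U⁻¹ : PP) : Cfsg.Spor.HN)) (mem_PP.1 (U * a * U⁻¹).2)
      have h4 : (((U * a * U⁻¹ : PP) : Cfsg.Spor.HN))⁻¹ * (r Q (app PHI m) * sgn0 b) * ((U * a * U⁻¹ : PP) : Cfsg.Spor.HN) =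
          r Q (app (mw w) (app PHI m)) * sgn0 (d ^^ b) := by
        calc (((U * a * U⁻¹ : PP) : Cfsg.Spor.HN))⁻¹ * (r Q (app PHI m) * sgn0 b) * ((U * a * U⁻¹ : PP) : Cfsg.Spor.HN)
            = (((U * a * U⁻¹ : PP) : Cfsg.Spor.HN))⁻¹ * r Q (app PHI m) * (sgn0 b * ((U * a * U⁻¹ : PP) : Cfsg.Spor.HN)) := by
              group
          _ = (((U * a * U⁻¹ : PP) : Cfsg.Spor.HN))⁻¹ * r Q (app PHI m) * ((U * a * U⁻¹ : PP) : Cfsg.Spor.HN) * sgn0 b := by
              rw [← h3]; group
          _ = _ := by rw [hd, mul_assoc, sgn0_mul]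
      rw [h4, mul_assoc, sgn0_mul] at h2
      exact mask_unique (app_lt _ _) (app_lt _ _) h2
    have h2 : mw w = mw vO := by
      refine pack_ext (mw_lt _) (mw_lt _) fun i hi => ?_
      have hm : 2 ^ i < 256 := lt_of_lt_of_le (Nat.pow_lt_pow_right (by norm_num) hi) (by norm_num)
      rw [← app_pow _ hi, ← app_pow _ hi, app_vO hm, ← key _ (app_lt _ _), app_PHI hm]
    have h3 : ρ (U * a * U⁻¹) = φB sO := by
      rw [hw, φB_sO]
      exact e_eq h2
    rw [map_mul, map_mul, map_inv, ha] at h3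
    exact not_conj_O _ h3

/-- **automorphisms fixing `a` are inner** -/
theorem inner_of_fix_y {a : PP} (ha : ρ a = φA c5) {α : MulAut Cfsg.Spor.HN}
    (hαa : α (a : Cfsg.Spor.HN) = a) : ∃ n : Cfsg.Spor.HN, α = MulAut.conj n := by
  have hfin : Finite Cfsg.Spor.HN := finite_HN
  -- the image of `W0` is a conjugate of `W0` in `C(a)`
  have hWa : (a : Cfsg.Spor.HN) * W0 = W0 * a := mem_PP.1 a.2
  have h1 : α W0 * (a : Cfsg.Spor.HN) = a * α W0 := by
    calc α W0 * (a : Cfsg.Spor.HN) = α W0 * α a := by rw [hαa]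
      _ = α (a * W0) := by rw [← map_mul, ← hWa]
      _ = a * α W0 := by rw [map_mul, hαa]
  have h2 : orderOf (⟨α W0, Subgroup.mem_centralizer_singleton_iff.2 h1⟩ :
      ↥(Subgroup.centralizer ({(a : Cfsg.Spor.HN)} : Set Cfsg.Spor.HN))) = 2 := by
    rw [← Subgroup.orderOf_coe]
    change orderOf (α W0) = 2
    rw [MulEquiv.orderOf_eq]
    exact TFive.order_W0
  obtain ⟨g, hg⟩ := (CpAutTh.RankOne.uInv_of_unique (TFive.order_sx a) (TFive.unique_one ha)).2 _ h2
  have h3 : (g : Cfsg.Spor.HN) * W0 * (g : Cfsg.Spor.HN)⁻¹ = α W0 := congrArg Subtype.val hg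
  have hga : (g : Cfsg.Spor.HN) * a = a * g := Subgroup.mem_centralizer_singleton_iff.1 g.2
  obtain ⟨n, hn⟩ := inner_of_fix (α := MulAut.conj (g : Cfsg.Spor.HN)⁻¹ * α) ha (by
    rw [MulAut.mul_apply, ← h3, MulAut.conj_apply]; group) (by
    rw [MulAut.mul_apply, hαa, MulAut.conj_apply]
    have : (g : Cfsg.Spor.HN)⁻¹ * a * (g : Cfsg.Spor.HN)⁻¹⁻¹ = (g : Cfsg.Spor.HN)⁻¹ * (a * g) := by group
    rw [this, ← hga, inv_mul_cancel_left])
  refine ⟨(g : Cfsg.Spor.HN) * n, ?_⟩
  rw [map_mul, ← hn, map_inv, mul_inv_cancel_left]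

end Cfsg.Agent.H481.EB.HN
end

-- part: H481/EB/HN
section
/-!
# TEAM EB: the row HN of S4522

`y` of order 5 in one factor `A5` of `C(2B) = 2^(1+8).(A5 wr 2)`, real, `C(y)` has quaternion Sylow 2-subgroups: (N8) for
`G = HN`; every automorphism of `HN` fixing `y` is inner: (OUT) for `G = HN.2`.
-/

set_option autoImplicit false

namespace Cfsg.Agent.H481.EB.HN

open Cfsg.Agent.HN.XWords (W0 W0_sq)
open Cfsg Cfsg.Agent
open Cfsg.Agent.KFacts.HN
open Cfsg.Agent.CpAutHNFive.TFive
open Cfsg.Agent.H569.HNFive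
open Cfsg.Agent.H610.EB Cfsg.Agent.H684.EB
open Subgroup

/-- the centralisers of the 2-elements with `W0 ∈ ⟨x⟩` have one 2-block -/
theorem oneBlock {M : Ideal AlgInt} (hM : IsPModular 2 M) (x : G) (hx : ∃ j : ℕ, orderOf x = 2 ^ j)
    (hW : W0 ∈ zpowers x) : OneBlock M ↥(centralizer ({x} : Set G)) := by
  obtain ⟨E, h1, h2, h3⟩ := exists_E hx hW
  have : Fact (Nat.Prime 2) := ⟨Nat.prime_two⟩
  have hf : Finite ↥(centralizer ({x} : Set G)) := inferInstance
  exact H104.EB.COne.oneBlock_of_constrained hM E h2 h3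

/-- the data of (N8) -/
theorem exists_data : ∃ y : G, Odd (orderOf y) ∧ IsConj y y⁻¹ ∧ Commute W0 y ∧
    (∃ Q : Sylow 2 ↥(centralizer ({y} : Set G)), Nat.card Q = 8 ∧ ¬ IsMulCommutative Q ∧
      ∀ q ∈ Q, Commute W0 (q : G)) ∧
    ∀ α : MulAut G, α y = y → ∃ n : G, α = MulAut.conj n := by
  obtain ⟨a, b, h⟩ := exists_pair
  refine ⟨(a : G), ?_, ?_, ?_, exists_sylow h.ao h.ρa, fun α hα => inner_of_fix_y h.ρa hα⟩
  · rw [Subgroup.orderOf_coe, h.ao]
    decide
  · obtain ⟨v, -, hv, -⟩ := h.exists_v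
    exact isConj_iff.2 ⟨(v : G), congrArg Subtype.val hv⟩
  · exact (W0_comm a).symm

theorem evenB_HN : EvenB G := by
  obtain ⟨y, h1, h2, h3, ⟨Q, h4, h5, h6⟩, h7⟩ := exists_data
  have hfin : Fintype G := Fintype.ofFinite G
  refine evenB_of_out (y := y) ?_ out_index h1 h7 ?_
  · exact evenS_of_n8 y h1 h2 Q h4 h5 W0 order_W0 h6 h3 fun M hM x hx hW => oneBlock hM x hx hW
  · intro _ k hk M hM
    obtain ⟨Ψ, k1, k2, k3, k4, k5, -, k6, k7⟩ := n8_function hk hM y h1 h2 Q h4 h5 W0 order_W0 h6 h3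
      fun x hx hW => oneBlock hM x hx hW
    refine ⟨Ψ, k1, k2, k3, k4, k6, k7, ?_⟩
    intro s hs
    obtain ⟨q, hq1, hq2, hq3⟩ := k5 s hs
    obtain ⟨t, ht⟩ := isConj_iff.1 hq1.symm
    exact ⟨t, q, hq2, hq3, ht.symm⟩

end Cfsg.Agent.H481.EB.HN

namespace Cfsg.Agent.H481.EB

/-- **The row HN.** -/
theorem evenB_hn {S : Type*} [Group S] (h : Cfsg.Spor.IsoHN S) : H684.EB.EvenB S := by
  obtain ⟨e⟩ := h
  exact evenB_univ e HN.evenB_HN

end Cfsg.Agent.H481.EB
end

-- part: H807/EB/Nine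
section
/-!
# S4522, row `M`: elements of order 7 of `A₉`
-/

set_option autoImplicit false

namespace Cfsg.Agent.H807.EB.Nine

open Equiv Equiv.Perm

theorem sum_le (σ : Perm (Fin 9)) : σ.cycleType.sum ≤ 9 := by
  have h := sum_cycleType_le σ
  rwa [Fintype.card_fin] at h

/-- an element whose order is divisible by 7 contains a 7-cycle -/
theorem seven_mem {σ : Perm (Fin 9)} (h : 7 ∣ orderOf σ) : 7 ∈ σ.cycleType := by
  rw [← lcm_cycleType] at h
  have hp : Nat.Prime 7 := by norm_num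
  obtain ⟨m, hm, h7⟩ : ∃ m ∈ σ.cycleType, 7 ∣ m := by
    by_contra hcon
    push Not at hcon
    have key : ∀ s : Multiset ℕ, (∀ m ∈ s, ¬ 7 ∣ m) → ¬ 7 ∣ s.lcm := by
      intro s
      induction s using Multiset.induction with
      | empty => intro _ h1; rw [Multiset.lcm_zero] at h1; exact absurd h1 (by norm_num)
      | cons a s ih =>
        intro hs h1
        rw [Multiset.lcm_cons] at h1
        rcases (hp.dvd_lcm).1 h1 with h2 | h2
        · exact hs a (Multiset.mem_cons_self a s) h2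
        · exact ih (fun m hm => hs m (Multiset.mem_cons_of_mem hm)) h2
    exact key _ hcon h
  have h9 : m ≤ 9 := (Multiset.le_sum_of_mem hm).trans (sum_le σ)
  have h2 := two_le_of_mem_cycleType hm
  obtain ⟨k, rfl⟩ := h7
  have : k = 1 := by omega
  subst this
  exact hm

/-- the cycle type is `(7)` or `(7, 2)` -/
theorem cycleType_cases {σ : Perm (Fin 9)} (h : 7 ∣ orderOf σ) : σ.cycleType = {7} ∨ σ.cycleType = {7, 2} := by
  obtain ⟨s, hs⟩ := Multiset.exists_cons_of_mem (seven_mem h)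
  have h1 := sum_le σ
  rw [hs, Multiset.sum_cons] at h1
  have h2 : ∀ m ∈ s, 2 ≤ m := fun m hm => two_le_of_mem_cycleType (by rw [hs]; exact Multiset.mem_cons_of_mem hm)
  rcases Multiset.empty_or_exists_mem s with h3 | ⟨m, hm⟩
  · left
    rw [hs, h3]
    rfl
  · right
    obtain ⟨s', hs'⟩ := Multiset.exists_cons_of_mem hm
    rw [hs', Multiset.sum_cons] at h1
    have h4 := h2 m hm
    have h5 : m = 2 := by omega
    rcases Multiset.empty_or_exists_mem s' with h6 | ⟨m', hm'⟩
    · rw [hs, hs', h6, h5]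
      rfl
    · have h7 := Multiset.le_sum_of_mem hm'
      have h8 := h2 m' (by rw [hs']; exact Multiset.mem_cons_of_mem hm')
      omega

theorem cycleType_alt {σ : Perm (Fin 9)} (h : 7 ∣ orderOf σ) (hs : sign σ = 1) : σ.cycleType = {7} := by
  rcases cycleType_cases h with h1 | h1
  · exact h1
  · rw [sign_of_cycleType, h1] at hs
    exact absurd hs (by decide)

/-- the elements of order 7 of `A₉` are conjugate -/
theorem conj_seven {a b : alternatingGroup (Fin 9)} (ha : orderOf a = 7) (hb : orderOf b = 7) : IsConj a b := by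
  have key : ∀ a : alternatingGroup (Fin 9), orderOf a = 7 → (a : Perm (Fin 9)).cycleType = {7} := fun a ha =>
    cycleType_alt (by rw [Subgroup.orderOf_coe, ha]) a.2
  refine alternatingGroup.isConj_of (isConj_iff_cycleType_eq.2 ((key a ha).trans (key b hb).symm)) ?_
  rw [← sum_cycleType, key a ha, Fintype.card_fin]
  decide

/-- an element of order 7 of `A₉` commutes with no involution -/
theorem not_comm {a g : alternatingGroup (Fin 9)} (ha : orderOf a = 7) (hg : orderOf g = 2) (h : a * g = g * a) :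
    False := by
  have h1 : orderOf (a * g) = 14 := by
    rw [(show Commute a g from h).orderOf_mul_eq_mul_orderOf_of_coprime (by rw [ha, hg]; norm_num), ha, hg]
  have h2 := cycleType_alt (σ := ((a * g : alternatingGroup (Fin 9)) : Perm (Fin 9)))
    (by rw [Subgroup.orderOf_coe, h1]; norm_num) (a * g).2
  have h3 := lcm_cycleType ((a * g : alternatingGroup (Fin 9)) : Perm (Fin 9))
  rw [h2, Subgroup.orderOf_coe, h1] at h3
  revert h3
  decide

end Cfsg.Agent.H807.EB.Nine
end

-- part: H807/EB/Co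
section
/-!
# S4522, row `M`: a real element of order 21 of `Co1` with centralizer of odd order and 4 fixed points on `Λ/2Λ`
-/

set_option autoImplicit false

open Subgroup

namespace Cfsg.Agent.H807.EB

open Cfsg Cfsg.Agent.H149.Sp Cfsg.Agent.H573.Spor Cfsg.Agent.H393.Iso
open Cfsg.Agent.LThreeMB (fr XX Zx mk mk_mul mk_eq_one exists_mk ClassOf)
open Cfsg.Agent.MonsterU.Lam2
open Cfsg.Spor (Co1)

/-- commuting elements `s`, `t` of orders 3 and 7 -/
structure ST (s t : Co1) : Prop where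
  hs : orderOf s = 3
  fs : fr s = 2 ^ 8
  nine : Nonempty (XX s ≃* ↥(alternatingGroup (Fin 9)))
  ht : orderOf t = 7
  st : t * s = s * t
  ft : fr t = 2 ^ 6

theorem exists_st : ∃ s t : Co1, ST s t := by
  obtain ⟨s, hs, hfs, ⟨e⟩, -⟩ := Cfsg.Agent.LThreeMB.CoOneFin.coOne.nine
  have hf7 : Fact (Nat.Prime 7) := ⟨by norm_num⟩
  have hcard : Nat.card (centralizer ({s} : Set Co1)) = 181440 * 3 := by
    rw [card_XX, Nat.card_congr e.toEquiv, hs, nat_card_alternatingGroup]
    rw [Nat.card_eq_fintype_card, Fintype.card_fin]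
    rfl
  have hfc : Finite (centralizer ({s} : Set Co1)) := Nat.finite_of_card_ne_zero (by rw [hcard]; norm_num)
  obtain ⟨t, ht⟩ := exists_prime_orderOf_dvd_card' (G := centralizer ({s} : Set Co1)) 7 (by rw [hcard]; norm_num)
  have ht' : orderOf (t : Co1) = 7 := by rw [orderOf_coe, ht]
  have hst : (t : Co1) * s = s * t := mem_cent.1 t.2
  exact ⟨s, t, hs, hfs, ⟨e⟩, ht', hst, fr_of_comm hfs ht' hst⟩

namespace ST

variable {s t : Co1} (h : ST s t)
include h

theorem comm : Commute s t := h.st.symm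

theorem s3 : s ^ 3 = 1 := by rw [← h.hs, pow_orderOf_eq_one]

theorem t7 : t ^ 7 = 1 := by rw [← h.ht, pow_orderOf_eq_one]

theorem s_eq : (s * t) ^ 7 = s := by
  rw [h.comm.mul_pow, h.t7, mul_one, show 7 = 3 * 2 + 1 by norm_num, pow_add, pow_mul, h.s3, one_pow, one_mul, pow_one]

theorem t_eq : (s * t) ^ 15 = t := by
  rw [h.comm.mul_pow, show s ^ 15 = 1 by rw [show 15 = 3 * 5 by norm_num, pow_mul, h.s3, one_pow], one_mul,
    show 15 = 7 * 2 + 1 by norm_num, pow_add, pow_mul, h.t7, one_pow, one_mul, pow_one]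

theorem comm_s {g : Co1} (hg : g * (s * t) = (s * t) * g) : g * s = s * g := by
  have h1 : Commute g ((s * t) ^ 7) := (show Commute g (s * t) from hg).pow_right 7
  rw [h.s_eq] at h1
  exact h1

theorem comm_t {g : Co1} (hg : g * (s * t) = (s * t) * g) : g * t = t * g := by
  have h1 : Commute g ((s * t) ^ 15) := (show Commute g (s * t) from hg).pow_right 15
  rw [h.t_eq] at h1
  exact h1

/-- the homomorphism `C(s) → A₉` -/
theorem exists_hom : ∃ f : centralizer ({s} : Set Co1) →* ↥(alternatingGroup (Fin 9)), Function.Surjective f ∧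
    ∀ g, f g = 1 → ∃ i : ℤ, s ^ i = (g : Co1) := by
  obtain ⟨e⟩ := h.nine
  refine ⟨e.toMonoidHom.comp (QuotientGroup.mk' (Zx s)), e.surjective.comp (QuotientGroup.mk'_surjective _),
    fun g hg => ?_⟩
  have h1 : QuotientGroup.mk' (Zx s) g = 1 := (map_eq_one_iff e e.injective).1 hg
  have h2 : g ∈ Zx s := (QuotientGroup.eq_one_iff g).1 h1
  obtain ⟨i, hi⟩ := mem_zpowers_iff.1 h2
  exact ⟨i, congrArg Subtype.val hi⟩

omit h in
/-- the order of the image of an element of prime order different from 3 -/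
theorem order_img (h : ST s t) {f : centralizer ({s} : Set Co1) →* ↥(alternatingGroup (Fin 9))}
    (hf : ∀ g, f g = 1 → ∃ i : ℤ, s ^ i = (g : Co1)) {p : ℕ} (hp : p.Prime) (hp3 : p ≠ 3)
    {g : centralizer ({s} : Set Co1)} (hg : orderOf g = p) : orderOf (f g) = p := by
  have : Fact p.Prime := ⟨hp⟩
  refine orderOf_eq_prime (by rw [← map_pow, ← hg, pow_orderOf_eq_one, map_one]) fun h1 => ?_
  obtain ⟨i, hi⟩ := hf g h1
  have h2 : (g : Co1) ^ 3 = 1 := by
    rw [← hi, ← zpow_natCast, ← zpow_mul, mul_comm, zpow_mul, zpow_natCast, h.s3, one_zpow]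
  have h3 := orderOf_dvd_of_pow_eq_one h2
  rw [orderOf_coe, hg] at h3
  exact hp3 ((Nat.prime_dvd_prime_iff_eq hp Nat.prime_three).1 h3)

/-- **the centralizer of `s t` has odd order** -/
theorem odd_cent [Finite Co1] : Odd (Nat.card (centralizer ({s * t} : Set Co1))) := by
  rw [← Nat.not_even_iff_odd, even_iff_two_dvd]
  intro h2
  have hf2 : Fact (Nat.Prime 2) := ⟨Nat.prime_two⟩
  obtain ⟨g, hg⟩ := exists_prime_orderOf_dvd_card' (G := centralizer ({s * t} : Set Co1)) 2 h2
  have hgst : (g : Co1) * (s * t) = (s * t) * g := mem_cent.1 g.2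
  obtain ⟨f, -, hf⟩ := h.exists_hom
  let g' : centralizer ({s} : Set Co1) := ⟨g, mem_cent.2 (h.comm_s hgst)⟩
  let t' : centralizer ({s} : Set Co1) := ⟨t, mem_cent.2 h.st⟩
  have h1 : orderOf (f t') = 7 := h.order_img hf (by norm_num) (by norm_num) (by rw [← h.ht, ← orderOf_coe])
  have h2 : orderOf (f g') = 2 := h.order_img hf (by norm_num) (by norm_num) (by
    rw [← orderOf_coe]; exact (orderOf_coe g).trans hg)
  refine Nine.not_comm h1 h2 ?_
  rw [← map_mul, ← map_mul]
  exact congrArg f (Subtype.ext (h.comm_t hgst).symm)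

omit h in
theorem fr_inv (s : Co1) : fr s⁻¹ = fr s := by
  apply Nat.card_congr
  refine Equiv.subtypeEquivRight fun v => ?_
  rw [inv_smul_eq_iff]
  exact eq_comm

/-- **`s t` is real** -/
theorem real : ∃ k : Co1, k * (s * t) * k⁻¹ = (s * t)⁻¹ := by
  obtain ⟨k, hk⟩ := Cfsg.Agent.LThreeMB.CoOneFin.coOne.eight s s⁻¹ h.hs (by rw [orderOf_inv, h.hs]) h.fs
    ((fr_inv s).trans h.fs)
  obtain ⟨f, hfs, hf⟩ := h.exists_hom
  have h1 : (k * t * k⁻¹) * s = s * (k * t * k⁻¹) := by
    have h2 : k * s⁻¹ * k⁻¹ = s := by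
      rw [← inv_inj, mul_inv_rev, mul_inv_rev, inv_inv, inv_inv, ← mul_assoc, hk]
    calc k * t * k⁻¹ * s = k * t * k⁻¹ * (k * s⁻¹ * k⁻¹) := by rw [h2]
      _ = k * (t * s⁻¹) * k⁻¹ := by group
      _ = k * (s⁻¹ * t) * k⁻¹ := by rw [(h.comm.inv_left).eq]
      _ = (k * s⁻¹ * k⁻¹) * (k * t * k⁻¹) := by group
      _ = s * (k * t * k⁻¹) := by rw [h2]
  let t' : centralizer ({s} : Set Co1) := ⟨k * t * k⁻¹, mem_cent.2 h1⟩
  let u' : centralizer ({s} : Set Co1) := ⟨t⁻¹, mem_cent.2 (h.comm.inv_right).symm.eq⟩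
  have h7 : Nat.Prime 7 := by norm_num
  have ht' : orderOf (f t') = 7 := h.order_img hf h7 (by norm_num) (by
    rw [← orderOf_coe, ← h.ht]
    exact orderOf_injective (MulAut.conj k).toMonoidHom (MulAut.conj k).injective t)
  have hu' : orderOf (f u') = 7 := h.order_img hf h7 (by norm_num) (by
    rw [← orderOf_coe, ← h.ht]
    exact orderOf_inv t)
  obtain ⟨c, hc⟩ := isConj_iff.1 (Nine.conj_seven ht' hu')
  obtain ⟨c, rfl⟩ := hfs c
  have h2 : f (u'⁻¹ * (c * t' * c⁻¹)) = 1 := by
    rw [map_mul, map_mul, map_mul, map_inv, map_inv, hc, inv_mul_cancel]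
  obtain ⟨i, hi⟩ := hf _ h2
  have hi' : s ^ i = t * ((c : Co1) * (k * t * k⁻¹) * (c : Co1)⁻¹) := by
    rw [hi]
    show (t⁻¹)⁻¹ * ((c : Co1) * (k * t * k⁻¹) * (c : Co1)⁻¹) = _
    rw [inv_inv]
  -- `(c k) t (c k)⁻¹ = t⁻¹ s ^ i` has order 7
  have h3 : (c : Co1) * (k * t * k⁻¹) * (c : Co1)⁻¹ = t⁻¹ * s ^ i := by rw [hi', inv_mul_cancel_left]
  have h4 : ((c : Co1) * (k * t * k⁻¹) * (c : Co1)⁻¹) ^ 7 = 1 := by
    rw [conj_pow, conj_pow, h.t7]
    group
  rw [h3, ((h.comm.symm.inv_left).zpow_right i).mul_pow, inv_pow, h.t7, inv_one, one_mul] at h4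
  have h5 : s ^ i = 1 := by
    have h6 : (s ^ i) ^ 3 = 1 := by
      rw [← zpow_natCast, ← zpow_mul, mul_comm, zpow_mul, zpow_natCast, h.s3, one_zpow]
    calc s ^ i = (s ^ i) ^ 7 * (((s ^ i) ^ 3) ^ 2)⁻¹ := by group
      _ = 1 := by rw [h4, h6]; group
  rw [h5, mul_one] at h3
  have hcs : (c : Co1) * s⁻¹ * (c : Co1)⁻¹ = s⁻¹ := by
    have h6 : (c : Co1) * s = s * c := mem_cent.1 c.2
    rw [((show Commute (c : Co1) s from h6).inv_right).eq, mul_inv_cancel_right]
  refine ⟨c * k, ?_⟩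
  calc (c : Co1) * k * (s * t) * ((c : Co1) * k)⁻¹ =
      ((c : Co1) * (k * s * k⁻¹) * (c : Co1)⁻¹) * ((c : Co1) * (k * t * k⁻¹) * (c : Co1)⁻¹) := by group
    _ = s⁻¹ * t⁻¹ := by rw [hk, hcs, h3]
    _ = (s * t)⁻¹ := by rw [h.comm.eq, mul_inv_rev]

end ST

/-- the number of fixed points of commuting elements -/
noncomputable def fr2 (s t : Co1) : ℕ := Nat.card {v : L2 // s • v = v ∧ t • v = v}

/-- counting modulo the order -/
theorem fr_mod {s t : Co1} {p : ℕ} (hp : p.Prime) (ht : orderOf t = p) (hst : Commute s t) (h0 : fr s ≠ 0) :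
    fr s ≡ fr2 s t [MOD p] := by
  have hf : Fact p.Prime := ⟨hp⟩
  have key : ∀ g ∈ zpowers t, ∀ v : L2, s • v = v → s • g • v = g • v := by
    intro g hg v hv
    obtain ⟨n, rfl⟩ := mem_zpowers_iff.1 hg
    have h1 : Commute s (t ^ n) := (Commute.zpow_right hst n)
    rw [← mul_smul, h1.eq, mul_smul, hv]
  let act : MulAction (zpowers t) {v : L2 // s • v = v} :=
    { smul := fun g v => ⟨(g : Co1) • (v : L2), key g g.2 v v.2⟩
      one_smul := fun v => Subtype.ext (one_smul Co1 (v : L2))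
      mul_smul := fun g h v => Subtype.ext (mul_smul (g : Co1) (h : Co1) (v : L2)) }
  have hZ : IsPGroup p (zpowers t) := by
    rw [IsPGroup.iff_card]
    exact ⟨1, by rw [Nat.card_zpowers, ht, pow_one]⟩
  have hfin : Finite {v : L2 // s • v = v} := Nat.finite_of_card_ne_zero h0
  have hmod := hZ.card_modEq_card_fixedPoints {v : L2 // s • v = v}
  have h1 : Nat.card (MulAction.fixedPoints (zpowers t) {v : L2 // s • v = v}) = fr2 s t := by
    refine Nat.card_congr
      { toFun := fun v => ⟨(v.1.1 : L2), v.1.2, congrArg Subtype.val (v.2 ⟨t, mem_zpowers t⟩)⟩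
        invFun := fun v => ⟨⟨v.1, v.2.1⟩, ?_⟩
        left_inv := fun v => rfl
        right_inv := fun v => rfl }
    rintro ⟨_, i, rfl⟩
    refine Subtype.ext ?_
    show (t ^ i) • (v : L2) = v
    have h2 : t ∈ MulAction.stabilizer Co1 (v : L2) := v.2.2
    exact (zpow_mem h2 i : t ^ i ∈ MulAction.stabilizer Co1 (v : L2))
  rw [h1] at hmod
  exact hmod

theorem fr2_comm (s t : Co1) : fr2 s t = fr2 t s :=
  Nat.card_congr (Equiv.subtypeEquivRight fun _ => and_comm)

/-- `fr2 s t` is a power of 2 -/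
theorem fr2_pow (s t : Co1) : ∃ k ≤ 24, fr2 s t = 2 ^ k := by
  let W : AddSubgroup L2 :=
    { carrier := {v | s • v = v ∧ t • v = v}
      add_mem' := fun {a b} ha hb => by
        show s • (a + b) = a + b ∧ t • (a + b) = a + b
        rw [smul_add, smul_add, ha.1, ha.2, hb.1, hb.2]
        exact ⟨rfl, rfl⟩
      zero_mem' := ⟨smul_zero s, smul_zero t⟩
      neg_mem' := fun {a} ha => by
        show s • (-a) = -a ∧ t • (-a) = -a
        rw [smul_neg, smul_neg, ha.1, ha.2]
        exact ⟨rfl, rfl⟩ }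
  have h1 : Nat.card W ∣ 2 ^ 24 := by
    rw [← Cfsg.Agent.MonsterU.Lam2.card_L2]
    exact AddSubgroup.card_addSubgroup_dvd_card W
  obtain ⟨k, hk, h2⟩ := (Nat.dvd_prime_pow Nat.prime_two).1 h1
  exact ⟨k, hk, h2⟩

namespace ST

variable {s t : Co1} (h : ST s t)
include h

theorem fr2_eq : fr2 s t = 4 := by
  have h7 := fr_mod (p := 7) (by norm_num) h.ht h.comm (by rw [h.fs]; norm_num)
  have h3 := fr_mod (p := 3) (by norm_num) h.hs h.comm.symm (by rw [h.ft]; norm_num)
  rw [h.fs] at h7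
  rw [h.ft, fr2_comm] at h3
  obtain ⟨k, -, hk⟩ := fr2_pow s t
  have hle : fr2 s t ≤ 2 ^ 6 := by
    rw [← h.ft]
    have hfin : Finite {v : L2 // t • v = v} := Nat.finite_of_card_ne_zero (by
      show fr t ≠ 0
      rw [h.ft]; norm_num)
    exact Nat.card_le_card_of_injective (fun v : {v : L2 // s • v = v ∧ t • v = v} =>
      (⟨v.1, v.2.2⟩ : {v : L2 // t • v = v})) fun a b hab => Subtype.ext (congrArg (fun w : {v : L2 // t • v = v} => (w : L2)) hab)
  rw [hk] at h7 h3 hle ⊢
  have hk6 : k ≤ 6 := (Nat.pow_le_pow_iff_right (by norm_num)).1 hle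
  interval_cases k <;> first | rfl | (exact absurd h7 (by decide)) | (exact absurd h3 (by decide))

theorem fr_eq : fr (s * t) = 4 := by
  rw [← h.fr2_eq]
  refine Nat.card_congr (Equiv.subtypeEquivRight fun v => ?_)
  constructor
  · intro hv
    have h1 : s * t ∈ MulAction.stabilizer Co1 v := hv
    have h2 : (s * t) ^ 7 ∈ MulAction.stabilizer Co1 v := pow_mem h1 7
    have h3 : (s * t) ^ 15 ∈ MulAction.stabilizer Co1 v := pow_mem h1 15
    rw [h.s_eq] at h2
    rw [h.t_eq] at h3
    exact ⟨h2, h3⟩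
  · rintro ⟨h1, h2⟩
    rw [mul_smul, h2, h1]

theorem pow21 : (s * t) ^ 21 = 1 := by
  rw [h.comm.mul_pow, show 21 = 3 * 7 by norm_num, pow_mul s, h.s3, one_pow, one_mul, mul_comm 3 7, pow_mul, h.t7,
    one_pow]

end ST

end Cfsg.Agent.H807.EB
end

-- part: H807/EB/Cha
section
/-!
# S4522: a chart `2^{1+24}.Co1` of an involution centralizer and an element `y` of odd order

`card_PP`: `|C_Q(y)| = 2 fr (pi y)`; `cent_PP`: `Z(C_Q(y)) = ⟨z⟩`; `conj_21`: elements `x`, `y` with `x ^ 21 = y ^ 21 = 1` and the same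
image in `Co1` are conjugate; `odd_relIndex`: if `C_{Co1}(pi y)` has odd order and `C_Q(y)` has centre `⟨z⟩`, then `C_Q(y)` is a Sylow
2-subgroup of `C(y)`.
-/

set_option autoImplicit false

open Subgroup

namespace Cfsg.Agent.H807.EB

open Cfsg.Agent.LThreeMB (PP mem_PP sm bL bL_apply fr conj_coset conj_Q)
open Cfsg.Agent.MonsterU
open Cfsg.Agent.MonsterU.Ch
open Cfsg.Agent.MonsterU.Lam2
open Cfsg.Spor (Co1)

section sylow

variable {G : Type*} [Group G] [Finite G]

/-- `T ≤ D` a 2-group, every element of `D` normalising `T` commutes with `z`, `T` has odd index in `C(z) ∩ D`: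
`T` has odd index in `D`. -/
theorem odd_of_normalizer {D T : Subgroup G} (hTD : T ≤ D) (hT : IsPGroup 2 T) {z : G}
    (hzc : ∀ g ∈ D, (∀ t ∈ T, g * t * g⁻¹ ∈ T) → g * z = z * g) (hTz : T ≤ centralizer {z})
    (hodd : Odd (T.relIndex (centralizer {z} ⊓ D))) : Odd (T.relIndex D) := by
  have : Fact (Nat.Prime 2) := ⟨Nat.prime_two⟩
  have hT' : IsPGroup 2 ↥(T.subgroupOf D) := hT.comap_subtype
  obtain ⟨P, hP⟩ := hT'.exists_le_sylow
  have hPP : IsPGroup 2 ↥((P : Subgroup D).map D.subtype) := P.isPGroup'.map D.subtype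
  have hTP : T ≤ (P : Subgroup D).map D.subtype := fun x hx => ⟨⟨x, hTD hx⟩, hP hx, rfl⟩
  have heq : (P : Subgroup D).map D.subtype = T := by
    by_contra hne
    set P' : Subgroup G := (P : Subgroup D).map D.subtype with hP'
    have := hPP.isNilpotent
    have hlt : T.subgroupOf P' < ⊤ := by
      rw [lt_top_iff_ne_top]
      intro h1
      exact hne (le_antisymm (subgroupOf_eq_top.1 h1) hTP)
    have h2 := Group.normalizerCondition_of_isNilpotent (G := P') (T.subgroupOf P') hlt
    obtain ⟨g, hg, hgT⟩ := SetLike.exists_of_lt h2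
    have hnorm : ∀ t ∈ T, (g : G) * t * (g : G)⁻¹ ∈ T := fun t ht =>
      (mem_normalizer_iff.1 hg ⟨t, hTP ht⟩).1 ht
    have hPD : P' ≤ D := by
      rintro _ ⟨x, -, rfl⟩
      exact x.2
    have hgz := hzc g (hPD g.2) hnorm
    -- the 2-group `P' ∩ C(z)` has order dividing `|T|`
    have h3 : IsPGroup 2 ↥(P' ⊓ centralizer {z} : Subgroup G) := hPP.to_le inf_le_left
    obtain ⟨a, ha⟩ := h3.exists_card_eq
    have h4 : Nat.card ↥(P' ⊓ centralizer {z} : Subgroup G) ∣ Nat.card ↥(centralizer {z} ⊓ D) :=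
      card_dvd_of_le (le_inf inf_le_right (inf_le_left.trans hPD))
    have h5 := relIndex_mul_relIndex ⊥ T (centralizer {z} ⊓ D) bot_le (le_inf hTz hTD)
    rw [relIndex_bot_left, relIndex_bot_left] at h5
    rw [← h5, ha] at h4
    have h6 : Nat.Coprime (2 ^ a) (T.relIndex (centralizer {z} ⊓ D)) :=
      Nat.Coprime.pow_left _ (Nat.coprime_two_left.2 hodd)
    have h7 := h6.dvd_of_dvd_mul_right h4
    rw [← ha] at h7
    have h8 : T = P' ⊓ centralizer {z} :=
      eq_of_le_of_card_ge (le_inf hTP hTz) (Nat.le_of_dvd Nat.card_pos h7)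
    apply hgT
    show (g : G) ∈ T
    rw [h8]
    exact ⟨g.2, mem_centralizer_singleton_iff.2 hgz⟩
  have h9 : T.subgroupOf D = P := by
    ext x
    rw [mem_subgroupOf, ← heq]
    constructor
    · rintro ⟨x', hx', h⟩
      rwa [← Subtype.ext h]
    · intro hx
      exact ⟨x, hx, rfl⟩
  have h10 : T.relIndex D = (P : Subgroup D).index := by rw [← h9]; rfl
  rw [h10, ← Nat.not_even_iff_odd, even_iff_two_dvd]
  exact P.not_dvd_index

end sylow

section chart

variable {G : Type*} [Group G] {Q : Subgroup G} {z : G} {eta : G → L2}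
  {pi : Subgroup.centralizer ({z} : Set G) →* Co1} {n : ℕ}

/-- `C_Q(x)` maps onto the fixed points of `pi x`. -/
theorem exists_fix (h : Chart Q z eta pi) (ho : Odd n) {x : Subgroup.centralizer ({z} : Set G)} (hx : x ^ n = 1)
    {v : L2} (hv : pi x • v = v) : ∃ w ∈ Q, w * (x : G) = x * w ∧ eta w = v := by
  obtain ⟨w, hw, rfl⟩ := h.eta_surj v
  exact ⟨w, hw, ((MFive.comm_iff_fix h ho hx hw).2 hv).symm, rfl⟩

/-- the centre of `C_Q(x)` -/
theorem cent_PP (h : Chart Q z eta pi) (ho : Odd n) {x : Subgroup.centralizer ({z} : Set G)} (hx : x ^ n = 1)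
    {p : G} (hp : p ∈ Q) (hpx : p * (x : G) = x * p) (hc : ∀ w ∈ Q, w * (x : G) = x * w → p * w = w * p) :
    p = 1 ∨ p = z := by
  rw [← h.eta_zero p hp]
  refine bf_nondeg fun v => ?_
  have hs : pi x ^ n = 1 := by rw [← map_pow, hx, map_one]
  have hfix : pi x • eta p = eta p := (MFive.comm_iff_fix h ho hx hp).1 hpx.symm
  have h1 := MFive.Lin.b_tr ho bL (sm (pi x)) (fun v w => Lam2.bf_smul1 (pi x) v w) (v := eta p) hfix v
  rw [bL_apply, bL_apply] at h1
  rw [← h1]
  obtain ⟨w, hw, hwx, hwv⟩ := exists_fix h ho hx (v := MFive.Lin.tr n (sm (pi x)) v)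
    (MFive.Lin.s_tr (sm (pi x)) (MFive.sm_iter_eq hs) v)
  rw [← hwv]
  exact (h.comm_iff hp hw).1 (hc w hw hwx)

/-- the order of `C_Q(x)` -/
theorem card_PP (h : Chart Q z eta pi) (ho : Odd n) {x : Subgroup.centralizer ({z} : Set G)} (hx : x ^ n = 1) :
    Nat.card ↥(PP Q (x : G)) = fr (pi x) * 2 := by
  have h1 := MFive.card_pre h ho hx ⊤
  have h2 : Nat.card {v : L2 // v ∈ (⊤ : AddSubgroup L2) ∧ pi x • v = v} = fr (pi x) :=
    Nat.card_congr (Equiv.subtypeEquivRight fun v => by simp)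
  rw [h2] at h1
  rw [← h1]
  refine Nat.card_congr (Equiv.subtypeEquivRight fun q => ?_)
  rw [mem_PP]
  constructor
  · rintro ⟨h3, h4⟩
    exact ⟨⟨h3, AddSubgroup.mem_top _⟩, h4.symm⟩
  · rintro ⟨⟨h3, -⟩, h4⟩
    exact ⟨h3, h4.symm⟩

/-- the index of `C_Q(x)` in `C(z) ∩ C(x)` -/
theorem relIndex_dvd (h : Chart Q z eta pi) [Finite Co1] (x : Subgroup.centralizer ({z} : Set G)) :
    (PP Q (x : G)).relIndex (centralizer {z} ⊓ centralizer {(x : G)}) ∣ Nat.card (centralizer ({pi x} : Set Co1)) := by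
  let f : ↥(centralizer ({z} : Set G) ⊓ centralizer {(x : G)}) →* centralizer ({pi x} : Set Co1) :=
    { toFun := fun g => ⟨pi ⟨g, g.2.1⟩, by
        rw [mem_centralizer_singleton_iff, ← map_mul, ← map_mul]
        exact congrArg pi (Subtype.ext (mem_centralizer_singleton_iff.1 g.2.2))⟩
      map_one' := Subtype.ext (map_one pi)
      map_mul' := fun a b => Subtype.ext (map_mul pi ⟨a, a.2.1⟩ ⟨b, b.2.1⟩) }
  have hk : f.ker = (PP Q (x : G)).subgroupOf (centralizer {z} ⊓ centralizer {(x : G)}) := by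
    ext g
    rw [MonoidHom.mem_ker, mem_subgroupOf, mem_PP]
    have h1 : f g = 1 ↔ (g : G) ∈ Q := by
      rw [← h.pi_eq_one ⟨g, g.2.1⟩, ← Subtype.coe_inj]
      rfl
    rw [h1]
    exact ⟨fun h2 => ⟨h2, mem_centralizer_singleton_iff.1 g.2.2⟩, fun h2 => h2.1⟩
  have h2 : (PP Q (x : G)).relIndex (centralizer {z} ⊓ centralizer {(x : G)}) = Nat.card f.range := by
    rw [← index_ker, hk]
    rfl
  rw [h2]
  exact card_subgroup_dvd_card f.range

/-- **`C_Q(x)` is a Sylow 2-subgroup of `C(x)`.** -/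
theorem odd_relIndex [Finite G] [Finite Co1] (h : Chart Q z eta pi) (ho : Odd n)
    {x : Subgroup.centralizer ({z} : Set G)} (hx : x ^ n = 1)
    (hodd : Odd (Nat.card (centralizer ({pi x} : Set Co1)))) : Odd ((PP Q (x : G)).relIndex (centralizer {(x : G)})) := by
  have hPQ : PP Q (x : G) ≤ Q := inf_le_left
  refine odd_of_normalizer (z := z) inf_le_right ?_ ?_ ?_ ?_
  · intro q
    refine ⟨2, Subtype.ext ?_⟩
    exact MFive.pow_four h (hPQ q.2)
  · intro g hg hn
    have hzP : z ∈ PP Q (x : G) := mem_PP.2 ⟨h.large.z_mem, (mem_centralizer_singleton_iff.1 x.2).symm⟩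
    have h1 := mem_PP.1 (hn z hzP)
    have h2 : g * z * g⁻¹ = 1 ∨ g * z * g⁻¹ = z := by
      refine cent_PP h ho hx h1.1 h1.2 fun w hw hwx => ?_
      -- `w = g w' g⁻¹` with `w' ∈ C_Q(x)`
      have hsurj : ∃ w' ∈ PP Q (x : G), g * w' * g⁻¹ = w := by
        have hfin : Finite ↥(PP Q (x : G)) := inferInstance
        have hinj : Function.Injective (fun w' : ↥(PP Q (x : G)) => (⟨g * w' * g⁻¹, hn w' w'.2⟩ : ↥(PP Q (x : G)))) := by
          intro a b hab
          have h3 : g * (a : G) * g⁻¹ = g * b * g⁻¹ := congrArg Subtype.val hab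
          exact Subtype.ext (mul_left_cancel (mul_right_cancel h3))
        obtain ⟨w', hw'⟩ := Finite.surjective_of_injective hinj ⟨w, mem_PP.2 ⟨hw, hwx⟩⟩
        exact ⟨w', w'.2, congrArg Subtype.val hw'⟩
      obtain ⟨w', hw', rfl⟩ := hsurj
      have h4 : w' * z = z * w' := h.large.comm_z w' (hPQ hw')
      calc g * z * g⁻¹ * (g * w' * g⁻¹) = g * (z * w') * g⁻¹ := by group
        _ = g * (w' * z) * g⁻¹ := by rw [h4]
        _ = g * w' * g⁻¹ * (g * z * g⁻¹) := by group
    rcases h2 with h2 | h2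
    · exfalso
      apply h.large.z_ne
      calc z = g⁻¹ * (g * z * g⁻¹) * g := by group
        _ = 1 := by rw [h2]; group
    · exact mul_inv_eq_iff_eq_mul.1 h2
  · intro q hq
    exact mem_centralizer_singleton_iff.2 (h.large.comm_z q (hPQ hq))
  · exact Odd.of_dvd_nat hodd (relIndex_dvd h x)

/-- elements `x`, `y` of `C(z)` with `x ^ 21 = y ^ 21 = 1` and the same image in `Co1` are conjugate under `Q` -/
theorem conj_21 (h : Chart Q z eta pi) {x y : Subgroup.centralizer ({z} : Set G)} (hx : x ^ 21 = 1)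
    (hy : y ^ 21 = 1) (hxy : pi x = pi y) : ∃ q ∈ Q, q * (x : G) * q⁻¹ = y := by
  have := h.fin
  have hx' : (x : G) ^ 21 = 1 := MFive.coe_pow hx
  have hy' : (y : G) ^ 21 = 1 := MFive.coe_pow hy
  -- the elements of order 3
  obtain ⟨q, hq, h1⟩ := MFive.exists_conj_of_pi_eq h (p := 3) Nat.prime_three (by decide) (x := x ^ 7) (y := y ^ 7)
    (by rw [← pow_mul, hx]) (by rw [← pow_mul, hy]) (by rw [map_pow, map_pow, hxy])
  rw [SubmonoidClass.coe_pow, SubmonoidClass.coe_pow, ← conj_pow] at h1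
  set x1 : G := q * (x : G) * q⁻¹ with hx1
  have hx121 : x1 ^ 21 = 1 := by rw [hx1, conj_pow, hx', mul_one, mul_inv_cancel]
  have hx1z : x1 * z = z * x1 := by
    have h2 : q * z = z * q := h.large.comm_z q hq
    have h3 : (x : G) * z = z * x := mem_centralizer_singleton_iff.1 x.2
    have c1 : Commute q z := h2
    have c2 : Commute (x : G) z := h3
    exact ((c1.mul_left c2).mul_left c1.inv_left).eq
  -- the elements of order 7
  have hf7 : Fact (Nat.Prime 7) := ⟨by norm_num⟩
  have hQn : ∀ c : G, c * z = z * c → ∀ w ∈ Q, c * w * c⁻¹ ∈ Q := fun c hc w hw => h.large.conj_mem c hc w hw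
  have hyz : (y : G) * z = z * y := mem_centralizer_singleton_iff.1 y.2
  -- `y x1⁻¹ ∈ Q`
  have hyx1 : (y : G) * x1⁻¹ ∈ Q := by
    have h2 : (x : G)⁻¹ * y ∈ Q := h.pi_eq.1 hxy
    have h3 : (y : G) * (x : G)⁻¹ ∈ Q := by
      have h4 := hQn x (mem_centralizer_singleton_iff.1 x.2) _ h2
      have h5 : (x : G) * ((x : G)⁻¹ * y) * (x : G)⁻¹ = y * (x : G)⁻¹ := by group
      rwa [h5] at h4
    have h6 : (y : G) * x1⁻¹ = (y * (x : G)⁻¹) * ((x : G) * q * (x : G)⁻¹) * q⁻¹ := by rw [hx1]; group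
    rw [h6]
    exact mul_mem (mul_mem h3 (hQn x (mem_centralizer_singleton_iff.1 x.2) _ hq)) (inv_mem hq)
  have hpow : ∀ k : ℕ, (y : G) ^ k * (x1 ^ k)⁻¹ ∈ Q := by
    intro k
    induction k with
    | zero => simp [one_mem]
    | succ k ih =>
      have h2 : (y : G) ^ (k + 1) * (x1 ^ (k + 1))⁻¹ = (y : G) * ((y : G) ^ k * (x1 ^ k)⁻¹) * (y : G)⁻¹ * (y * x1⁻¹) := by
        rw [pow_succ' (y : G), pow_succ' x1]
        have h3 : (x1 * x1 ^ k)⁻¹ = (x1 ^ k)⁻¹ * x1⁻¹ := mul_inv_rev _ _
        rw [h3]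
        group
      rw [h2]
      exact mul_mem (hQn y hyz _ ih) hyx1
  let N : Subgroup G := Q ⊓ centralizer {(y : G) ^ 7}
  have hNf : Finite ↥N := Finite.of_injective _ (inclusion_injective (inf_le_left : N ≤ Q))
  have hN7 : ¬ 7 ∣ Nat.card ↥N := fun h2 =>
    MFive.not_dvd h (p := 7) (by norm_num) (by decide) (h2.trans (card_dvd_of_le inf_le_left))
  have c1 : Commute (x1 ^ 3) ((y : G) ^ 7) := by
    rw [← h1]
    exact (Commute.refl x1).pow_pow 3 7
  have c2 : Commute ((y : G) ^ 3) ((y : G) ^ 7) := (Commute.refl (y : G)).pow_pow 3 7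
  obtain ⟨m, hm, h2⟩ := conj_coset (p := 7) N hN7 (x := x1 ^ 3) (y := (y : G) ^ 3) (by rw [← pow_mul, hx121])
    (by rw [← pow_mul, hy']) (fun w hw => by
      refine ⟨hQn (x1 ^ 3) ((show Commute x1 z from hx1z).pow_left 3).eq w hw.1, mem_centralizer_singleton_iff.2 ?_⟩
      have c3 : Commute w ((y : G) ^ 7) := mem_centralizer_singleton_iff.1 hw.2
      exact ((c1.mul_left c3).mul_left c1.inv_left).eq) ⟨hpow 3, mem_centralizer_singleton_iff.2 (c2.mul_left c1.inv_left).eq⟩
  refine ⟨m * q, mul_mem hm.1 hq, ?_⟩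
  have c4 : Commute m ((y : G) ^ 7) := mem_centralizer_singleton_iff.1 hm.2
  have h3 : m * q * (x : G) * (m * q)⁻¹ = m * x1 * m⁻¹ := by rw [hx1]; group
  rw [h3]
  have h4 : (m * x1 * m⁻¹) ^ 7 = (y : G) ^ 7 := by rw [conj_pow, h1, c4.eq, mul_inv_cancel_right]
  have h5 : (m * x1 * m⁻¹) ^ 3 = (y : G) ^ 3 := by rw [conj_pow, h2]
  calc m * x1 * m⁻¹ = (m * x1 * m⁻¹) ^ 7 * (((m * x1 * m⁻¹) ^ 3) ^ 2)⁻¹ := by group
    _ = (y : G) ^ 7 * (((y : G) ^ 3) ^ 2)⁻¹ := by rw [h4, h5]
    _ = y := by group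

end chart

end Cfsg.Agent.H807.EB
end

-- part: H807/EB/Her
section
/-!
# S4522: centralizers of 2-elements in 2-constrained groups

`exists_constr`: `E` a 2-group, normalised by `C`, `C_C(E) ≤ E`, `x` a 2-element with `C(x) ≤ C`: then `C(x)` has a normal 2-subgroup
containing its centralizer in `C(x)`.
-/

set_option autoImplicit false

open Subgroup

namespace Cfsg.Agent.H807.EB

open Cfsg.Agent.H864

theorem exists_constr {H : Type*} [Group H] [Finite H] {p : ℕ} [Fact p.Prime] {C E : Subgroup H} (hE : IsPGroup p E)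
    (hn : ∀ c ∈ C, ∀ e ∈ E, c * e * c⁻¹ ∈ E) (hself : ∀ c ∈ C, (∀ e ∈ E, c * e = e * c) → c ∈ E) {x : H}
    (hx : ∃ j : ℕ, orderOf x = p ^ j) (hxC : centralizer ({x} : Set H) ≤ C) :
    ∃ F : Subgroup ↥(centralizer ({x} : Set H)), F.Normal ∧ IsPGroup p F ∧
      centralizer (F : Set ↥(centralizer ({x} : Set H))) ≤ F := by
  have hCE : C ≤ normalizer (E : Set H) := by
    intro c hc
    rw [mem_normalizer_iff]
    intro e
    refine ⟨hn c hc e, fun h => ?_⟩
    have h1 := hn c⁻¹ (inv_mem hc) _ h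
    have h2 : c⁻¹ * (c * e * c⁻¹) * c⁻¹⁻¹ = e := by group
    rwa [h2] at h1
  have hF2 := pCore_isPGroup' p ↥(centralizer ({x} : Set H))
  have hFn := pCore_normal' p ↥(centralizer ({x} : Set H))
  set F := Cfsg.pCore p ↥(centralizer ({x} : Set H)) with hFdef
  refine ⟨F, hFn, hF2, ?_⟩
  have hxx : x ∈ centralizer ({x} : Set H) := mem_centralizer_singleton_iff.2 rfl
  -- `C_E(x) ≤ F`
  have hEF : E.subgroupOf (centralizer ({x} : Set H)) ≤ F := by
    refine le_pCore' ⟨fun e he g => ?_⟩ hE.comap_subtype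
    exact hn g (hxC g.2) e he
  -- elements of order prime to `p` of the centralizer of `F` are trivial
  have key : ∀ k ∈ centralizer (F : Set ↥(centralizer ({x} : Set H))), Nat.Coprime (orderOf k) p → k = 1 := by
    intro k hk hkp
    have hkC : (k : H) ∈ C := hxC k.2
    have hxk : (k : H) * x = x * k := mem_centralizer_singleton_iff.1 k.2
    have h1 : (k : H) ∈ centralizer (E : Set H) := by
      refine H225.AxB.axb (p := p) (V := E) (D := zpowers x) hE (zpowers_le.2 (hCE (hxC hxx))) ?_ (hCE hkC)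
        (by rwa [orderOf_coe]) ?_ ?_
      · rintro _ ⟨i, rfl⟩
        obtain ⟨j, hj⟩ := hx
        refine ⟨j, ?_⟩
        have h2 : (x ^ i) ^ p ^ j = 1 := by
          rw [← zpow_natCast, ← zpow_mul, mul_comm, zpow_mul, zpow_natCast, ← hj, pow_orderOf_eq_one, one_zpow]
        rw [show ((fun i : ℤ => x ^ i) i) ^ p ^ j = 1 from h2]
        exact one_mem _
      · rintro _ ⟨i, rfl⟩
        have h2 : Commute (x ^ i) (k : H) := (show Commute x (k : H) from hxk.symm).zpow_left i
        have h3 : (x ^ i) * k * (x ^ i)⁻¹ * (k : H)⁻¹ = 1 := by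
          rw [h2.eq, mul_inv_cancel_right, mul_inv_cancel]
        rw [show ((fun i : ℤ => x ^ i) i) * (k : H) * ((fun i : ℤ => x ^ i) i)⁻¹ * (k : H)⁻¹ = 1 from h3]
        exact one_mem _
      · intro v hv hvx
        have h2 : v ∈ centralizer ({x} : Set H) := mem_centralizer_singleton_iff.2 (hvx x (mem_zpowers x)).symm
        have h3 : (⟨v, h2⟩ : ↥(centralizer ({x} : Set H))) ∈ F := hEF (mem_subgroupOf.2 hv)
        exact (congrArg Subtype.val ((mem_centralizer_iff.1 hk) _ h3)).symm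
    have h2 : (k : H) ∈ E := hself k hkC fun e he => ((mem_centralizer_iff.1 h1) e he).symm
    obtain ⟨j, hj⟩ := hE ⟨k, h2⟩
    have h3 : (k : H) ^ p ^ j = 1 := congrArg Subtype.val hj
    have h4 := orderOf_dvd_of_pow_eq_one h3
    rw [orderOf_coe] at h4
    have h5 : orderOf k ∣ 1 := by
      rw [← Nat.Coprime.pow_right j hkp]
      exact Nat.dvd_gcd dvd_rfl h4
    exact orderOf_eq_one_iff.1 (Nat.dvd_one.1 h5)
  -- so the centralizer is a `p`-group
  have hKn : (centralizer (F : Set ↥(centralizer ({x} : Set H)))).Normal := inferInstance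
  refine le_pCore' hKn ?_
  rw [IsPGroup.iff_card]
  refine ⟨_, Nat.eq_prime_pow_of_unique_prime_dvd (p := p) Nat.card_pos.ne' fun {q} hq hqd => ?_⟩
  by_contra hne
  have : Fact q.Prime := ⟨hq⟩
  obtain ⟨k, hk⟩ := exists_prime_orderOf_dvd_card' q hqd
  have h1 : orderOf (k : ↥(centralizer ({x} : Set H))) = q := by rw [orderOf_coe, hk]
  have h2 := key k k.2 (by
    rw [h1]
    exact (Nat.coprime_primes hq Fact.out).2 hne)
  rw [h2, orderOf_one] at h1
  exact hq.one_lt.ne h1

end Cfsg.Agent.H807.EB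
end

-- part: H807/EB/MData
section
/-!
# S4522, row `M`: the data for (N8)
-/

set_option autoImplicit false
set_option maxRecDepth 100000

open Subgroup

namespace Cfsg.Agent.H807.EB

open Cfsg.Agent.LThreeMB (PP mem_PP fr KChart.pi KChart.chart)
open Cfsg.Agent.MonsterX Cfsg.Agent.MonsterX.Model
open Cfsg.Agent.MonsterU
open Cfsg.Agent.MonsterU.Ch
open Cfsg.Agent.MonsterU.Lam2
open Cfsg.Spor (Co1)

/-- the data for (N8) -/
structure NData (K : Type*) [Group K] (y z : K) : Prop where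
  y21 : y ^ 21 = 1
  real : IsConj y y⁻¹
  z2 : orderOf z = 2
  zy : z * y = y * z
  T : ∃ T : Subgroup K, T ≤ centralizer {y} ∧ Nat.card T = 8 ∧ (∀ q ∈ T, z * q = q * z) ∧
    ∃ a ∈ T, ∃ b ∈ T, a * b ≠ b * a
  card : ∃ m : ℕ, Odd m ∧ Nat.card (centralizer ({y} : Set K)) = 8 * m
  E : ∃ E : Subgroup K, IsPGroup 2 E ∧ (∀ c, c * z = z * c → ∀ e ∈ E, c * e * c⁻¹ ∈ E) ∧
    ∀ c, c * z = z * c → (∀ e ∈ E, c * e = e * c) → c ∈ E

theorem NData.congr {K L : Type*} [Group K] [Group L] (f : K ≃* L) {y z : K} (h : NData K y z) :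
    NData L (f y) (f z) where
  y21 := by rw [← map_pow, h.y21, map_one]
  real := by
    obtain ⟨c, hc⟩ := isConj_iff.1 h.real
    exact isConj_iff.2 ⟨f c, by rw [← map_mul, ← map_inv, ← map_mul, hc, map_inv]⟩
  z2 := by rw [MulEquiv.orderOf_eq, h.z2]
  zy := by rw [← map_mul, h.zy, map_mul]
  T := by
    obtain ⟨T, h1, h2, h3, a, ha, b, hb, hab⟩ := h.T
    refine ⟨T.map f.toMonoidHom, ?_, ?_, ?_, f a, ⟨a, ha, rfl⟩, f b, ⟨b, hb, rfl⟩, fun h4 => hab (f.injective ?_)⟩
    · rintro _ ⟨q, hq, rfl⟩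
      have h5 := mem_centralizer_singleton_iff.1 (h1 hq)
      exact mem_centralizer_singleton_iff.2 (by
        show f q * f y = f y * f q
        rw [← map_mul, h5, map_mul])
    · rw [card_map_of_injective (f := f.toMonoidHom) f.injective, h2]
    · rintro _ ⟨q, hq, rfl⟩
      show f z * f q = f q * f z
      rw [← map_mul, h3 q hq, map_mul]
    · rw [map_mul, map_mul, h4]
  card := by
    obtain ⟨m, hm, h1⟩ := h.card
    refine ⟨m, hm, ?_⟩
    rw [← h1]
    have h2 : centralizer ({f y} : Set L) = (centralizer ({y} : Set K)).map f.toMonoidHom := by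
      ext x
      rw [mem_map, mem_centralizer_singleton_iff]
      constructor
      · intro hx
        refine ⟨f.symm x, mem_centralizer_singleton_iff.2 (f.injective ?_), f.apply_symm_apply x⟩
        rw [map_mul, map_mul, f.apply_symm_apply, hx]
      · rintro ⟨c, hc, rfl⟩
        have h3 := mem_centralizer_singleton_iff.1 hc
        show f c * f y = f y * f c
        rw [← map_mul, h3, map_mul]
    rw [h2, card_map_of_injective (f := f.toMonoidHom) f.injective]
  E := by
    obtain ⟨E, h1, h2, h3⟩ := h.E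
    have hz : ∀ c : L, c * f z = f z * c → f.symm c * z = z * f.symm c := fun c hc => by
      apply f.injective
      rw [map_mul, map_mul, f.apply_symm_apply, hc]
    refine ⟨E.map f.toMonoidHom, h1.map _, ?_, ?_⟩
    · rintro c hc _ ⟨e, he, rfl⟩
      refine ⟨f.symm c * e * (f.symm c)⁻¹, h2 _ (hz c hc) e he, ?_⟩
      show f (f.symm c * e * (f.symm c)⁻¹) = c * f e * c⁻¹
      rw [map_mul, map_mul, map_inv, f.apply_symm_apply]
    · intro c hc hce
      refine ⟨f.symm c, h3 _ (hz c hc) fun e he => ?_, f.apply_symm_apply c⟩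
      apply f.injective
      rw [map_mul, map_mul, f.apply_symm_apply]
      exact hce _ ⟨e, he, rfl⟩

/-- the data from a chart -/
theorem ndata_of_chart {G : Type*} [Group G] [Finite G] {Q : Subgroup G} {z : G} {eta : G → L2}
    {pi : Subgroup.centralizer ({z} : Set G) →* Co1} [Finite Co1] (hch : Chart Q z eta pi) {s t : Co1} (h : ST s t) :
    ∃ y : G, NData G y z := by
  obtain ⟨c, hc⟩ := hch.pi_surj (s * t)
  have h84 : c ^ 84 = 1 := by
    have h1 : pi (c ^ 21) = 1 := by rw [map_pow, hc, h.pow21]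
    have h2 : ((c ^ 21 : Subgroup.centralizer ({z} : Set G)) : G) ^ 4 = 1 :=
      Cfsg.Agent.MFive.pow_four hch ((hch.pi_eq_one _).1 h1)
    apply Subtype.ext
    rw [show 84 = 21 * 4 by norm_num, pow_mul]
    exact h2
  obtain ⟨y, hy⟩ : ∃ y, y = c ^ 64 := ⟨_, rfl⟩
  have hpi : pi y = s * t := by
    rw [hy, map_pow, hc, show 64 = 21 * 3 + 1 by norm_num, pow_add, pow_mul, h.pow21, one_pow, one_mul, pow_one]
  have hy21 : y ^ 21 = 1 := by
    rw [hy, ← pow_mul, show 64 * 21 = 84 * 16 by norm_num, pow_mul, h84, one_pow]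
  have ho : Odd 21 := by decide
  have hyz : (y : G) * z = z * y := mem_centralizer_singleton_iff.1 y.2
  have hcard : Nat.card ↥(PP Q (y : G)) = 8 := by rw [card_PP hch ho hy21, hpi, h.fr_eq]
  have hPQ : PP Q (y : G) ≤ Q := inf_le_left
  refine ⟨y, ?_, ?_, ?_, hyz.symm, ⟨PP Q (y : G), inf_le_right, hcard, ?_, ?_⟩, ?_, ⟨Q, ?_, ?_, ?_⟩⟩
  · exact Cfsg.Agent.MFive.coe_pow hy21
  · obtain ⟨k, hk⟩ := h.real
    obtain ⟨d, hd⟩ := hch.pi_surj k
    obtain ⟨q, -, hq⟩ := conj_21 hch (x := d * y * d⁻¹) (y := y⁻¹) (by rw [conj_pow, hy21, mul_one, mul_inv_cancel])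
      (by rw [inv_pow, hy21, inv_one]) (by rw [map_mul, map_mul, map_inv, map_inv, hd, hpi, hk])
    refine isConj_iff.2 ⟨q * d, ?_⟩
    rw [← InvMemClass.coe_inv, ← hq]
    simp only [Subgroup.coe_mul, InvMemClass.coe_inv, mul_inv_rev, mul_assoc]
  · exact orderOf_eq_prime (by rw [pow_two, hch.large.z_sq]) hch.large.z_ne
  · intro q hq
    exact (hch.large.comm_z q (hPQ hq)).symm
  · by_contra hcon
    push Not at hcon
    have h1 : ∀ p : ↥(PP Q (y : G)), (p : G) = 1 ∨ (p : G) = z := fun p =>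
      cent_PP hch ho hy21 (hPQ p.2) (mem_PP.1 p.2).2 fun w hw hwy => hcon p p.2 w (mem_PP.2 ⟨hw, hwy⟩)
    classical
    have h2 : Nat.card ↥(PP Q (y : G)) ≤ Nat.card (Fin 2) := by
      refine Nat.card_le_card_of_injective (fun p => if (p : G) = 1 then (0 : Fin 2) else 1) ?_
      intro p r hpr
      rcases h1 p with hp | hp <;> rcases h1 r with hr | hr
      · exact Subtype.ext (hp.trans hr.symm)
      · simp [hp, hr, hch.large.z_ne] at hpr
      · simp [hp, hr, hch.large.z_ne] at hpr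
      · exact Subtype.ext (hp.trans hr.symm)
    rw [hcard, Nat.card_eq_fintype_card, Fintype.card_fin] at h2
    omega
  · refine ⟨(PP Q (y : G)).relIndex (centralizer {(y : G)}), odd_relIndex hch ho hy21 (by rw [hpi]; exact h.odd_cent), ?_⟩
    have h1 := relIndex_mul_relIndex ⊥ (PP Q (y : G)) (centralizer {(y : G)}) bot_le inf_le_right
    rw [relIndex_bot_left, relIndex_bot_left, hcard] at h1
    exact h1.symm
  · exact IsPGroup.of_card hch.card_Q
  · exact fun c hc e he => hch.large.conj_mem c hc e he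
  · exact fun c hc h1 => hch.large.self c hc h1

/-- **the data for the Monster** -/
theorem ndata_model : ∃ y z : ↥InstData.M.G, NData ↥InstData.M.G y z := by
  have := Cfsg.Agent.MFive.Row.finite_model
  have := Cfsg.Agent.LThreeMB.CoOneAll.finCo1
  obtain ⟨s, t, h⟩ := exists_st
  obtain ⟨y, hy⟩ := ndata_of_chart (KChart.chart KDone.lft Cfsg.Agent.MFive.Row.hc) h
  exact ⟨y, _, hy⟩

/-- **the data for the Monster** -/
theorem ndata {K : Type*} [Group K] (h : Cfsg.Spor.IsoM K) : ∃ y z : K, NData K y z := by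
  obtain ⟨e⟩ := h
  obtain ⟨f⟩ := MonsterP.Equiv.equiv
  obtain ⟨y, z, hy⟩ := ndata_model
  exact ⟨_, _, hy.congr (e.trans f).symm⟩

end Cfsg.Agent.H807.EB
end

-- part: H807/EB/M
section
/-!
# S4522, row `M`
-/

set_option autoImplicit false

open Subgroup

namespace Cfsg.Agent.H807.EB

open Cfsg Cfsg.Agent.H610.EB Cfsg.Agent.H684.EB

universe u

/-- the criterion (N8) (T06, `evenS_of_n8`) -/
def N8 : Prop := ∀ (S : Type u) [Group S] [Fintype S] (y : S), Odd (orderOf y) → IsConj y y⁻¹ →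
  ∀ Q : Sylow 2 (Subgroup.centralizer ({y} : Set S)), Nat.card Q = 8 → ¬ IsMulCommutative Q →
  ∀ z : S, orderOf z = 2 → (∀ q ∈ Q, Commute z (q : S)) → Commute z y →
  (∀ M : Ideal AlgInt, IsPModular 2 M → ∀ x : S, (∃ j : ℕ, orderOf x = 2 ^ j) → z ∈ Subgroup.zpowers x →
    OneBlock M (Subgroup.centralizer ({x} : Set S))) → EvenS S

/-- the inputs of (N8) -/
theorem NData.evenS (n8 : N8.{u}) {S : Type u} [Group S] [Finite S] {y z : S} (h : NData S y z) : EvenS S := by
  have : Fact (Nat.Prime 2) := ⟨Nat.prime_two⟩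
  have := Fintype.ofFinite S
  obtain ⟨T, hTy, hT8, hTz, a, ha, b, hb, hab⟩ := h.T
  obtain ⟨m, hm, hcard⟩ := h.card
  obtain ⟨E, hE2, hEn, hEs⟩ := h.E
  have hT' : IsPGroup 2 ↥(T.subgroupOf (centralizer {y})) :=
    IsPGroup.of_card (n := 3) (by rw [Nat.card_congr (subgroupOfEquivOfLe hTy).toEquiv, hT8]; norm_num)
  have hidx : ¬ 2 ∣ (T.subgroupOf (centralizer {y})).index := by
    have h1 := (T.subgroupOf (centralizer {y})).card_mul_index
    rw [Nat.card_congr (subgroupOfEquivOfLe hTy).toEquiv, hT8, hcard] at h1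
    have h2 : (T.subgroupOf (centralizer {y})).index = m := by omega
    rw [h2, ← even_iff_two_dvd, Nat.not_even_iff_odd]
    exact hm
  refine n8 S y ?_ h.real (hT'.toSylow hidx) ?_ ?_ z h.z2 ?_ h.zy ?_
  · refine Odd.of_dvd_nat (show Odd 21 by decide) (orderOf_dvd_of_pow_eq_one h.y21)
  · rw [← hT8]
    exact Nat.card_congr (subgroupOfEquivOfLe hTy).toEquiv
  · intro hc
    apply hab
    have h1 := hc.is_comm.comm (⟨⟨a, hTy ha⟩, ha⟩ : ↥(hT'.toSylow hidx)) ⟨⟨b, hTy hb⟩, hb⟩
    exact congrArg (fun q : ↥(hT'.toSylow hidx) => ((q : centralizer {y}) : S)) h1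
  · intro q hq
    exact hTz q hq
  · intro M hM x hx hzx
    have hxz : centralizer ({x} : Set S) ≤ centralizer ({z} : Set S) := by
      intro g hg
      obtain ⟨i, rfl⟩ := hzx
      rw [mem_centralizer_singleton_iff]
      exact ((show Commute g x from mem_centralizer_singleton_iff.1 hg).zpow_right i).eq
    obtain ⟨F, hFn, hF2, hFs⟩ := exists_constr (C := centralizer ({z} : Set S)) (E := E) hE2
      (fun c hc => hEn c (mem_centralizer_singleton_iff.1 hc))
      (fun c hc => hEs c (mem_centralizer_singleton_iff.1 hc)) hx hxz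
    exact H104.EB.COne.oneBlock_of_constrained hM F hF2 hFs

theorem inner_m {S : Type*} [Group S] (h : Spor.IsoM S) (α : S ≃* S) : ∃ s : S, ∀ x : S, α x = s * x * s⁻¹ := by
  obtain ⟨e⟩ := h
  obtain ⟨f⟩ := Cfsg.Agent.MonsterP.Equiv.equiv
  obtain ⟨g, hg⟩ := Cfsg.Agent.CpAut.TwoInner.inner_congr (e.trans f) (Cfsg.Agent.KFacts.MonsterE.inner_model
    Cfsg.Agent.MonsterX.Instance.mGroup Cfsg.Agent.MonsterX.Instance.mRep Cfsg.Agent.MonsterX.Instance.mLat
    Cfsg.Agent.MonsterX.InstanceFinal.mOrbit Cfsg.Agent.MonsterX.Instance.mTrans) α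
  exact ⟨g, fun x => by rw [hg]; rfl⟩

/-- **Row `M`.** -/
theorem evenB_m (n8 : N8.{u}) {S : Type u} [Group S] (h : Spor.IsoM S) : EvenB S := by
  have hfin : Finite S := by
    obtain ⟨e⟩ := h
    obtain ⟨f⟩ := Cfsg.Agent.MonsterP.Equiv.equiv
    have := Cfsg.Agent.MFive.Row.finite_model
    exact Finite.of_equiv _ (e.trans f).symm.toEquiv
  obtain ⟨y, z, hd⟩ := ndata h
  exact evenB_of_evenS_of_inner (hd.evenS n8) (inner_m h)

end Cfsg.Agent.H807.EB
end

private theorem dce_db48dab29391 : _root_.True := by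
  try have : _root_.True := by simp only [_root_.Cfsg.Agent.H481.EB.HN.vO.eq_1]
  try have : _root_.True := by simp only [_root_.Cfsg.Agent.H481.EB.HN.sO.eq_1]
  exact _root_.True.intro
end

-- part: H61/EB/Ly_mg
section
prune_inst 0x300044004002000000000240007cc6d6000190002b0000c9000644068045210900272084801219110a2a2400350008131000f90010000020204600411d04a180aa5204a348a00406000f80b883190c00000080000000000000000000000000204010000
set_option linter.all false
open scoped Cfsg.Agent.FastGrp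

-- part: H61/EB/Types
section
/-!
# 2-elements of `A₁₁`

Every element of 2-power order of `A₁₁` is conjugate in `A₁₁` to one of seven explicit permutations.
-/

set_option autoImplicit false

namespace Cfsg.Agent.H61.EB

open Equiv Equiv.Perm

/-- the permutations of the points -/
abbrev P11 := Perm (Fin 11)

/-- type `2²` -/
def s22 : P11 := swap (0 : Fin 11) 1 * swap (2 : Fin 11) 3
/-- type `2⁴` -/
def s24 : P11 := swap (0 : Fin 11) 1 * swap (2 : Fin 11) 3 * (swap (4 : Fin 11) 5 * swap (6 : Fin 11) 7)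
/-- a four-cycle -/
def c4 : P11 := swap (0 : Fin 11) 1 * swap (1 : Fin 11) 2 * swap (2 : Fin 11) 3
/-- another four-cycle -/
def d4 : P11 := swap (4 : Fin 11) 5 * swap (5 : Fin 11) 6 * swap (6 : Fin 11) 7
/-- an eight-cycle -/
def c8 : P11 := swap (0 : Fin 11) 1 * swap (1 : Fin 11) 2 * swap (2 : Fin 11) 3 * swap (3 : Fin 11) 4 * swap (4 : Fin 11) 5 * swap (5 : Fin 11) 6 * swap (6 : Fin 11) 7
/-- type `4.2` -/
def s42 : P11 := c4 * swap (4 : Fin 11) 5
/-- type `4.2³` -/
def s423 : P11 := c4 * swap (8 : Fin 11) 9 * (swap (4 : Fin 11) 5 * swap (6 : Fin 11) 7)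
/-- type `4²` -/
def s44 : P11 := c4 * d4
/-- type `8.2` -/
def s82 : P11 := c8 * swap (8 : Fin 11) 9

/-- A multiset of `2`, `4`, `8`. -/
theorem eq_replicate {s : Multiset ℕ} (h : ∀ n ∈ s, n = 2 ∨ n = 4 ∨ n = 8) :
    s = Multiset.replicate (s.count 2) 2 + Multiset.replicate (s.count 4) 4 + Multiset.replicate (s.count 8) 8 := by
  ext n
  rw [Multiset.count_add, Multiset.count_add, Multiset.count_replicate, Multiset.count_replicate,
    Multiset.count_replicate]
  by_cases hn : n ∈ s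
  · rcases h n hn with rfl | rfl | rfl <;> simp
  · have h0 : s.count n = 0 := Multiset.count_eq_zero.2 hn
    rw [h0]
    split_ifs with h1 h2 h3 h3 h2 h3 h3 <;> first | omega | (subst_vars; omega)

/-- The cycle types of the elements of 2-power order of `A₁₁`. -/
theorem cycleType_cases {σ : P11} (hσ : σ ∈ alternatingGroup (Fin 11)) {j : ℕ} (h : σ ^ 2 ^ j = 1) :
    σ.cycleType = 0 ∨ σ.cycleType = {2, 2} ∨ σ.cycleType = {2, 2, 2, 2} ∨ σ.cycleType = {4, 2} ∨
      σ.cycleType = {4, 2, 2, 2} ∨ σ.cycleType = {4, 4} ∨ σ.cycleType = {8, 2} := by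
  have hel : ∀ n ∈ σ.cycleType, n = 2 ∨ n = 4 ∨ n = 8 := by
    intro n hn
    have h1 := two_le_of_mem_cycleType hn
    have h2 : n ∣ 2 ^ j := (dvd_of_mem_cycleType hn).trans (orderOf_dvd_of_pow_eq_one h)
    have h3 : n ≤ 11 := (le_card_support_of_mem_cycleType hn).trans
      ((Finset.card_le_univ _).trans (by rw [Fintype.card_fin]))
    obtain ⟨i, -, rfl⟩ := (Nat.dvd_prime_pow Nat.prime_two).1 h2
    have h4 : i < 4 := by
      by_contra h4
      push Not at h4
      have := Nat.pow_le_pow_right (show 0 < 2 by norm_num) h4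
      omega
    interval_cases i
    · omega
    · left; norm_num
    · right; left; norm_num
    · right; right; norm_num
  have h1 := eq_replicate hel
  have hsum : σ.cycleType.sum ≤ 11 := by
    rw [sum_cycleType]
    exact (Finset.card_le_univ _).trans (by rw [Fintype.card_fin])
  have hsign := sign_of_cycleType σ
  rw [mem_alternatingGroup.1 hσ] at hsign
  have hev : Even (σ.cycleType.sum + Multiset.card σ.cycleType) := by
    by_contra hodd
    rw [Nat.not_even_iff_odd] at hodd
    rw [Odd.neg_one_pow hodd] at hsign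
    exact absurd hsign (by decide)
  obtain ⟨a, ha⟩ : ∃ a, σ.cycleType.count 2 = a := ⟨_, rfl⟩
  obtain ⟨b, hb⟩ : ∃ b, σ.cycleType.count 4 = b := ⟨_, rfl⟩
  obtain ⟨c, hc⟩ : ∃ c, σ.cycleType.count 8 = c := ⟨_, rfl⟩
  rw [ha, hb, hc] at h1
  have hs2 : σ.cycleType.sum = 2 * a + 4 * b + 8 * c := by
    rw [h1, Multiset.sum_add, Multiset.sum_add, Multiset.sum_replicate, Multiset.sum_replicate,
      Multiset.sum_replicate, smul_eq_mul, smul_eq_mul, smul_eq_mul]
    ring
  have hs3 : Multiset.card σ.cycleType = a + b + c := by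
    rw [h1, Multiset.card_add, Multiset.card_add, Multiset.card_replicate, Multiset.card_replicate,
      Multiset.card_replicate]
  rw [hs2] at hsum hev
  rw [hs3] at hev
  obtain ⟨m, hm⟩ := hev
  have key : (a = 0 ∧ b = 0 ∧ c = 0) ∨ (a = 2 ∧ b = 0 ∧ c = 0) ∨ (a = 4 ∧ b = 0 ∧ c = 0) ∨
      (a = 1 ∧ b = 1 ∧ c = 0) ∨ (a = 3 ∧ b = 1 ∧ c = 0) ∨ (a = 0 ∧ b = 2 ∧ c = 0) ∨
      (a = 1 ∧ b = 0 ∧ c = 1) := by
    clear h1 hs2 hs3 ha hb hc hsign hel
    have ha5 : a ≤ 5 := by (clear * - hsum; omega)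
    have hb2 : b ≤ 2 := by (clear * - hsum; omega)
    have hc1 : c ≤ 1 := by (clear * - hsum; omega)
    interval_cases c <;> interval_cases b <;> interval_cases a <;> first | omega | simp
  rcases key with ⟨rfl, rfl, rfl⟩ | ⟨rfl, rfl, rfl⟩ | ⟨rfl, rfl, rfl⟩ | ⟨rfl, rfl, rfl⟩ | ⟨rfl, rfl, rfl⟩ |
    ⟨rfl, rfl, rfl⟩ | ⟨rfl, rfl, rfl⟩ <;> rw [h1] <;> decide

/-- Conjugacy in `A₁₁` to a fixed permutation commuting with an odd one. -/
theorem exists_even_conj {σ τ ρ : P11} (h : σ.cycleType = τ.cycleType) (hρ : sign ρ = -1) (hc : ρ * τ = τ * ρ) :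
    ∃ g ∈ alternatingGroup (Fin 11), g * σ * g⁻¹ = τ := by
  obtain ⟨g, hg⟩ := isConj_iff.1 (isConj_iff_cycleType_eq.2 h)
  rcases Int.units_eq_one_or (sign g) with h1 | h1
  · exact ⟨g, mem_alternatingGroup.2 h1, hg⟩
  · refine ⟨ρ * g, ?_, ?_⟩
    · rw [mem_alternatingGroup, map_mul, h1, hρ]
      decide
    · calc ρ * g * σ * (ρ * g)⁻¹ = ρ * (g * σ * g⁻¹) * ρ⁻¹ := by group
        _ = τ := by rw [hg, hc, mul_inv_cancel_right]

/-- **2-elements of `A₁₁`.** -/
theorem exists_conj_cases {σ : P11} (hσ : σ ∈ alternatingGroup (Fin 11)) {j : ℕ} (h : σ ^ 2 ^ j = 1) :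
    ∃ g ∈ alternatingGroup (Fin 11), g * σ * g⁻¹ = 1 ∨ g * σ * g⁻¹ = s22 ∨ g * σ * g⁻¹ = s24 ∨
      g * σ * g⁻¹ = s42 ∨ g * σ * g⁻¹ = s423 ∨ g * σ * g⁻¹ = s44 ∨ g * σ * g⁻¹ = s82 := by
  rcases cycleType_cases hσ h with h | h | h | h | h | h | h
  · exact ⟨1, one_mem _, Or.inl (by rw [cycleType_eq_zero.1 h]; group)⟩
  · obtain ⟨g, hg, hg2⟩ := exists_even_conj (τ := s22) (ρ := swap (0 : Fin 11) 1)
      (h.trans (by decide +kernel)) (by decide +kernel) (by decide +kernel)
    exact ⟨g, hg, Or.inr (Or.inl hg2)⟩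
  · obtain ⟨g, hg, hg2⟩ := exists_even_conj (τ := s24) (ρ := swap (0 : Fin 11) 1)
      (h.trans (by decide +kernel)) (by decide +kernel) (by decide +kernel)
    exact ⟨g, hg, Or.inr (Or.inr (Or.inl hg2))⟩
  · obtain ⟨g, hg, hg2⟩ := exists_even_conj (τ := s42) (ρ := swap (4 : Fin 11) 5)
      (h.trans (by decide +kernel)) (by decide +kernel) (by decide +kernel)
    exact ⟨g, hg, Or.inr (Or.inr (Or.inr (Or.inl hg2)))⟩
  · obtain ⟨g, hg, hg2⟩ := exists_even_conj (τ := s423) (ρ := swap (4 : Fin 11) 5)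
      (h.trans (by decide +kernel)) (by decide +kernel) (by decide +kernel)
    exact ⟨g, hg, Or.inr (Or.inr (Or.inr (Or.inr (Or.inl hg2))))⟩
  · obtain ⟨g, hg, hg2⟩ := exists_even_conj (τ := s44) (ρ := c4)
      (h.trans (by decide +kernel)) (by decide +kernel) (by decide +kernel)
    exact ⟨g, hg, Or.inr (Or.inr (Or.inr (Or.inr (Or.inr (Or.inl hg2)))))⟩
  · obtain ⟨g, hg, hg2⟩ := exists_even_conj (τ := s82) (ρ := swap (8 : Fin 11) 9)
      (h.trans (by decide +kernel)) (by decide +kernel) (by decide +kernel)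
    exact ⟨g, hg, Or.inr (Or.inr (Or.inr (Or.inr (Or.inr (Or.inr hg2)))))⟩

end Cfsg.Agent.H61.EB
end

-- part: H61/EB/LyCount
section
/-!
# Groups with one class of involutions and involution centralizer `2.A₁₁`: five classes of 2-elements

(S4522, row Ly.)
-/

set_option autoImplicit false

namespace Cfsg.Agent.H61.EB

open Equiv Subgroup Cfsg.Agent.SporRec.TwoAn Cfsg.Agent.TypeM.Two

section cover

variable {C : Type*} [Group C] (K : Cover (Fin 11) C)

theorem pow_four {M : Type*} [Monoid M] (g : M) : g ^ 4 = g * g * (g * g) := by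
  rw [show 4 = 2 + 2 from rfl, pow_add, pow_two]

/-- `g ~ g z` for a lift of type `4.2` -/
theorem conj_s42 {g : C} (hg : K.π g = s42) : ∃ w, w * g * w⁻¹ = g * K.z := by
  obtain ⟨r, hr⟩ := K.exists_lift (Cover.swap_mul_swap_mem 4 5 6 7 (by decide) (by decide))
  obtain ⟨u, hu⟩ := K.exists_lift (Cover.swap_mul_swap_mem 0 1 1 2 (by decide) (by decide))
  have hv : K.π (u⁻¹ * g) = swap (2 : Fin 11) 3 * swap (4 : Fin 11) 5 := by
    rw [map_mul, map_inv, hu, hg]
    decide +kernel
  have h1 : (u⁻¹ * g) * (u⁻¹ * g) = K.z := K.dbl 2 3 4 5 (by decide) (by decide) (by decide) (by decide) (by decide)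
    (by decide) _ hv
  have h2 : r * r = K.z := K.dbl 4 5 6 7 (by decide) (by decide) (by decide) (by decide) (by decide)
    (by decide) _ hr
  have h3 : (u⁻¹ * g * r) * (u⁻¹ * g * r) = K.z := K.dbl 2 3 6 7 (by decide) (by decide) (by decide) (by decide)
    (by decide) (by decide) _ (by rw [map_mul, hv, hr]; decide +kernel)
  have h4 : u * r = r * u := K.commute_of_disjoint (by rw [hu, hr]; unfold Perm.Disjoint; decide +kernel)
  set v := u⁻¹ * g with hvdef
  have hgv : g = u * v := by rw [hvdef]; group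
  have hz := K.z_mul_z
  have hrinv : r⁻¹ = r * K.z := by rw [inv_eq_iff_mul_eq_one, ← mul_assoc, h2, hz]
  have hvinv : v⁻¹ = v * K.z := by rw [inv_eq_iff_mul_eq_one, ← mul_assoc, h1, hz]
  have h5 : r * v = v * r * K.z := by
    have h6 : r * v = v⁻¹ * ((v * r) * (v * r)) * r⁻¹ := by group
    rw [h6, h3, hvinv, hrinv]
    calc v * K.z * K.z * (r * K.z) = v * (K.z * K.z) * (r * K.z) := by group
      _ = v * r * K.z := by rw [hz]; group
  refine ⟨r, ?_⟩
  rw [hgv]
  calc r * (u * v) * r⁻¹ = (r * u) * v * r⁻¹ := by group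
    _ = (u * r) * v * r⁻¹ := by rw [h4]
    _ = u * (r * v) * r⁻¹ := by group
    _ = u * (v * r * K.z) * r⁻¹ := by rw [h5]
    _ = u * v * (r * K.z) * r⁻¹ := by group
    _ = u * v * (K.z * r) * r⁻¹ := by rw [K.z_comm r]
    _ = u * v * K.z := by group

/-- `g ~ g z` for a lift of type `4.2³` -/
theorem conj_s423 {g : C} (hg : K.π g = s423) : ∃ w, w * g * w⁻¹ = g * K.z := by
  obtain ⟨v, hv⟩ := K.exists_lift (Cover.swap_mul_swap_mem 4 5 6 7 (by decide) (by decide))
  obtain ⟨r, hr⟩ := K.exists_lift (Cover.swap_mul_swap_mem 4 6 5 7 (by decide) (by decide))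
  have hu : K.π (g * v⁻¹) = c4 * swap (8 : Fin 11) 9 := by
    rw [map_mul, map_inv, hv, hg]
    decide +kernel
  have h4 : g * v⁻¹ * r = r * (g * v⁻¹) := K.commute_of_disjoint (by rw [hu, hr]; unfold Perm.Disjoint; decide +kernel)
  have h5 : r * v = v * r * K.z := K.anticomm (by decide) (by decide) (by decide) (by decide) (by decide) (by decide)
    hv hr
  refine ⟨r, ?_⟩
  calc r * g * r⁻¹ = (r * (g * v⁻¹)) * v * r⁻¹ := by group
    _ = g * v⁻¹ * r * v * r⁻¹ := by rw [← h4]
    _ = g * v⁻¹ * (r * v) * r⁻¹ := by group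
    _ = g * v⁻¹ * (v * r * K.z) * r⁻¹ := by rw [h5]
    _ = g * (r * K.z) * r⁻¹ := by group
    _ = g * (K.z * r) * r⁻¹ := by rw [K.z_comm r]
    _ = g * K.z := by group

/-- Lifts of the same permutation are conjugate as soon as one is conjugate to its product with `z`. -/
theorem conj_of_lift {g h : C} (hgh : K.π g = K.π h) (hz : ∃ w, w * g * w⁻¹ = g * K.z) : IsConj g h := by
  rcases K.lift_eq hgh.symm with h1 | h1
  · rw [h1]
  · obtain ⟨w, hw⟩ := hz
    rw [h1]
    exact isConj_iff.2 ⟨w, hw⟩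

theorem pow_s42 {g : C} (hg : K.π g = s42) : g ^ 4 = K.z := by
  have h1 : K.π (g * g) = swap (0 : Fin 11) 2 * swap (1 : Fin 11) 3 := by
    rw [map_mul, hg]
    decide +kernel
  have h2 := K.dbl 0 2 1 3 (by decide) (by decide) (by decide) (by decide) (by decide) (by decide) _ h1
  rw [← h2, pow_four]

theorem pow_s423 {g : C} (hg : K.π g = s423) : g ^ 4 = K.z := by
  have h1 : K.π (g * g) = swap (0 : Fin 11) 2 * swap (1 : Fin 11) 3 := by
    rw [map_mul, hg]
    decide +kernel
  have h2 := K.dbl 0 2 1 3 (by decide) (by decide) (by decide) (by decide) (by decide) (by decide) _ h1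
  rw [← h2, pow_four]

theorem pow_s22 {g : C} (hg : K.π g = s22) : g ^ 2 = K.z := by
  rw [pow_two]
  exact K.dbl 0 1 2 3 (by decide) (by decide) (by decide) (by decide) (by decide) (by decide) _ hg

/-- If `g` has the order of its image, `z` is not a power of `g`. -/
theorem not_mem_of_pow {g : C} {n : ℕ} (hn : orderOf (K.π g) = n) (hg : g ^ n = 1) : K.z ∉ zpowers g := by
  intro h
  obtain ⟨k, hk⟩ := mem_zpowers_iff.1 h
  have h1 : (K.π g) ^ k = 1 := by rw [← map_zpow, hk, K.π_z]
  rw [← orderOf_dvd_iff_zpow_eq_one, hn] at h1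
  obtain ⟨m, rfl⟩ := h1
  rw [zpow_mul, zpow_natCast, hg, one_zpow] at hk
  exact K.z_ne hk.symm

theorem not_s24 {g : C} (hg : K.π g = s24) : K.z ∉ zpowers g := by
  refine not_mem_of_pow K (n := 2) ?_ ?_
  · rw [hg]
    exact orderOf_eq_prime (by decide +kernel) (by decide +kernel)
  · rw [pow_two, K.sq_eq_one_iff, hg]
    exact ⟨by decide +kernel, by decide +kernel⟩

theorem not_s44 {g : C} (hg : K.π g = s44) : K.z ∉ zpowers g := by
  refine not_mem_of_pow K (n := 4) ?_ ?_
  · rw [hg]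
    exact orderOf_eq_prime_pow (p := 2) (n := 1) (by decide +kernel) (by decide +kernel)
  · have h1 : (g * g) * (g * g) = 1 := by
      rw [K.sq_eq_one_iff, map_mul, hg]
      exact ⟨by decide +kernel, by decide +kernel⟩
    rw [← h1, pow_four]

theorem not_s82 {g : C} (hg : K.π g = s82) : K.z ∉ zpowers g := by
  refine not_mem_of_pow K (n := 8) ?_ ?_
  · rw [hg]
    exact orderOf_eq_prime_pow (p := 2) (n := 2) (by decide +kernel) (by decide +kernel)
  · have h1 : (g ^ 4) * (g ^ 4) = 1 := by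
      rw [K.sq_eq_one_iff, map_pow, hg]
      exact ⟨by decide +kernel, by decide +kernel⟩
    rw [← h1]
    group

/-- The 2-elements of `2.A₁₁` with a power equal to `z`. -/
theorem cover_cases {a b c : C} (ha : K.π a = s22) (hb : K.π b = s42) (hc : K.π c = s423) {x : C} {j : ℕ}
    (hx : x ^ 2 ^ j = 1) (hz : K.z ∈ zpowers x) : IsConj x K.z ∨ IsConj x a ∨ IsConj x b ∨ IsConj x c := by
  have h1 : (K.π x) ^ 2 ^ j = 1 := by rw [← map_pow, hx, map_one]
  obtain ⟨τ, hτ, h⟩ := exists_conj_cases (K.mem_alternating x) h1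
  obtain ⟨d, rfl⟩ := K.exists_lift hτ
  have hconj : IsConj x (d * x * d⁻¹) := isConj_iff.2 ⟨d, rfl⟩
  have hz' : K.z ∈ zpowers (d * x * d⁻¹) := by
    obtain ⟨k, hk⟩ := mem_zpowers_iff.1 hz
    refine mem_zpowers_iff.2 ⟨k, ?_⟩
    rw [conj_zpow, hk, K.z_comm d, mul_inv_cancel_right]
  rw [← map_inv, ← map_mul, ← map_mul] at h
  rcases h with h | h | h | h | h | h | h
  · left
    rcases (K.ker _).1 h with h2 | h2
    · exfalso
      rw [h2, zpowers_one_eq_bot, mem_bot] at hz'
      exact K.z_ne hz'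
    · rw [← h2]
      exact hconj
  · right; left
    refine hconj.trans (conj_of_lift K (h.trans ha.symm) ?_)
    exact K.exists_conj_mul_z (by rw [h]; decide +kernel) (by rw [h]; decide +kernel)
  · exact absurd hz' (not_s24 K h)
  · right; right; left
    exact hconj.trans (conj_of_lift K (h.trans hb.symm) (conj_s42 K h))
  · right; right; right
    exact hconj.trans (conj_of_lift K (h.trans hc.symm) (conj_s423 K h))
  · exact absurd hz' (not_s44 K h)
  · exact absurd hz' (not_s82 K h)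

end cover

section grp

variable {G : Type*} [Group G] (L : MT 11 G)

/-- The 2-elements up to conjugacy. -/
theorem group_cases {a b c : centralizer ({L.t} : Set G)} (ha : L.K.π a = s22) (hb : L.K.π b = s42)
    (hc : L.K.π c = s423) {x : G} {j : ℕ} (hx : orderOf x = 2 ^ j) :
    IsConj x 1 ∨ IsConj x L.t ∨ IsConj x a ∨ IsConj x b ∨ IsConj x c := by
  cases j with
  | zero =>
    left
    rw [pow_zero, orderOf_eq_one_iff] at hx
    rw [hx]
  | succ m =>
    right
    -- the involution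
    have hs1 : x ^ 2 ^ m * x ^ 2 ^ m = 1 := by
      rw [← pow_add, ← two_mul, ← pow_succ', ← hx, pow_orderOf_eq_one]
    have hs2 : x ^ 2 ^ m ≠ 1 := by
      intro h
      have h1 := orderOf_dvd_of_pow_eq_one h
      rw [hx] at h1
      have h2 := Nat.le_of_dvd (by positivity) h1
      rw [pow_succ] at h2
      have : 0 < 2 ^ m := by positivity
      omega
    obtain ⟨g, hg⟩ := L.one _ hs1 hs2
    have ht : (g⁻¹ * x * g) ^ 2 ^ m = L.t := by
      have h1 : (g⁻¹ * x * g) ^ 2 ^ m = g⁻¹ * x ^ 2 ^ m * g := by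
        have := conj_pow (i := 2 ^ m) (a := g⁻¹) (b := x)
        rwa [inv_inv] at this
      rw [h1, ← hg]
      group
    have hconj : IsConj x (g⁻¹ * x * g) := isConj_iff.2 ⟨g⁻¹, by rw [inv_inv]⟩
    have hmem : g⁻¹ * x * g ∈ centralizer ({L.t} : Set G) := by
      rw [mem_centralizer_singleton_iff, ← ht]
      exact (Commute.self_pow _ _).eq
    obtain ⟨y, hy⟩ : ∃ y : centralizer ({L.t} : Set G), (y : G) = g⁻¹ * x * g := ⟨⟨_, hmem⟩, rfl⟩
    rw [← hy] at hconj ht
    have hyz : L.K.z ∈ zpowers y := by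
      refine mem_zpowers_iff.2 ⟨(2 ^ m : ℕ), ?_⟩
      apply Subtype.ext
      rw [zpow_natCast, Subgroup.coe_pow, ht, L.hz]
    have hyp : y ^ 2 ^ (m + 1) = 1 := by
      apply Subtype.ext
      rw [Subgroup.coe_pow, pow_succ, pow_mul, ht, pow_two, L.t_mul_t]
      rfl
    have key : ∀ w : centralizer ({L.t} : Set G), IsConj y w → IsConj x (w : G) := by
      intro w hw
      obtain ⟨d, hd⟩ := isConj_iff.1 hw
      refine hconj.trans (isConj_iff.2 ⟨(d : G), ?_⟩)
      rw [← hd]
      rfl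
    rcases cover_cases L.K ha hb hc hyp hyz with h | h | h | h
    · left
      rw [← L.hz]
      exact key _ h
    · exact Or.inr (Or.inl (key _ h))
    · exact Or.inr (Or.inr (Or.inl (key _ h)))
    · exact Or.inr (Or.inr (Or.inr (key _ h)))

theorem orderOf_of_pow {g : centralizer ({L.t} : Set G)} {m : ℕ} (h : g ^ 2 ^ m = L.K.z) :
    orderOf (g : G) = 2 ^ (m + 1) := by
  have h1 : (g : G) ^ 2 ^ m = L.t := by
    rw [← Subgroup.coe_pow, h, L.hz]
  refine orderOf_eq_prime_pow (p := 2) (n := m) ?_ ?_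
  · rw [h1]
    exact L.t_ne
  · rw [pow_succ, pow_mul, h1, pow_two, L.t_mul_t]

theorem not_conj {b c : centralizer ({L.t} : Set G)} (hb : L.K.π b = s42) (hc : L.K.π c = s423) :
    ¬ IsConj (b : G) (c : G) := by
  intro h
  obtain ⟨g, hg⟩ := isConj_iff.1 h
  have h1 : (b : G) ^ 4 = L.t := by rw [← Subgroup.coe_pow, pow_s42 L.K hb, L.hz]
  have h2 : (c : G) ^ 4 = L.t := by rw [← Subgroup.coe_pow, pow_s423 L.K hc, L.hz]
  have h3 : g * L.t * g⁻¹ = L.t := by
    have h4 : (g * b * g⁻¹) ^ 4 = g * (b : G) ^ 4 * g⁻¹ := conj_pow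
    rw [hg, h2, h1] at h4
    exact h4.symm
  have hmem : g ∈ centralizer ({L.t} : Set G) := by
    rw [mem_centralizer_singleton_iff]
    exact mul_inv_eq_iff_eq_mul.1 h3
  have h5 : (⟨g, hmem⟩ : centralizer ({L.t} : Set G)) * b * (⟨g, hmem⟩ : centralizer ({L.t} : Set G))⁻¹ = c :=
    Subtype.ext hg
  have h6 := congrArg L.K.π h5
  rw [map_mul, map_mul, map_inv, hb, hc] at h6
  have h7 : (s42 : P11).cycleType = (s423 : P11).cycleType := by
    rw [← h6, Perm.cycleType_conj]
  exact absurd h7 (by decide +kernel)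

/-- **Five classes of 2-elements.** -/
theorem card_two_classes (L : MT 11 G) :
    Nat.card {c : ConjClasses G // ∃ g : G, ConjClasses.mk g = c ∧ ∃ j : ℕ, orderOf g = 2 ^ j} = 5 := by
  classical
  obtain ⟨a, ha⟩ := L.K.exists_lift (σ := s22) (by rw [Perm.mem_alternatingGroup]; decide +kernel)
  obtain ⟨b, hb⟩ := L.K.exists_lift (σ := s42) (by rw [Perm.mem_alternatingGroup]; decide +kernel)
  obtain ⟨c, hc⟩ := L.K.exists_lift (σ := s423) (by rw [Perm.mem_alternatingGroup]; decide +kernel)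
  have o1 : orderOf (1 : G) = 2 ^ 0 := by rw [orderOf_one, pow_zero]
  have ot : orderOf L.t = 2 ^ 1 := by
    rw [pow_one]
    exact orderOf_eq_prime (by rw [pow_two, L.t_mul_t]) L.t_ne
  have oa : orderOf (a : G) = 2 ^ 2 := orderOf_of_pow L (m := 1) (by rw [pow_one]; exact pow_s22 L.K ha)
  have ob : orderOf (b : G) = 2 ^ 3 := orderOf_of_pow L (m := 2) (pow_s42 L.K hb)
  have oc : orderOf (c : G) = 2 ^ 3 := orderOf_of_pow L (m := 2) (pow_s423 L.K hc)
  have hne : ∀ {x y : G}, orderOf x ≠ orderOf y → ConjClasses.mk x ≠ ConjClasses.mk y := by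
    intro x y hxy h
    apply hxy
    obtain ⟨g, hg⟩ := isConj_iff.1 (ConjClasses.mk_eq_mk_iff_isConj.1 h)
    rw [← hg]
    have h1 : g * x * g⁻¹ = MulAut.conj g x := by rw [MulAut.conj_apply]
    rw [h1]
    exact ((MulAut.conj g).orderOf_eq x).symm
  have hbc : ConjClasses.mk (b : G) ≠ ConjClasses.mk (c : G) := fun h =>
    not_conj L hb hc (ConjClasses.mk_eq_mk_iff_isConj.1 h)
  let S : Finset (ConjClasses G) := {ConjClasses.mk 1, ConjClasses.mk L.t, ConjClasses.mk (a : G),
    ConjClasses.mk (b : G), ConjClasses.mk (c : G)}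
  have hS : S.card = 5 := by
    have e1 : ConjClasses.mk (1 : G) ≠ ConjClasses.mk L.t := hne (by rw [o1, ot]; norm_num)
    have e2 : ConjClasses.mk (1 : G) ≠ ConjClasses.mk (a : G) := hne (by rw [o1, oa]; norm_num)
    have e3 : ConjClasses.mk (1 : G) ≠ ConjClasses.mk (b : G) := hne (by rw [o1, ob]; norm_num)
    have e4 : ConjClasses.mk (1 : G) ≠ ConjClasses.mk (c : G) := hne (by rw [o1, oc]; norm_num)
    have e5 : ConjClasses.mk L.t ≠ ConjClasses.mk (a : G) := hne (by rw [ot, oa]; norm_num)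
    have e6 : ConjClasses.mk L.t ≠ ConjClasses.mk (b : G) := hne (by rw [ot, ob]; norm_num)
    have e7 : ConjClasses.mk L.t ≠ ConjClasses.mk (c : G) := hne (by rw [ot, oc]; norm_num)
    have e8 : ConjClasses.mk (a : G) ≠ ConjClasses.mk (b : G) := hne (by rw [oa, ob]; norm_num)
    have e9 : ConjClasses.mk (a : G) ≠ ConjClasses.mk (c : G) := hne (by rw [oa, oc]; norm_num)
    rw [Finset.card_insert_of_notMem, Finset.card_insert_of_notMem, Finset.card_insert_of_notMem,
      Finset.card_insert_of_notMem, Finset.card_singleton]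
    · simpa using hbc
    · simp only [Finset.mem_insert, Finset.mem_singleton, not_or]
      exact ⟨e8, e9⟩
    · simp only [Finset.mem_insert, Finset.mem_singleton, not_or]
      exact ⟨e5, e6, e7⟩
    · simp only [Finset.mem_insert, Finset.mem_singleton, not_or]
      exact ⟨e1, e2, e3, e4⟩
  rw [← hS]
  refine Nat.subtype_card S fun q => ?_
  simp only [S, Finset.mem_insert, Finset.mem_singleton]
  constructor
  · rintro (rfl | rfl | rfl | rfl | rfl)
    · exact ⟨_, rfl, _, o1⟩
    · exact ⟨_, rfl, _, ot⟩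
    · exact ⟨_, rfl, _, oa⟩
    · exact ⟨_, rfl, _, ob⟩
    · exact ⟨_, rfl, _, oc⟩
  · rintro ⟨g, rfl, j, hj⟩
    rcases group_cases L ha hb hc hj with h | h | h | h | h
    · exact Or.inl (ConjClasses.mk_eq_mk_iff_isConj.2 h)
    · exact Or.inr (Or.inl (ConjClasses.mk_eq_mk_iff_isConj.2 h))
    · exact Or.inr (Or.inr (Or.inl (ConjClasses.mk_eq_mk_iff_isConj.2 h)))
    · exact Or.inr (Or.inr (Or.inr (Or.inl (ConjClasses.mk_eq_mk_iff_isConj.2 h))))
    · exact Or.inr (Or.inr (Or.inr (Or.inr (ConjClasses.mk_eq_mk_iff_isConj.2 h))))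

/-- The Sylow 2-subgroups are not abelian. -/
theorem exists_sylow (L : MT 11 G) : ∃ P : Sylow 2 G, ¬ IsMulCommutative P := by
  obtain ⟨a, ha⟩ := L.K.exists_lift (σ := s22) (by rw [Perm.mem_alternatingGroup]; decide +kernel)
  obtain ⟨w, hw⟩ := L.K.exists_lift (σ := swap (0 : Fin 11) 2 * swap (1 : Fin 11) 3) (by rw [Perm.mem_alternatingGroup]; decide +kernel)
  have hwa : w * a = a * w * L.K.z := L.K.anticomm (by decide) (by decide) (by decide) (by decide) (by decide)
    (by decide) ha hw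
  have ha2 : a ^ 2 = L.K.z := pow_s22 L.K ha
  have hw2 : w ^ 2 = L.K.z := by
    rw [pow_two]
    exact L.K.dbl 0 2 1 3 (by decide) (by decide) (by decide) (by decide) (by decide) (by decide) _ hw
  have hpg : ∀ {x : centralizer ({L.t} : Set G)}, x ^ 2 = L.K.z → IsPGroup 2 (zpowers x) := by
    intro x hx
    have h4 : x ^ 2 ^ 2 = 1 := by
      rw [show (2 : ℕ) ^ 2 = 2 * 2 from rfl, pow_mul, hx, pow_two, L.K.z_mul_z]
    rintro ⟨y, hy⟩
    obtain ⟨k, rfl⟩ := mem_zpowers_iff.1 hy
    refine ⟨2, ?_⟩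
    apply Subtype.ext
    rw [Subgroup.coe_pow, ← zpow_natCast, ← zpow_mul, mul_comm, zpow_mul, zpow_natCast, h4, one_zpow]
    rfl
  have hconj : w * a * w⁻¹ = a⁻¹ := by
    have h1 : a⁻¹ = a * L.K.z := by
      rw [inv_eq_iff_mul_eq_one, ← mul_assoc, ← pow_two, ha2, L.K.z_mul_z]
    rw [hwa, h1, mul_assoc a, L.K.z_comm w, mul_assoc, mul_assoc, mul_inv_cancel, mul_one]
  have hnorm : zpowers w ≤ normalizer ((zpowers a : Subgroup _) : Set (centralizer ({L.t} : Set G))) := by
    rw [zpowers_le, mem_normalizer_iff]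
    have hconj' : w⁻¹ * a * w = a⁻¹ := by
      have h1 : w⁻¹ * (w * a * w⁻¹)⁻¹ * w = w⁻¹ * (a⁻¹)⁻¹ * w := by rw [hconj]
      rw [inv_inv] at h1
      rw [← h1]
      group
    intro h
    constructor
    · intro hh
      obtain ⟨k, rfl⟩ := mem_zpowers_iff.1 hh
      rw [← conj_zpow, hconj]
      exact zpow_mem (inv_mem (mem_zpowers a)) k
    · intro hh
      obtain ⟨k, hk⟩ := mem_zpowers_iff.1 hh
      have h1 : h = (w⁻¹ * a * w) ^ k := by
        have h2 := conj_zpow (i := k) (a := w⁻¹) (b := a)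
        rw [inv_inv, hk] at h2
        rw [h2]
        group
      rw [h1, hconj']
      exact zpow_mem (inv_mem (mem_zpowers a)) k
  have hQ : IsPGroup 2 (zpowers w ⊔ zpowers a : Subgroup (centralizer ({L.t} : Set G))) :=
    IsPGroup.to_sup_of_normal_right' (hpg hw2) (hpg ha2) hnorm
  obtain ⟨P, hP⟩ := (hQ.map (centralizer ({L.t} : Set G)).subtype).exists_le_sylow
  refine ⟨P, fun hcomm => ?_⟩
  have hwP : (w : G) ∈ P := hP ⟨w, mem_sup_left (mem_zpowers w), rfl⟩
  have haP : (a : G) ∈ P := hP ⟨a, mem_sup_right (mem_zpowers a), rfl⟩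
  have h1 : (w : G) * a = a * w := by
    have := hcomm.is_comm.comm (⟨w, hwP⟩ : P) ⟨a, haP⟩
    exact congrArg Subtype.val this
  have h2 : w * a = a * w := Subtype.ext h1
  rw [hwa] at h2
  exact L.K.mul_z_ne _ h2

end grp

end Cfsg.Agent.H61.EB
end

-- part: H61/EB/Ly
section
/-!
# S4522, row Ly

`OddThm` is the statement [T05] (`evenS_of_odd`) of TEAM EB.
-/

set_option autoImplicit false

namespace Cfsg.Agent.H61.EB

open Cfsg Subgroup Cfsg.Agent.H684.EB Cfsg.Agent.H610.EB Cfsg.Agent.Characters.Core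
open scoped ComplexConjugate

universe u

/-- [T05] (ODD) -/
def OddThm : Prop := ∀ {S : Type u} [Group S] [Fintype S] (P : Sylow 2 S), ¬ IsMulCommutative P →
  Odd (Nat.card {c : ConjClasses S // ∃ g : S, ConjClasses.mk g = c ∧ ∃ j : ℕ, orderOf g = 2 ^ j}) →
  ∀ k : ℕ, IsK S k → ∀ M : Ideal AlgInt, IsPModular 2 M → ∃ χ ∈ principalBlock M S,
    Even (charDegree (χ : S → ℂ)) ∧ (∀ g : S, (χ : S → ℂ) (g ^ k) = (χ : S → ℂ) g) ∧
      (χ : S → ℂ) ≠ fun _ => 1

/-- The number of classes of 2-elements of the Lyons group is odd. -/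
theorem odd_ly {S : Type u} [Group S] (h : Cfsg.Spor.IsoLy S) :
    Odd (Nat.card {c : ConjClasses S // ∃ g : S, ConjClasses.mk g = c ∧ ∃ j : ℕ, orderOf g = 2 ^ j}) := by
  obtain ⟨-, -, -, ⟨L⟩⟩ := TypeM.FactsLy.facts h
  rw [card_two_classes L]
  decide

theorem exists_sylow_ly {S : Type u} [Group S] (h : Cfsg.Spor.IsoLy S) : ∃ P : Sylow 2 S, ¬ IsMulCommutative P := by
  obtain ⟨-, -, -, ⟨L⟩⟩ := TypeM.FactsLy.facts h
  exact exists_sylow L

/-- **The row Ly of S4522.** -/
theorem evenB_ly (odd : OddThm.{u}) {S : Type u} [Group S] (h : Cfsg.Spor.IsoLy S) : EvenB S := by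
  rintro G _ _ N hN _ ⟨e⟩ hC - k hk M hM
  -- all automorphisms are inner
  have hNt : N = ⊤ := by
    rw [eq_top_iff]
    intro g _
    let α : MulAut S := (e.trans (MulAut.conjNormal g : MulAut N)).trans e.symm
    have hα : ∀ x : S, (e (α x) : G) = g * e x * g⁻¹ := by
      intro x
      show ((e (e.symm ((MulAut.conjNormal g : MulAut N) (e x))) : N) : G) = _
      rw [MulEquiv.apply_symm_apply, MulAut.conjNormal_apply]
    obtain ⟨s, hs⟩ := TypeM.OutLyFin.inner h α
    have h1 : (e s : G)⁻¹ * g ∈ centralizer (N : Set G) := by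
      rw [mem_centralizer_iff]
      intro n hn
      obtain ⟨x, hx⟩ := e.surjective ⟨n, hn⟩
      have h2 := hα x
      rw [← hs, MulAut.conj_apply, map_mul, map_mul, map_inv, hx] at h2
      have h3 : (e s : G) * n * (e s : G)⁻¹ = g * n * g⁻¹ := h2
      have h4 : n = (e s : G)⁻¹ * ((e s : G) * n * (e s : G)⁻¹) * e s := by group
      rw [h3] at h4
      calc n * ((e s : G)⁻¹ * g) = (e s : G)⁻¹ * (g * n * g⁻¹) * e s * ((e s : G)⁻¹ * g) := by rw [← h4]
        _ = (e s : G)⁻¹ * g * n := by group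
    rw [hC, mem_bot] at h1
    rw [← inv_mul_eq_one.1 h1]
    exact (e s).2
  subst hNt
  have hG : Cfsg.Spor.IsoLy G := by
    obtain ⟨f⟩ := h
    exact ⟨(topEquiv.symm.trans e.symm).trans f⟩
  obtain ⟨P, hP⟩ := exists_sylow_ly hG
  obtain ⟨χ, hχ, hev, hfix, hne⟩ := odd P hP (odd_ly hG) k hk M hM
  refine ⟨χ, hχ, hev, hfix, ?_⟩
  have h1 : classInner (χ : G → ℂ) (fun _ => (1 : ℂ)) = 0 :=
    classInner_irr_ne χ.2 Cfsg.Agent.Blocks.Basic.isIrrCharacter_one hne
  rw [← h1]
  unfold classInner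
  rw [Nat.card_congr (topEquiv : (⊤ : Subgroup G) ≃* G).toEquiv]
  congr 1
  exact Fintype.sum_equiv (topEquiv : (⊤ : Subgroup G) ≃* G).toEquiv _ _ (fun _ => rfl)

end Cfsg.Agent.H61.EB
end

-- part: H890/EB/Constr
section
/-!
# Constrained centralizers of 2-elements (helper890)

`E` is a `p`-subgroup, normalized by `C(z)`, with `C(E) ≤ E`. If `z` is a power of the `p`-element `x`, then `C(x)` has a
normal `p`-subgroup containing its centralizer.
-/

set_option autoImplicit false

namespace Cfsg.Agent.H890.EB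

open Subgroup

universe u

/-- a group all of whose elements of order prime to `p` are trivial is a `p`-group -/
theorem isPGroup_of_reg {G : Type u} [Group G] [Finite G] {p : ℕ} [Fact p.Prime]
    (h : ∀ g : G, (orderOf g).Coprime p → g = 1) : IsPGroup p G := by
  have hp : p.Prime := Fact.out
  intro g
  obtain ⟨k, m, hm, hg⟩ := Nat.exists_eq_pow_mul_and_not_dvd (orderOf_pos g).ne' p hp.ne_one
  refine ⟨k, h _ ?_⟩
  have h1 : orderOf (g ^ p ^ k) = m := by
    rw [orderOf_pow' g (pow_ne_zero k hp.ne_zero), hg, Nat.gcd_eq_right (dvd_mul_right _ _),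
      Nat.mul_div_cancel_left _ (pow_pos hp.pos k)]
  rw [h1]
  exact (Nat.coprime_comm.1 ((Nat.Prime.coprime_iff_not_dvd hp).2 hm))

theorem exists_constr {G : Type u} [Group G] [Finite G] {p : ℕ} [Fact p.Prime] {z x : G} {E : Subgroup G}
    (hE : IsPGroup p E) (hEz : ∀ c : G, c * z = z * c → ∀ q ∈ E, c * q * c⁻¹ ∈ E)
    (hcent : ∀ c : G, (∀ q ∈ E, c * q = q * c) → c ∈ E) (hx : ∃ j : ℕ, orderOf x = p ^ j) (hz : z ∈ zpowers x) :
    ∃ D : Subgroup (centralizer ({x} : Set G)), D.Normal ∧ IsPGroup p D ∧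
      centralizer (D : Set (centralizer ({x} : Set G))) ≤ D := by
  have hp : p.Prime := Fact.out
  have hcz : ∀ c : G, c * x = x * c → c * z = z * c := by
    intro c hc
    obtain ⟨n, rfl⟩ := mem_zpowers_iff.1 hz
    exact (show Commute c x from hc).zpow_right n
  have hN : ∀ c : G, c * z = z * c → c ∈ normalizer (E : Set G) := by
    intro c hc
    rw [mem_normalizer_iff]
    intro q
    constructor
    · exact hEz c hc q
    · intro h
      have h1 := hEz c⁻¹ (by rw [inv_mul_eq_iff_eq_mul, ← mul_assoc, hc, mul_assoc, mul_inv_cancel, mul_one]) _ h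
      rwa [inv_inv, show c⁻¹ * (c * q * c⁻¹) * c = q by group] at h1
  set X := centralizer ({x} : Set G) with hX
  let E1 : Subgroup X := E.subgroupOf X
  have hE1n : E1.Normal := by
    refine ⟨fun q hq g => ?_⟩
    rw [mem_subgroupOf] at hq ⊢
    exact hEz g (hcz g (mem_centralizer_singleton_iff.1 g.2)) q hq
  have hE1 : IsPGroup p E1 := hE.comap_of_injective _ (Subtype.val_injective)
  let C1 : Subgroup X := centralizer (E1 : Set X)
  have hC1n : C1.Normal := inferInstance
  have hC1 : IsPGroup p C1 := by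
    refine isPGroup_of_reg fun d hd => ?_
    have hdx : ((d : X) : G) * x = x * (d : X) := mem_centralizer_singleton_iff.1 (d : X).2
    have hod : (orderOf ((d : X) : G)).Coprime p := by rwa [orderOf_coe, orderOf_coe]
    have hQc : (Nat.card (zpowers ((d : X) : G))).Coprime p := by rwa [Nat.card_zpowers]
    have h1 : zpowers ((d : X) : G) ≤ centralizer (E : Set G) := by
      refine S0028.result p (zpowers x) (zpowers ((d : X) : G)) E ?_ hQc hE ?_ ?_ ?_ ?_
      · obtain ⟨j, hj⟩ := hx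
        exact IsPGroup.of_card (n := j) (by rw [Nat.card_zpowers, hj])
      · rw [zpowers_le]
        rw [mem_centralizer_iff]
        intro q hq
        obtain ⟨n, rfl⟩ := mem_zpowers_iff.1 hq
        exact ((show Commute ((d : X) : G) x from hdx).zpow_left n)
      · rw [zpowers_le]
        exact hN x (hcz x rfl)
      · rw [zpowers_le]
        exact hN _ (hcz _ hdx)
      · rintro q ⟨hq, hqx⟩
        rw [mem_centralizer_iff]
        have hqX : q ∈ X := by
          rw [hX, mem_centralizer_singleton_iff]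
          exact (mem_centralizer_iff.1 hqx x (mem_zpowers x)).symm
        intro y hy
        obtain ⟨n, rfl⟩ := mem_zpowers_iff.1 hy
        have h2 : (⟨q, hqX⟩ : X) * (d : X) = d * ⟨q, hqX⟩ :=
          mem_centralizer_iff.1 d.2 _ (show (⟨q, hqX⟩ : X) ∈ E1 from hq)
        have h3 : Commute ((d : X) : G) q := (congrArg Subtype.val h2).symm
        exact h3.zpow_left n
    have h2 : ((d : X) : G) ∈ E := by
      refine hcent _ fun q hq => ?_
      exact (mem_centralizer_iff.1 (h1 (mem_zpowers _)) q hq).symm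
    obtain ⟨k, hk⟩ := hE ⟨_, h2⟩
    have h3 : ((d : X) : G) ^ p ^ k = 1 := congrArg Subtype.val hk
    have h4 : orderOf ((d : X) : G) = 1 :=
      Nat.eq_one_of_dvd_coprimes (hod.pow_right k) dvd_rfl (orderOf_dvd_of_pow_eq_one h3)
    exact Subtype.ext (Subtype.ext (orderOf_eq_one_iff.1 h4))
  refine ⟨E1 ⊔ C1, inferInstance, IsPGroup.to_sup_of_normal_left hE1 hC1, ?_⟩
  refine le_trans ?_ (le_sup_right : C1 ≤ E1 ⊔ C1)
  exact centralizer_le (le_sup_left : E1 ≤ E1 ⊔ C1)

/-- the data of the criterion (N8), in a form which is easily transported -/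
structure N8 (G : Type u) [Group G] (y z : G) (K E : Subgroup G) : Prop where
  odd : Odd (orderOf y)
  real : IsConj y y⁻¹
  two : IsPGroup 2 K
  comm : ∀ q ∈ K, q * y = y * q
  card : Nat.card K = 8
  nonab : ∃ a ∈ K, ∃ b ∈ K, a * b ≠ b * a
  max : ∀ R : Subgroup G, IsPGroup 2 R → (∀ r ∈ R, r * y = y * r) → K ≤ R → R = K
  zo : orderOf z = 2
  zK : ∀ q ∈ K, z * q = q * z
  zy : z * y = y * z
  Etwo : IsPGroup 2 E
  Enorm : ∀ c : G, c * z = z * c → ∀ q ∈ E, c * q * c⁻¹ ∈ E
  Ecent : ∀ c : G, (∀ q ∈ E, c * q = q * c) → c ∈ E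

theorem N8.congr {G : Type u} {H : Type*} [Group G] [Group H] (e : G ≃* H) {y z : G} {K E : Subgroup G}
    (h : N8 G y z K E) : N8 H (e y) (e z) (K.map e.toMonoidHom) (E.map e.toMonoidHom) where
  odd := by rw [MulEquiv.orderOf_eq]; exact h.odd
  real := by
    obtain ⟨g, hg⟩ := isConj_iff.1 h.real
    exact isConj_iff.2 ⟨e g, by rw [← map_inv, ← map_mul, ← map_mul, hg, map_inv]⟩
  two := h.two.map _
  comm := by
    rintro _ ⟨q, hq, rfl⟩
    show e q * e y = e y * e q
    rw [← map_mul, h.comm q hq, map_mul]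
  card := by
    rw [← h.card]
    exact Nat.card_congr (K.equivMapOfInjective _ e.injective).symm.toEquiv
  nonab := by
    obtain ⟨a, ha, b, hb, hab⟩ := h.nonab
    refine ⟨e a, ⟨a, ha, rfl⟩, e b, ⟨b, hb, rfl⟩, fun h1 => hab (e.injective ?_)⟩
    rw [map_mul, map_mul, h1]
  max := by
    intro R hR hc hK
    have h1 : R.comap e.toMonoidHom = K := by
      refine h.max _ (hR.comap_of_injective _ e.injective) ?_ ?_
      · intro r hr
        apply e.injective
        rw [map_mul, map_mul]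
        exact hc _ hr
      · intro q hq
        exact hK ⟨q, hq, rfl⟩
    rw [← h1, map_comap_eq_self_of_surjective e.surjective]
  zo := by rw [MulEquiv.orderOf_eq]; exact h.zo
  zK := by
    rintro _ ⟨q, hq, rfl⟩
    show e z * e q = e q * e z
    rw [← map_mul, h.zK q hq, map_mul]
  zy := by rw [← map_mul, h.zy, map_mul]
  Etwo := h.Etwo.map _
  Enorm := by
    rintro c hc _ ⟨q, hq, rfl⟩
    obtain ⟨d, rfl⟩ := e.surjective c
    refine ⟨d * q * d⁻¹, h.Enorm d (e.injective ?_) q hq, ?_⟩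
    · rw [map_mul, map_mul, hc]
    · show e (d * q * d⁻¹) = e d * e q * (e d)⁻¹
      rw [map_mul, map_mul, map_inv]
  Ecent := by
    intro c hc
    obtain ⟨d, rfl⟩ := e.surjective c
    refine ⟨d, h.Ecent d fun q hq => e.injective ?_, rfl⟩
    rw [map_mul, map_mul]
    exact hc _ ⟨q, hq, rfl⟩

/-- the Sylow 2-subgroup of `C(y)` -/
theorem N8.exists_sylow {G : Type u} [Group G] {y z : G} {K E : Subgroup G} (h : N8 G y z K E) :
    ∃ Q : Sylow 2 (centralizer ({y} : Set G)), Nat.card Q = 8 ∧ ¬ IsMulCommutative Q ∧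
      ∀ q ∈ Q, Commute z (q : G) := by
  have hle : K ≤ centralizer ({y} : Set G) := fun q hq => mem_centralizer_singleton_iff.2 (h.comm q hq)
  refine ⟨⟨K.subgroupOf (centralizer ({y} : Set G)), h.two.comap_of_injective _ Subtype.val_injective, ?_⟩,
    ?_, ?_, ?_⟩
  · intro R hR hK
    have h1 : R.map (centralizer ({y} : Set G)).subtype = K := by
      refine h.max _ (hR.map _) ?_ ?_
      · rintro _ ⟨r, -, rfl⟩
        exact mem_centralizer_singleton_iff.1 r.2
      · intro q hq
        exact ⟨⟨q, hle hq⟩, hK (mem_subgroupOf.2 hq), rfl⟩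
    rw [← h1]
    ext r
    rw [mem_subgroupOf]
    exact ⟨fun hr => ⟨r, hr, rfl⟩, fun ⟨s, hs, e⟩ => by rwa [← Subtype.ext e]⟩
  · rw [← h.card]
    exact Nat.card_congr (subgroupOfEquivOfLe hle).toEquiv
  · intro hc
    obtain ⟨a, ha, b, hb, hab⟩ := h.nonab
    apply hab
    have h1 := hc.is_comm.comm (⟨⟨a, hle ha⟩, mem_subgroupOf.2 ha⟩ : K.subgroupOf (centralizer ({y} : Set G)))
      ⟨⟨b, hle hb⟩, mem_subgroupOf.2 hb⟩
    exact congrArg (fun w : K.subgroupOf (centralizer ({y} : Set G)) => ((w : centralizer ({y} : Set G)) : G)) h1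
  · intro q hq
    exact h.zK q (mem_subgroupOf.1 hq)

end Cfsg.Agent.H890.EB
end

-- part: H890/EB/ThData
section
/-!
# The Thompson group: the data of the criterion (N8) (helper890)

`y = γ 6` of order 7 is real, the Sylow 2-subgroup of `C(y)` is `C_Q(y)`, of order 8 and nonabelian, `Q = O_2(C(a))`.
-/

set_option autoImplicit false
set_option maxRecDepth 100000

namespace Cfsg.Agent.H890.EB

open Subgroup Cfsg
open Cfsg.Agent.Th.Base Cfsg.Agent.Th.Word Cfsg.Agent.Th.RelWords Cfsg.Agent.Th.PermTab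
  Cfsg.Agent.Th.KOracle Cfsg.Agent.Th.KPerm Cfsg.Agent.Th.NineAct Cfsg.Agent.Th.CStruct
  Cfsg.Agent.Th.COracleDef Cfsg.Agent.Th.COracleSound
open Cfsg.Agent.KFacts.Th.Mask Cfsg.Agent.KFacts.Th.Struct
open Cfsg.Agent.CpAutTh.Data Cfsg.Agent.CpAutTh.Alt Cfsg.Agent.CpAutTh.Local
open Cfsg.Agent.H729.PairTh

universe u

/-- 2-elements of `S_9` have order dividing 8 -/
theorem pow_eight {σ : Equiv.Perm (Fin 9)} {k : ℕ} (h : σ ^ 2 ^ k = 1) : σ ^ 8 = 1 := by
  rw [← orderOf_dvd_iff_pow_eq_one, ← Equiv.Perm.lcm_cycleType, Multiset.lcm_dvd]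
  intro n hn
  have h1 : n ∣ 2 ^ k := by
    refine dvd_trans ?_ (orderOf_dvd_of_pow_eq_one h)
    rw [← Equiv.Perm.lcm_cycleType]
    exact Multiset.dvd_lcm hn
  obtain ⟨j, -, rfl⟩ := (Nat.dvd_prime_pow Nat.prime_two).1 h1
  have h2 : 2 ^ j ≤ 9 := by
    have h3 := Multiset.single_le_sum (fun _ _ => Nat.zero_le _) _ hn
    rw [Equiv.Perm.sum_cycleType] at h3
    exact h3.trans ((Finset.card_le_univ _).trans (by rw [Fintype.card_fin]))
  have h3 : j ≤ 3 := by
    by_contra hc
    have h4 : 2 ^ 4 ≤ 2 ^ j := Nat.pow_le_pow_right (by norm_num) (by omega)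
    omega
  exact pow_dvd_pow 2 h3

section

variable {G : Type u} [Group G] {γ : ℕ → G} (h : Ctx γ)
include h

/-- `C_Q(y)` in `C(y)` -/
def KK (γ : ℕ → G) : Subgroup (centralizer ({γ 6} : Set G)) := (Q0 γ).subgroupOf (centralizer ({γ 6} : Set G))

omit h in
theorem mem_KK {x : centralizer ({γ 6} : Set G)} : x ∈ KK γ ↔ (x : G) ∈ Q0 γ := mem_subgroupOf

omit h in
theorem X7_eq (γ : ℕ → G) : ev γ X7 = γ 6 := by
  show γ 6 * 1 = _
  rw [mul_one]

omit h in
theorem comm6 (x : centralizer ({γ 6} : Set G)) : (x : G) * ev γ X7 = ev γ X7 * x := by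
  rw [X7_eq]
  exact mem_centralizer_singleton_iff.1 x.2

theorem c0_comm (i : Fin 9) (hi : i = 0 ∨ i = 1) : cc γ i ∈ centralizer ({γ 6} : Set G) := by
  rw [mem_centralizer_singleton_iff]
  have h1 : (γ 6)⁻¹ * cc γ i * γ 6 = cc γ i := by
    apply h.cc_conj' (by simp)
    rcases hi with rfl | rfl <;> decide +kernel
  rw [mul_assoc, inv_mul_eq_iff_eq_mul] at h1
  exact h1

theorem a_comm : γ 1 ∈ centralizer ({γ 6} : Set G) := by
  rw [mem_centralizer_singleton_iff]
  exact (h.mem_C.1 (h.letter_mem (x := 6) (by simp))).symm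

theorem isPGroup_Q : IsPGroup 2 (Q0 γ) := IsPGroup.of_card (n := 9) (by rw [h.cardQ]; norm_num)

theorem isPGroup_KK : IsPGroup 2 (KK γ) := (isPGroup_Q h).comap_of_injective _ (Subtype.val_injective)

/-- the masks of the elements of `C_Q(y)` -/
theorem mask_KK {x : centralizer ({γ 6} : Set G)} (hx : x ∈ KK γ) : ∃ m ∈ F7, HM (γ 1) (cc γ) (x : G) m :=
  comm_mask h chk7 fix7 (mem_KK.1 hx) (comm6 x)

/-- the elements of `C_Q(y)` commuting with `c 0` and `c 1` -/
theorem center_KK {x : centralizer ({γ 6} : Set G)} (hx : x ∈ KK γ) (h0 : (x : G) * cc γ 0 = cc γ 0 * x)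
    (h1 : (x : G) * cc γ 1 = cc γ 1 * x) : (x : G) = 1 ∨ (x : G) = γ 1 := by
  obtain ⟨m, hm, hm2⟩ := mask_KK h hx
  have e0 : m.testBit 0 = false := by
    by_contra hc
    rw [Bool.not_eq_false] at hc
    exact not_both h.data (x : G) 0 h0 ((hm2.2 0).2 hc)
  have e1 : m.testBit 1 = false := by
    by_contra hc
    rw [Bool.not_eq_false] at hc
    exact not_both h.data (x : G) 1 h1 ((hm2.2 1).2 hc)
  have hm0 : m = 0 := by
    unfold F7 at hm
    rw [List.mem_cons, List.mem_cons, List.mem_cons, List.mem_singleton] at hm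
    rcases hm with rfl | rfl | rfl | rfl
    · rfl
    · exact absurd e0 (by decide)
    · exact absurd e0 (by decide)
    · exact absurd e1 (by decide)
  subst hm0
  exact eq_of_zero h.data h.cardQ (mem_KK.1 hx) hm2

theorem card_KK_le : Nat.card (KK γ) ≤ 8 := by
  classical
  have hfin := h.fin
  let l : List G := [1, γ 1, cc γ 0 * cc γ 1, cc γ 0 * cc γ 1 * γ 1, cc γ 1, cc γ 1 * γ 1, cc γ 0, cc γ 0 * γ 1]
  have hmem : ∀ x : KK γ, ((x : centralizer ({γ 6} : Set G)) : G) ∈ l.toFinset := by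
    intro x
    rw [List.mem_toFinset]
    obtain ⟨m, hm, hm2⟩ := mask_KK h x.2
    have hxQ := mem_KK.1 x.2
    have key : ∀ y ∈ Q0 γ, HM (γ 1) (cc γ) y m → y ∈ l → y * γ 1 ∈ l →
        ((x : centralizer ({γ 6} : Set G)) : G) ∈ l := by
      intro y hyQ hym h1 h2
      rcases eq_of_mask h.data h.cardQ hyQ hxQ hym hm2 with h3 | h3
      · rw [h3]; exact h1
      · rw [h3]; exact h2
    unfold F7 at hm
    rw [List.mem_cons, List.mem_cons, List.mem_cons, List.mem_singleton] at hm
    rcases hm with rfl | rfl | rfl | rfl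
    · refine key 1 (one_mem _) (mask_one h.data) (by simp [l]) (by simp only [l, _root_.Fin.isValue, _root_.one_mul, _root_.List.mem_cons, _root_.right_eq_mul, _root_.List.not_mem_nil, _root_.or_false, _root_.true_or, _root_.or_true])
    · refine key (cc γ 0 * cc γ 1) (mul_mem (h.cc_mem 0) (h.cc_mem 1)) ?_ (by simp only [l, _root_.Fin.isValue, _root_.List.mem_cons, _root_.left_eq_mul, _root_.mul_eq_right, _root_.mul_eq_left, _root_.mul_right_inj, _root_.List.not_mem_nil, _root_.or_false, _root_.true_or, _root_.or_true]) (by simp only [l, _root_.Fin.isValue, _root_.List.mem_cons, _root_.mul_eq_right, _root_.mul_eq_left, _root_.mul_left_inj, _root_.List.not_mem_nil, _root_.or_false, _root_.true_or, _root_.or_true])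
      exact _root_.Cfsg.Agent.KFacts.Th.Mask.mul h.data (h.cc_mem 0) (mask_c h.data 0) (mask_c h.data 1)
    · exact key (cc γ 1) (h.cc_mem 1) (mask_c h.data 1) (by simp [l]) (by simp only [l, _root_.Fin.isValue, _root_.List.mem_cons, _root_.mul_eq_right, _root_.mul_left_inj, _root_.right_eq_mul, _root_.mul_eq_left, _root_.List.not_mem_nil, _root_.or_false, _root_.true_or, _root_.or_true])
    · exact key (cc γ 0) (h.cc_mem 0) (mask_c h.data 0) (by simp [l]) (by simp only [l, _root_.Fin.isValue, _root_.List.mem_cons, _root_.mul_eq_right, _root_.mul_right_inj, _root_.mul_left_inj, _root_.left_eq_mul, _root_.mul_eq_left, _root_.List.not_mem_nil, _root_.or_false, _root_.or_true])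
  have h1 : Nat.card (KK γ) ≤ l.toFinset.card := by
    let g : KK γ → l.toFinset := fun x => ⟨_, hmem x⟩
    have hg : Function.Injective g := fun x y hxy => Subtype.ext (Subtype.ext
      (congrArg (fun w : l.toFinset => (w : G)) hxy))
    have h2 := Nat.card_le_card_of_injective g hg
    rwa [Nat.card_eq_fintype_card (α := l.toFinset), Fintype.card_coe] at h2
  exact h1.trans (List.toFinset_card_le l)

theorem not_comm01 : cc γ 0 * cc γ 1 ≠ cc γ 1 * cc γ 0 := by
  intro hc
  exact not_both h.data (cc γ 0) 1 hc (h.data.com 0 1 (by decide))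

theorem not_comm_KK : ¬ IsMulCommutative (KK γ) := by
  intro hc
  apply not_comm01 h
  let x : KK γ := ⟨⟨cc γ 0, c0_comm h 0 (Or.inl rfl)⟩, h.cc_mem 0⟩
  let y : KK γ := ⟨⟨cc γ 1, c0_comm h 1 (Or.inr rfl)⟩, h.cc_mem 1⟩
  exact congrArg (fun z : KK γ => ((z : centralizer ({γ 6} : Set G)) : G)) (hc.is_comm.comm x y)

theorem card_KK : Nat.card (KK γ) = 8 := by
  have hfin := h.fin
  have : Fact (Nat.Prime 2) := ⟨Nat.prime_two⟩
  obtain ⟨n, hn⟩ := IsPGroup.iff_card.1 (isPGroup_KK h)
  have h1 := card_KK_le h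
  rw [hn] at h1 ⊢
  have h2 : n ≤ 3 := by
    by_contra hc
    have : 2 ^ 4 ≤ 2 ^ n := Nat.pow_le_pow_right (by norm_num) (by omega)
    omega
  have h3 : ¬ n ≤ 2 := by
    intro h3
    apply not_comm_KK h
    have h4 : Nat.card (KK γ) ∣ 2 ^ 2 := by rw [hn]; exact pow_dvd_pow 2 h3
    have h5 : n = 0 ∨ n = 1 ∨ n = 2 := by omega
    rcases h5 with rfl | rfl | rfl
    · have : Subsingleton (KK γ) := (Nat.card_eq_one_iff_unique.1 (by rw [hn]; norm_num)).1
      exact ⟨⟨fun a b => Subsingleton.elim _ _⟩⟩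
    · have : IsCyclic (KK γ) := isCyclic_of_prime_card (p := 2) (by rw [hn]; norm_num)
      exact ⟨⟨fun a b => (IsCyclic.commGroup (α := KK γ)).mul_comm a b⟩⟩
    · exact IsPGroup.isMulCommutative_of_card_eq_prime_sq (p := 2) hn
  rw [show n = 3 by omega]
  norm_num

/-- `C_Q(y)` is a Sylow 2-subgroup of `C(y)` -/
theorem max_KK {R : Subgroup (centralizer ({γ 6} : Set G))} (hR : IsPGroup 2 R) (hK : KK γ ≤ R) : R = KK γ := by
  have hfin := h.fin
  have : Fact (Nat.Prime 2) := ⟨Nat.prime_two⟩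
  by_contra hne
  have hlt : KK γ < R := lt_of_le_of_ne hK (Ne.symm hne)
  obtain ⟨f, F⟩ := _root_.Cfsg.Agent.CpAutTh.Local.exists_epi h
  -- the normalizer grows
  have hnil : Group.IsNilpotent R := hR.isNilpotent
  have h1 : (KK γ).subgroupOf R < ⊤ := by
    rw [lt_top_iff_ne_top]
    intro h2
    rw [subgroupOf_eq_top] at h2
    exact hne (le_antisymm h2 hK)
  have h2 := Group.normalizerCondition_of_isNilpotent (G := R) _ h1
  obtain ⟨r, hr1, hr2⟩ := SetLike.exists_of_lt h2
  have hrK : (r : centralizer ({γ 6} : Set G)) ∉ KK γ := fun h3 => hr2 (mem_subgroupOf.2 h3)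
  have hnorm : ∀ q ∈ KK γ, (r : centralizer ({γ 6} : Set G)) * q * (r : centralizer ({γ 6} : Set G))⁻¹ ∈ KK γ := by
    intro q hq
    have h3 := (mem_normalizer_iff.1 hr1 ⟨q, hK hq⟩).1 (mem_subgroupOf.2 hq)
    exact mem_subgroupOf.1 h3
  set r' : centralizer ({γ 6} : Set G) := r.1 with hr'
  -- `r` centralizes `a`
  let a' : centralizer ({γ 6} : Set G) := ⟨γ 1, a_comm h⟩
  have haK : a' ∈ KK γ := h.a_mem
  have hac : ∀ q ∈ KK γ, a' * q = q * a' := fun q hq => Subtype.ext (h.Q_comm (mem_KK.1 hq))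
  have hrinv : ∀ q ∈ KK γ, r'⁻¹ * q * r' ∈ KK γ := by
    intro q hq
    have h3 := (mem_normalizer_iff.1 hr1 ⟨r'⁻¹ * q * r', mul_mem (mul_mem (_root_.InvMemClass.inv_mem r.2) (hK hq)) r.2⟩).2 (by
      rw [mem_subgroupOf]
      show r' * (r'⁻¹ * q * r') * r'⁻¹ ∈ KK γ
      rwa [show r' * (r'⁻¹ * q * r') * r'⁻¹ = q by group])
    exact mem_subgroupOf.1 h3
  have hra : ((r' * a' * r'⁻¹ : centralizer ({γ 6} : Set G)) : G) = γ 1 := by
    have h3 : ∀ q ∈ KK γ, r' * a' * r'⁻¹ * q = q * (r' * a' * r'⁻¹) := by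
      intro q hq
      have h4 := hac _ (hrinv q hq)
      calc r' * a' * r'⁻¹ * q = r' * (a' * (r'⁻¹ * q * r')) * r'⁻¹ := by group
        _ = r' * ((r'⁻¹ * q * r') * a') * r'⁻¹ := by rw [h4]
        _ = q * (r' * a' * r'⁻¹) := by group
    have h4 := center_KK h (hnorm a' haK)
      (congrArg Subtype.val (h3 ⟨cc γ 0, c0_comm h 0 (Or.inl rfl)⟩ (h.cc_mem 0)))
      (congrArg Subtype.val (h3 ⟨cc γ 1, c0_comm h 1 (Or.inr rfl)⟩ (h.cc_mem 1)))
    refine h4.resolve_left fun h5 => h.a1 ?_
    have h6 : r' * a' * r'⁻¹ = 1 := Subtype.ext h5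
    have h7 : a' = 1 := by
      rw [mul_inv_eq_one] at h6
      exact mul_left_cancel (h6.trans (mul_one r').symm)
    exact congrArg Subtype.val h7
  have hrC : (r' : G) ∈ sub γ isC := by
    rw [h.mem_C]
    have h3 : (r' : G) * γ 1 * (r' : G)⁻¹ = γ 1 := hra
    rw [mul_inv_eq_iff_eq_mul] at h3
    exact h3
  -- the image in `A9`
  have h6C : ev γ X7 ∈ sub γ isC := ev_mem_sub c7
  have hf1 : f ⟨(r' : G), hrC⟩ = 1 := by
    apply Subtype.ext
    refine seven_two (σ := (f ⟨(r' : G), hrC⟩ : Equiv.Perm (Fin 9))) (τ := pm9 X7) ?_ ?_ t7 ?_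
    · obtain ⟨k, hk⟩ := hR r
      have h4 : (⟨(r' : G), hrC⟩ : sub γ isC) ^ 2 ^ k = 1 := Subtype.ext (by
        have h5 := congrArg (fun z : R => ((z : centralizer ({γ 6} : Set G)) : G)) hk
        exact h5)
      have h5 := congrArg f h4
      rw [map_pow, map_one] at h5
      exact pow_eight (k := k) (congrArg Subtype.val h5)
    · exact Equiv.Perm.mem_alternatingGroup.1 (f ⟨(r' : G), hrC⟩).2
    · rw [← F.word X7 c7]
      have h4 : (⟨(r' : G), hrC⟩ : sub γ isC) * ⟨ev γ X7, h6C⟩ = ⟨ev γ X7, h6C⟩ * ⟨(r' : G), hrC⟩ :=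
        Subtype.ext (comm6 r')
      have h5 := congrArg f h4
      rw [map_mul, map_mul] at h5
      exact congrArg Subtype.val h5
  have h3 : (r' : G) ∈ Q0 γ := (mem_ker F).1 (MonoidHom.mem_ker.2 hf1)
  exact hrK h3

theorem order_six : orderOf (γ 6) = 7 := by
  obtain ⟨f, F⟩ := _root_.Cfsg.Agent.CpAutTh.Local.exists_epi h
  have h1 := o7 h F
  rwa [Subgroup.orderOf_mk, X7_eq] at h1

theorem order_a : orderOf (γ 1) = 2 := by
  have : Fact (Nat.Prime 2) := ⟨Nat.prime_two⟩
  exact orderOf_eq_prime (by rw [pow_two]; exact h.aa) h.a1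

/-- **the data of (N8) for the Thompson group** -/
theorem n8_ctx : N8 G (γ 6) (γ 1) (Q0 γ ⊓ centralizer ({γ 6} : Set G)) (Q0 γ) where
  odd := by rw [order_six h]; decide
  real := isConj_iff.2 ⟨γ 4 * γ 3, yx' h⟩
  two := (isPGroup_Q h).to_le inf_le_left
  comm q hq := mem_centralizer_singleton_iff.1 hq.2
  card := by
    rw [← card_KK h]
    have h1 : KK γ = (Q0 γ ⊓ centralizer ({γ 6} : Set G)).subgroupOf (centralizer ({γ 6} : Set G)) := by
      rw [inf_subgroupOf_right]
      rfl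
    rw [h1]
    exact Nat.card_congr (subgroupOfEquivOfLe inf_le_right).symm.toEquiv
  nonab := ⟨cc γ 0, ⟨h.cc_mem 0, c0_comm h 0 (Or.inl rfl)⟩, cc γ 1, ⟨h.cc_mem 1, c0_comm h 1 (Or.inr rfl)⟩,
    not_comm01 h⟩
  max R hR hc hK := by
    have hle : R ≤ centralizer ({γ 6} : Set G) := fun r hr => mem_centralizer_singleton_iff.2 (hc r hr)
    have h1 : R.subgroupOf (centralizer ({γ 6} : Set G)) = KK γ := by
      refine max_KK h (hR.comap_of_injective _ Subtype.val_injective) ?_
      intro q hq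
      exact mem_subgroupOf.2 (hK ⟨mem_KK.1 hq, q.2⟩)
    refine le_antisymm (fun r hr => ⟨?_, hle hr⟩) hK
    have h2 : (⟨r, hle hr⟩ : centralizer ({γ 6} : Set G)) ∈ R.subgroupOf (centralizer ({γ 6} : Set G)) :=
      mem_subgroupOf.2 hr
    rw [h1] at h2
    exact mem_KK.1 h2
  zo := order_a h
  zK q hq := h.Q_comm hq.1
  zy := mem_centralizer_singleton_iff.1 (a_comm h)
  Etwo := isPGroup_Q h
  Enorm c hc q hq := by
    have h1 := h.Q_conj (_root_.InvMemClass.inv_mem (h.mem_C.2 hc)) hq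
    rwa [inv_inv] at h1
  Ecent c hc := by
    rcases h.eq_of_cent hc with rfl | rfl
    · exact one_mem _
    · exact h.a_mem

end

/-- **the data of (N8) for the Thompson group** -/
theorem n8_th {S : Type u} [Group S] (h : Spor.IsoTh S) : ∃ (y z : S) (K E : Subgroup S), N8 S y z K E := by
  obtain ⟨e⟩ := h
  exact ⟨_, _, _, _, (n8_ctx Cfsg.Agent.KFacts.Th.Main.ctx).congr e.symm⟩

end Cfsg.Agent.H890.EB
end

-- part: H890/EB/Th
section
/-!
# TEAM EB: the row of the Thompson group (helper890)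
-/

set_option autoImplicit false

namespace Cfsg.Agent.H890.EB

open Cfsg Cfsg.Agent.H684.EB Cfsg.Agent.H610.EB

universe u

/-- (N8) with constrained centralizers -/
theorem N8.evenS {S : Type u} [Group S] [Fintype S] {y z : S} {K E : Subgroup S} (h : N8 S y z K E) : EvenS S := by
  have : Fact (Nat.Prime 2) := ⟨Nat.prime_two⟩
  obtain ⟨Q, hQ, hna, hzQ⟩ := h.exists_sylow
  refine evenS_of_n8 y h.odd h.real Q hQ hna z h.zo hzQ h.zy fun M hM x hx hz => ?_
  obtain ⟨D, hD, hD2, hDc⟩ := exists_constr h.Etwo h.Enorm h.Ecent hx hz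
  exact Cfsg.Agent.H104.EB.COne.oneBlock_of_constrained hM D hD2 hDc

theorem th_evenS {S : Type u} [Group S] [Fintype S] (h : Spor.IsoTh S) : EvenS S := by
  obtain ⟨y, z, K, E, hN⟩ := n8_th h
  exact hN.evenS

/-- every automorphism of the Thompson group is inner -/
theorem th_inner {S : Type u} [Group S] (h : Spor.IsoTh S) (α : S ≃* S) : ∃ s : S, ∀ x : S, α x = s * x * s⁻¹ := by
  obtain ⟨e⟩ := h
  have hout : Nat.card (Out S) = 1 := by rw [H55.OutGen.card_out_congr e, S2083.result]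
  have h1 : Subsingleton (Out S) := (Nat.card_eq_one_iff_unique.1 hout).1
  have h2 : (QuotientGroup.mk (α : MulAut S) : Out S) = QuotientGroup.mk 1 := Subsingleton.elim _ _
  rw [eq_comm, QuotientGroup.eq, inv_one, one_mul] at h2
  obtain ⟨s, hs⟩ := h2
  refine ⟨s, fun x => ?_⟩
  have h3 := congrArg (fun β : MulAut S => β x) hs
  exact h3.symm

/-- **TEAM EB, [T16]: the row of the Thompson group** -/
theorem th {S : Type u} [Group S] (h : Spor.IsoTh S) : EvenB S := by
  have hfin : Finite S := by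
    obtain ⟨e⟩ := h
    have : Finite Spor.Th := Cfsg.Agent.KFacts.Th.Main.ctx.fin
    exact Finite.of_equiv _ e.symm.toEquiv
  have := Fintype.ofFinite S
  exact evenB_of_evenS_of_inner (th_evenS h) (th_inner h)

end Cfsg.Agent.H890.EB
end
end

-- part: H333/EB/L34
section
prune_inst 0x103005404062000000000010400020244400000000200000c800054600094100800009000c801001100a200000040008130000e0420000000a204400000404010000140420400008000000003000010000000080000000000000000000000000204010000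
set_option linter.all false
open scoped Cfsg.Agent.FastGrp

-- part: H333/EB/P1
section
/-!
# The criterion (P1N) of TEAM EB (helper333)

`r` is an odd prime, `r ∥ |S|`, all the elements of order `r` of `S` are conjugate to `y`, `x` is a 2-element
commuting with `y`, `C = C_S(x)`. `Ψ g = 1` if `r ∣ o(g)` and `0` otherwise.

* `bk M G x y`: the sum of `χ x * conj (χ y)` over the principal block;
* `Nsum M r C y`: the mean over `C` of `bk M C y s`, `s` 2-regular and `r`-singular;
* `coef_mul`: `r a² = a χ(xy)`, `a` the coefficient of `Ψ` at `χ`;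
* `sum_coef`: the `B₀(2)`-part of `Ψ` has `r * norm = Nsum M r C y`;
* `concl`: if `Nsum M r C y` is not in the local ideal then `Concl M G N k` for all `G` over `N ≅ S`.
-/

set_option autoImplicit false
set_option linter.unusedSectionVars false

namespace Cfsg.Agent.H333.EB.P1

open Cfsg Subgroup
open Cfsg.Agent.Characters
open Cfsg.Agent.Blocks
open scoped ComplexConjugate

universe u v

/-- the kernel of the principal block -/
noncomputable def bk (M : Ideal AlgInt) (G : Type u) [Group G] (x y : G) : ℂ :=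
  ∑ᶠ χ ∈ principalBlock M G, (χ : G → ℂ) x * conj ((χ : G → ℂ) y)

open scoped Classical in
/-- the indicator of the `r`-singular elements -/
noncomputable def sing (r : ℕ) (G : Type u) [Group G] : G → ℂ := fun g => if r ∣ orderOf g then 1 else 0

open scoped Classical in
/-- the mean of the kernel of the principal block over the `r`-singular 2-regular elements -/
noncomputable def Nsum (M : Ideal AlgInt) (r : ℕ) (C : Type u) [Group C] (y : C) : ℂ :=
  (Nat.card C : ℂ)⁻¹ * ∑ᶠ s : C, if ¬ 2 ∣ orderOf s then sing r C s * bk M C y s else 0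

open scoped Classical in
theorem Nsum_eq (M : Ideal AlgInt) (r : ℕ) (C : Type u) [Group C] [Fintype C] (y : C) : Nsum M r C y =
    (Nat.card C : ℂ)⁻¹ * ∑ s : C with ¬ 2 ∣ orderOf s, sing r C s * bk M C y s := by
  rw [Nsum, finsum_eq_sum_of_fintype, Finset.sum_filter]

/-! ### Sums over sections -/

section Sec

variable {S : Type u} [Group S] [Fintype S] {p : ℕ} [hp : Fact p.Prime]

open scoped Classical in
theorem sum_section (f : S → ℂ) (hf : IsClassFunction S f) (x : S) (hx : ∃ k : ℕ, orderOf x = p ^ k)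
    (h0 : ∀ g z : S, IsPPart p g z → ¬ IsConj x z → f g = 0) :
    ∑ g : S, f g = ((centralizer ({x} : Set S)).index : ℂ) *
      ∑ s : centralizer ({x} : Set S) with ¬ p ∣ orderOf s, f (x * (s : S)) := by
  rw [SectionSum.sum_eq_sum_sections p f]
  -- the inner sum
  let F : S → ℂ := fun x' => ∑ y ∈ Finset.univ.filter (fun y : S => Commute x' y ∧ ¬ p ∣ orderOf y), f (x' * y)
  have hF : ∀ t : S, F (t * x * t⁻¹) = F x := by
    intro t
    refine Finset.sum_bij' (fun s _ => t⁻¹ * s * t) (fun s _ => t * s * t⁻¹) ?_ ?_ ?_ ?_ ?_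
    · intro s hs
      obtain ⟨h1, h2⟩ := (Finset.mem_filter.1 hs).2
      refine Finset.mem_filter.2 ⟨Finset.mem_univ _, ?_, ?_⟩
      · have h3 := h1.eq
        have h4 : t⁻¹ * (t * x * t⁻¹ * s) * t = t⁻¹ * (s * (t * x * t⁻¹)) * t := by rw [h3]
        have h5 : x * (t⁻¹ * s * t) = t⁻¹ * s * t * x := by
          calc x * (t⁻¹ * s * t) = t⁻¹ * (t * x * t⁻¹ * s) * t := by group
            _ = t⁻¹ * (s * (t * x * t⁻¹)) * t := h4
            _ = t⁻¹ * s * t * x := by group
        exact h5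
      · have h3 : orderOf (t⁻¹ * s * t) = orderOf s := by
          have := MulEquiv.orderOf_eq (MulAut.conj t⁻¹) s
          simpa only [_root_.map_inv, _root_.MulAut.inv_apply, _root_.MulAut.conj_symm_apply] using this
        rwa [h3]
    · intro s hs
      obtain ⟨h1, h2⟩ := (Finset.mem_filter.1 hs).2
      refine Finset.mem_filter.2 ⟨Finset.mem_univ _, ?_, ?_⟩
      · have h3 := h1.eq
        have h5 : t * x * t⁻¹ * (t * s * t⁻¹) = t * s * t⁻¹ * (t * x * t⁻¹) := by
          calc t * x * t⁻¹ * (t * s * t⁻¹) = t * (x * s) * t⁻¹ := by group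
            _ = t * (s * x) * t⁻¹ := by rw [h3]
            _ = t * s * t⁻¹ * (t * x * t⁻¹) := by group
        exact h5
      · have h3 : orderOf (t * s * t⁻¹) = orderOf s := by
          have := MulEquiv.orderOf_eq (MulAut.conj t) s
          simpa using this
        rwa [h3]
    · intro s _
      group
    · intro s _
      group
    · intro s _
      have h1 : t * x * t⁻¹ * s = t * (x * (t⁻¹ * s * t)) * t⁻¹ := by group
      rw [h1, hf]
  have h1 : ∀ x' ∈ Finset.univ.filter (fun x : S => ∃ k : ℕ, orderOf x = p ^ k),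
      F x' = if IsConj x x' then F x else 0 := by
    intro x' hx'
    have hx'' := (Finset.mem_filter.1 hx').2
    split_ifs with hc
    · obtain ⟨t, rfl⟩ := isConj_iff.1 hc
      exact hF t
    · refine Finset.sum_eq_zero fun s hs => ?_
      obtain ⟨h1, h2⟩ := (Finset.mem_filter.1 hs).2
      exact h0 _ x' (PPart.isPPart_mul h1 hx'' h2) hc
  rw [Finset.sum_congr rfl h1, ← Finset.sum_filter, Finset.sum_const, nsmul_eq_mul]
  have h2 : (Finset.filter (fun x' => IsConj x x')
      (Finset.univ.filter (fun x : S => ∃ k : ℕ, orderOf x = p ^ k))).card =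
      (centralizer ({x} : Set S)).index := by
    rw [← Induced.ncard_conj_eq_index, ← Set.ncard_coe_finset]
    congr 1
    ext x'
    rw [Finset.mem_coe, Finset.mem_filter, Finset.mem_filter]
    constructor
    · rintro ⟨-, h⟩
      exact h
    · intro h
      refine ⟨⟨Finset.mem_univ _, ?_⟩, h⟩
      obtain ⟨t, rfl⟩ := isConj_iff.1 h
      obtain ⟨k, hk⟩ := hx
      refine ⟨k, ?_⟩
      rw [← hk]
      have := MulEquiv.orderOf_eq (MulAut.conj t) x
      simpa using this
  rw [h2]
  congr 1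
  show ∑ y ∈ Finset.univ.filter (fun y : S => Commute x y ∧ ¬ p ∣ orderOf y), f (x * y) = _
  symm
  refine Finset.sum_bij (fun (s : centralizer ({x} : Set S)) _ => (s : S)) ?_ ?_ ?_ ?_
  · intro s hs
    have h1 := (Finset.mem_filter.1 hs).2
    refine Finset.mem_filter.2 ⟨Finset.mem_univ _, ?_, ?_⟩
    · exact (show Commute (s : S) x from mem_centralizer_singleton_iff.1 s.2).symm
    · rwa [orderOf_coe]
  · intro a _ b _ hab
    exact Subtype.ext hab
  · intro s hs
    obtain ⟨h1, h2⟩ := (Finset.mem_filter.1 hs).2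
    refine ⟨⟨s, mem_centralizer_singleton_iff.2 h1.symm.eq⟩, Finset.mem_filter.2 ⟨Finset.mem_univ _, ?_⟩, rfl⟩
    rwa [← orderOf_coe]
  · intro s _
    rfl

variable {M : Ideal AlgInt}

theorem bk_conj (x y t : S) : bk M S x (t * y * t⁻¹) = bk M S x y := by
  unfold bk
  congr 1
  funext χ
  congr 1
  funext _
  rw [Basic.irr_conj χ.2]

theorem bk_eq_zero (hM : IsPModular p M) {x g h z : S} (hg : IsPPart p g x) (hh : IsPPart p h z)
    (hn : ¬ IsConj x z) : bk M S g h = 0 :=
  Orthogonality.block_orthogonality hM (principalBlock M S)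
    (Osima.memLocalRing_blockCoeff hM PrincipalSection.isPBlock_principalBlock) hg hh hn

/-- the values of the kernel at a section -/
theorem bk_section (hM : IsPModular p M) {x : S} (hx : ∃ k : ℕ, orderOf x = p ^ k)
    (y s : centralizer ({x} : Set S)) (hy : ¬ p ∣ orderOf y) (hs : ¬ p ∣ orderOf s) :
    bk M S (x * (y : S)) (x * (s : S)) = bk M (centralizer ({x} : Set S)) y s :=
  PrincipalSection.sum_principalBlock_section hM x hx rfl y s hy hs

open scoped Classical in
theorem sum_block_aux [Fintype (IrrCharacter S)] (Ψ : S → ℂ) (g₀ : S) :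
    ∑ χ : IrrCharacter S with χ ∈ principalBlock M S, classInner Ψ (χ : S → ℂ) * (χ : S → ℂ) g₀ =
      (Nat.card S : ℂ)⁻¹ * ∑ g : S, Ψ g * bk M S g₀ g := by
  have h2 : ∀ g : S, Ψ g * bk M S g₀ g =
      ∑ χ : IrrCharacter S with χ ∈ principalBlock M S, Ψ g * ((χ : S → ℂ) g₀ * conj ((χ : S → ℂ) g)) := by
    intro g
    rw [bk, Orthogonality.finsum_mem_eq_sum_filter, Finset.mul_sum]
  rw [Finset.sum_congr rfl fun g _ => h2 g, Finset.sum_comm, Finset.mul_sum]
  refine Finset.sum_congr rfl fun χ _ => ?_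
  rw [Core.classInner_def, mul_assoc, Finset.sum_mul]
  congr 1
  refine Finset.sum_congr rfl fun g _ => ?_
  ring

open scoped Classical in
/-- the `B₀`-projection of a class function at `x y` -/
theorem sum_block (hM : IsPModular p M) [Fintype (IrrCharacter S)] {Ψ : S → ℂ} (hΨ : IsClassFunction S Ψ) {x : S}
    (hx : ∃ k : ℕ, orderOf x = p ^ k) (y : centralizer ({x} : Set S)) (hy : ¬ p ∣ orderOf y) :
    ∑ χ : IrrCharacter S with χ ∈ principalBlock M S, classInner Ψ (χ : S → ℂ) * (χ : S → ℂ) (x * (y : S)) =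
      (Nat.card (centralizer ({x} : Set S)) : ℂ)⁻¹ * ∑ s : centralizer ({x} : Set S) with ¬ p ∣ orderOf s,
        Ψ (x * (s : S)) * bk M (centralizer ({x} : Set S)) y s := by
  have hpp : ∀ s : centralizer ({x} : Set S), ¬ p ∣ orderOf s → IsPPart p (x * (s : S)) x := by
    intro s hs
    refine PPart.isPPart_mul (show Commute (s : S) x from mem_centralizer_singleton_iff.1 s.2).symm hx ?_
    rwa [orderOf_coe]
  have h1 := sum_block_aux (M := M) Ψ (x * (y : S))
  rw [h1, sum_section (p := p) (fun g => Ψ g * bk M S (x * (y : S)) g) ?_ x hx ?_]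
  · rw [← mul_assoc]
    congr 1
    · have h3 : (Nat.card S : ℂ) = ((centralizer ({x} : Set S)).index : ℂ) * Nat.card (centralizer ({x} : Set S)) := by
        exact_mod_cast (index_mul_card (centralizer ({x} : Set S))).symm
      have h4 : ((centralizer ({x} : Set S)).index : ℂ) ≠ 0 := by
        exact_mod_cast index_ne_zero_of_finite
      rw [h3, mul_inv, mul_comm, ← mul_assoc, mul_inv_cancel₀ h4, one_mul]
    · refine Finset.sum_congr rfl fun s hs => ?_
      rw [bk_section hM hx y s hy (Finset.mem_filter.1 hs).2]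
  · intro g t
    show Ψ _ * bk M S _ _ = Ψ _ * bk M S _ _
    rw [hΨ, bk_conj]
  · intro g z hz hn
    show Ψ g * bk M S _ g = 0
    rw [bk_eq_zero hM (hpp y hy) hz hn, mul_zero]

end Sec

/-! ### The `r`-singular elements, `r ∥ |S|` -/

theorem sing_of_dvd {r : ℕ} {G : Type u} [Group G] {g : G} (h : r ∣ orderOf g) : sing r G g = 1 := if_pos h

theorem sing_of_not_dvd {r : ℕ} {G : Type u} [Group G] {g : G} (h : ¬ r ∣ orderOf g) : sing r G g = 0 := if_neg h

theorem sing_congr {r : ℕ} {G : Type u} {H : Type v} [Group G] [Group H] {g : G} {h : H}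
    (he : r ∣ orderOf g ↔ r ∣ orderOf h) : sing r G g = sing r H h := by
  by_cases hg : r ∣ orderOf g
  · rw [sing_of_dvd hg, sing_of_dvd (he.1 hg)]
  · rw [sing_of_not_dvd hg, sing_of_not_dvd (fun h' => hg (he.2 h'))]

theorem isClassFunction_sing (r : ℕ) (G : Type u) [Group G] : IsClassFunction G (sing r G) := by
  intro g t
  refine sing_congr ?_
  have : orderOf (t * g * t⁻¹) = orderOf g := by
    have := MulEquiv.orderOf_eq (MulAut.conj t) g
    simpa using this
  rw [this]

theorem sing_mul_conj (r : ℕ) (G : Type u) [Group G] (g : G) : sing r G g * conj (sing r G g) = sing r G g := by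
  by_cases hg : r ∣ orderOf g
  · rw [sing_of_dvd hg, map_one, one_mul]
  · rw [sing_of_not_dvd hg, zero_mul]

section R

variable {S : Type u} [Group S] [Fintype S] {r : ℕ} [hr : Fact r.Prime]

/-- the centralizer of an element of order `r` has a normal `r`-complement -/
theorem compl (hr1 : ¬ r ^ 2 ∣ Nat.card S) {x : S} (hx : orderOf x = r) :
    (pPrimeCore r (centralizer ({x} : Set S))).index = r := by
  let X : centralizer ({x} : Set S) := ⟨x, mem_centralizer_singleton_iff.2 rfl⟩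
  have hX : orderOf X = r := by rw [← orderOf_coe]; exact hx
  have hXP : IsPGroup r (zpowers X) := IsPGroup.of_card (n := 1) (by rw [Nat.card_zpowers, hX, pow_one])
  obtain ⟨P, hP⟩ := hXP.exists_le_sylow
  have hXc : zpowers X ≤ center (centralizer ({x} : Set S)) := by
    rw [zpowers_le, mem_center_iff]
    intro g
    exact Subtype.ext (mem_centralizer_singleton_iff.1 g.2)
  have hPr : Nat.card P = r := by
    obtain ⟨n, hn⟩ := IsPGroup.iff_card.1 P.isPGroup'
    have h1 : Nat.card P ∣ Nat.card S :=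
      (card_subgroup_dvd_card (P : Subgroup (centralizer ({x} : Set S)))).trans (card_subgroup_dvd_card _)
    have h2 : r ∣ Nat.card P := by
      have h3 := card_dvd_of_le hP
      rwa [Nat.card_zpowers, hX] at h3
    have h4 : n ≤ 1 := by
      by_contra h5
      apply hr1
      refine dvd_trans ?_ h1
      rw [hn]
      exact pow_dvd_pow r (by omega)
    rcases n with _ | _ | n
    · rw [hn, pow_zero] at h2
      exact absurd (Nat.dvd_one.1 h2) hr.out.ne_one
    · rw [hn, zero_add, pow_one]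
    · omega
  have hPX : (P : Subgroup (centralizer ({x} : Set S))) = zpowers X := by
    symm
    apply eq_of_le_of_card_ge hP
    rw [Nat.card_zpowers, hX]
    exact hPr.le
  obtain ⟨K, hKn, hKi, hKc, -⟩ := CentralSylow.exists_complement P (by rw [hPX]; exact hXc)
  rw [hPr] at hKi
  have h1 : K ≤ pPrimeCore r (centralizer ({x} : Set S)) := Lib.Cores.le_pPrimeCore hKn hKc
  have h2 : (pPrimeCore r (centralizer ({x} : Set S))).index ∣ r := by
    have h3 := index_dvd_of_le h1
    rwa [hKi] at h3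
  rcases (Nat.dvd_prime hr.out).1 h2 with h3 | h3
  · exfalso
    have h4 : pPrimeCore r (centralizer ({x} : Set S)) = ⊤ := index_eq_one.1 h3
    have h5 : X ∈ pPrimeCore r (centralizer ({x} : Set S)) := by rw [h4]; exact mem_top _
    have h6 := (Lib.Cores.pPrimeCore_coprime (G := centralizer ({x} : Set S)) r)
    have h7 : orderOf X ∣ Nat.card (pPrimeCore r (centralizer ({x} : Set S))) := by
      have := _root_.orderOf_dvd_natCard (⟨X, h5⟩ : pPrimeCore r (centralizer ({x} : Set S)))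
      rwa [Subgroup.orderOf_mk] at this
    rw [hX] at h7
    exact (Nat.Prime.coprime_iff_not_dvd hr.out).1 h6.symm h7
  · exact h3

theorem mem_core (hr1 : ¬ r ^ 2 ∣ Nat.card S) {x : S} (hx : orderOf x = r) (h : centralizer ({x} : Set S)) :
    h ∈ pPrimeCore r (centralizer ({x} : Set S)) ↔ ¬ r ∣ orderOf h :=
  SectionCount.mem_pPrimeCore_iff r ⟨1, by rw [compl hr1 hx, pow_one]⟩ h

/-- the members of the principal `r`-block are constant on `x C(x)_{r'}` -/
theorem irr_const {M' : Ideal AlgInt} (hM' : IsPModular r M') (hr1 : ¬ r ^ 2 ∣ Nat.card S) {x : S}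
    (hx : orderOf x = r) {h : S} (hc : Commute x h) (hh : ¬ r ∣ orderOf h) (χ : IrrCharacter S)
    (hχ : χ ∈ principalBlock M' S) : (χ : S → ℂ) (x * h) = (χ : S → ℂ) x := by
  have h1 := PrincipalConstGen.irr_const r M' hM' (u := x) ⟨1, by rw [hx, pow_one]⟩
    ((pPrimeCore r (centralizer ({x} : Set S))).map (centralizer ({x} : Set S)).subtype) ?_ ?_ ?_
    (y := 1) (n := h) (Commute.one_right x) (by rw [orderOf_one]; exact fun h => hr.out.ne_one (Nat.dvd_one.1 h))
    ?_ χ hχ
  · rwa [mul_one] at h1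
  · rintro _ ⟨n, hn, rfl⟩
    exact (show Commute (n : S) x from mem_centralizer_singleton_iff.1 n.2).symm
  · rintro c hc _ ⟨n, hn, rfl⟩
    have hcC : c ∈ centralizer ({x} : Set S) := mem_centralizer_singleton_iff.2 hc.symm.eq
    refine ⟨⟨c, hcC⟩ * n * ⟨c, hcC⟩⁻¹, ?_, rfl⟩
    exact (Lib.Cores.pPrimeCore_normal r).conj_mem n hn _
  · rw [card_map_of_injective (subtype_injective _)]
    exact Lib.Cores.pPrimeCore_coprime r
  · refine ⟨⟨h, mem_centralizer_singleton_iff.2 hc.symm.eq⟩, (mem_core hr1 hx _).2 ?_, rfl⟩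
    rwa [Subgroup.orderOf_mk]

/-- the coefficients at the principal `r`-block -/
theorem coef_eq {M' : Ideal AlgInt} (hM' : IsPModular r M') (hr1 : ¬ r ^ 2 ∣ Nat.card S) {y : S}
    (hy : orderOf y = r) (hcl : ∀ y' : S, orderOf y' = r → IsConj y y') (χ : IrrCharacter S)
    (hχ : χ ∈ principalBlock M' S) : classInner (sing r S) (χ : S → ℂ) = (r : ℂ)⁻¹ * conj ((χ : S → ℂ) y) := by
  classical
  have hy1 : y ≠ 1 := by
    rintro rfl
    rw [orderOf_one] at hy
    exact hr.out.ne_one hy.symm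
  rw [Core.classInner_def, sum_section (p := r) (fun g => sing r S g * conj ((χ : S → ℂ) g)) ?_ y
    ⟨1, by rw [hy, pow_one]⟩ ?_]
  · have h1 : ∀ s ∈ Finset.univ.filter (fun s : centralizer ({y} : Set S) => ¬ r ∣ orderOf s),
        sing r S (y * (s : S)) * conj ((χ : S → ℂ) (y * (s : S))) = conj ((χ : S → ℂ) y) := by
      intro s hs
      have hs' := (Finset.mem_filter.1 hs).2
      have hc : Commute y (s : S) := (show Commute (s : S) y from mem_centralizer_singleton_iff.1 s.2).symm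
      have hs2 : ¬ r ∣ orderOf (s : S) := by rwa [orderOf_coe]
      rw [irr_const hM' hr1 hy hc hs2 χ hχ, sing_of_dvd, one_mul]
      rw [hc.orderOf_mul_eq_mul_orderOf_of_coprime, hy]
      · exact dvd_mul_right _ _
      · rw [hy]
        exact (Nat.Prime.coprime_iff_not_dvd hr.out).2 hs2
    rw [Finset.sum_congr rfl h1, Finset.sum_const, nsmul_eq_mul]
    have h2 : (Finset.univ.filter (fun s : centralizer ({y} : Set S) => ¬ r ∣ orderOf s)).card =
        Nat.card (pPrimeCore r (centralizer ({y} : Set S))) := by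
      rw [← Fintype.card_subtype, ← Nat.card_eq_fintype_card]
      exact Nat.card_congr (Equiv.subtypeEquivRight fun s => (mem_core hr1 hy s).symm)
    rw [h2]
    have h3 : (Nat.card S : ℂ) = ((centralizer ({y} : Set S)).index : ℂ) *
        ((Nat.card (pPrimeCore r (centralizer ({y} : Set S))) : ℂ) * r) := by
      have h4 := index_mul_card (centralizer ({y} : Set S))
      have h5 := (pPrimeCore r (centralizer ({y} : Set S))).card_mul_index
      rw [compl hr1 hy] at h5
      rw [← h5] at h4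
      exact_mod_cast h4.symm
    have h6 : ((centralizer ({y} : Set S)).index : ℂ) ≠ 0 := by exact_mod_cast index_ne_zero_of_finite
    have h7 : (Nat.card (pPrimeCore r (centralizer ({y} : Set S))) : ℂ) ≠ 0 := by exact_mod_cast Nat.card_pos.ne'
    have h8 : (r : ℂ) ≠ 0 := by exact_mod_cast hr.out.ne_zero
    rw [h3]
    field_simp
  · intro g t
    show sing r S _ * _ = _
    rw [isClassFunction_sing r S, Basic.irr_conj χ.2]
  · intro g z hz hn
    show sing r S g * _ = 0
    obtain ⟨w, hw1, hw2, ⟨k, hk⟩, hw3⟩ := hz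
    have h1 : k ≤ 1 := by
      by_contra h2
      apply hr1
      refine dvd_trans ?_ (_root_.orderOf_dvd_natCard z)
      rw [hk]
      exact pow_dvd_pow r (by omega)
    rcases k with _ | _ | k
    · rw [pow_zero, orderOf_eq_one_iff] at hk
      rw [sing_of_not_dvd, zero_mul]
      rwa [← hw1, hk, one_mul]
    · exact absurd (hcl z (by rw [hk, zero_add, pow_one])) hn
    · omega

theorem norm_sing_eq {M' : Ideal AlgInt} (hM' : IsPModular r M') (hr1 : ¬ r ^ 2 ∣ Nat.card S) {y : S}
    (hy : orderOf y = r) (hcl : ∀ y' : S, orderOf y' = r → IsConj y y') :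
    classInner (sing r S) (sing r S) = (r : ℂ)⁻¹ := by
  have hprime : M'.IsPrime := Local.isPrime_of_isPModular hM'
  have h1 := coef_eq hM' hr1 hy hcl ⟨fun _ => 1, Basic.isIrrCharacter_one⟩ PrincipalSection.one_mem_principalBlock
  have h2 : classInner (sing r S) (sing r S) = classInner (sing r S) (fun _ : S => (1 : ℂ)) := by
    rw [Core.classInner_def, Core.classInner_def]
    congr 1
    refine Finset.sum_congr rfl fun g _ => ?_
    rw [sing_mul_conj, map_one, mul_one]
  rw [h2]
  have h3 : classInner (sing r S) (fun _ : S => (1 : ℂ)) = (r : ℂ)⁻¹ * conj (1 : ℂ) := h1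
  rw [h3, map_one, mul_one]

/-- the coefficients outside the principal `r`-block vanish -/
theorem coef_zero {M' : Ideal AlgInt} (hM' : IsPModular r M') (hr1 : ¬ r ^ 2 ∣ Nat.card S) {y : S}
    (hy : orderOf y = r) (hcl : ∀ y' : S, orderOf y' = r → IsConj y y') (χ : IrrCharacter S)
    (hχ : χ ∉ principalBlock M' S) : classInner (sing r S) (χ : S → ℂ) = 0 := by
  classical
  have : Finite (IrrCharacter S) := Core.finite_irr
  have := Fintype.ofFinite (IrrCharacter S)
  have h8 : (r : ℂ) ≠ 0 := by exact_mod_cast hr.out.ne_zero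
  have h1 := Core.classInner_eq_sum (isClassFunction_sing r S) (isClassFunction_sing r S)
  rw [norm_sing_eq hM' hr1 hy hcl,
    ← Finset.sum_filter_add_sum_filter_not Finset.univ (fun χ : IrrCharacter S => χ ∈ principalBlock M' S)] at h1
  have h2 : ∑ χ : IrrCharacter S with χ ∈ principalBlock M' S, classInner (sing r S) (χ : S → ℂ) *
      conj (classInner (sing r S) (χ : S → ℂ)) = (r : ℂ)⁻¹ := by
    have h3 : ∀ χ ∈ Finset.univ.filter (fun χ : IrrCharacter S => χ ∈ principalBlock M' S),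
        classInner (sing r S) (χ : S → ℂ) * conj (classInner (sing r S) (χ : S → ℂ)) =
        ((r : ℂ)⁻¹ * (r : ℂ)⁻¹) * ((χ : S → ℂ) (y * ((1 : centralizer ({y} : Set S)) : S)) *
          conj ((χ : S → ℂ) (y * ((1 : centralizer ({y} : Set S)) : S)))) := by
      intro χ hχ
      rw [coef_eq hM' hr1 hy hcl χ (Finset.mem_filter.1 hχ).2, map_mul, Complex.conj_conj, map_inv₀,
        Complex.conj_natCast, OneMemClass.coe_one, mul_one]
      ring
    rw [Finset.sum_congr rfl h3, ← Finset.mul_sum, ← Orthogonality.finsum_mem_eq_sum_filter]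
    have h1r : ¬ r ∣ orderOf (1 : centralizer ({y} : Set S)) := by
      rw [orderOf_one]
      exact fun h => hr.out.ne_one (Nat.dvd_one.1 h)
    have h4 := PrincipalSection.sum_principalBlock_section hM' y ⟨1, by rw [hy, pow_one]⟩ rfl
      (1 : centralizer ({y} : Set S)) 1 h1r h1r
    rw [h4, PrincipalSection.sum_principalBlock_of_pComplement hM' ⟨1, by rw [compl hr1 hy, pow_one]⟩ h1r h1r]
    have h5 : (Nat.card (centralizer ({y} : Set S))).factorization r = 1 := by
      apply le_antisymm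
      · by_contra h6
        apply hr1
        refine dvd_trans ?_ (card_subgroup_dvd_card (centralizer ({y} : Set S)))
        refine dvd_trans (pow_dvd_pow r (by omega : 2 ≤ (Nat.card (centralizer ({y} : Set S))).factorization r)) ?_
        exact Nat.ordProj_dvd _ _
      · rw [← hr.out.pow_dvd_iff_le_factorization Nat.card_pos.ne', pow_one]
        have := _root_.orderOf_dvd_natCard (⟨y, mem_centralizer_singleton_iff.2 rfl⟩ : centralizer ({y} : Set S))
        rwa [← orderOf_coe, hy] at this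
    rw [h5, pow_one]
    field_simp
  rw [h2, left_eq_add] at h1
  have h3 : ∀ χ : IrrCharacter S, classInner (sing r S) (χ : S → ℂ) * conj (classInner (sing r S) (χ : S → ℂ)) =
      ((Complex.normSq (classInner (sing r S) (χ : S → ℂ)) : ℝ) : ℂ) := fun χ => Complex.mul_conj _
  rw [Finset.sum_congr rfl fun χ _ => h3 χ, ← Complex.ofReal_sum, Complex.ofReal_eq_zero,
    Finset.sum_eq_zero_iff_of_nonneg fun χ _ => Complex.normSq_nonneg _] at h1
  exact Complex.normSq_eq_zero.1 (h1 χ (Finset.mem_filter.2 ⟨Finset.mem_univ _, hχ⟩))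

/-- `r a² = a χ(x y)` -/
theorem coef_mul (hr1 : ¬ r ^ 2 ∣ Nat.card S) {y : S} (hy : orderOf y = r)
    (hcl : ∀ y' : S, orderOf y' = r → IsConj y y') {x : S} (hx : ¬ r ∣ orderOf x) (hxy : Commute x y)
    (χ : IrrCharacter S) : (r : ℂ) * classInner (sing r S) (χ : S → ℂ) ^ 2 =
      classInner (sing r S) (χ : S → ℂ) * (χ : S → ℂ) (x * y) := by
  obtain ⟨M', hM'⟩ := ExistsModular.exists_isPModular hr.out
  have h8 : (r : ℂ) ≠ 0 := by exact_mod_cast hr.out.ne_zero
  by_cases hχ : χ ∈ principalBlock M' S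
  · have h1 : (χ : S → ℂ) y⁻¹ = (χ : S → ℂ) y := by
      obtain ⟨c, hc⟩ := isConj_iff.1 (hcl y⁻¹ (by rw [orderOf_inv, hy]))
      rw [← hc, Basic.irr_conj χ.2]
    have h2 : conj ((χ : S → ℂ) y) = (χ : S → ℂ) y := by
      rw [← Orthogonality.irr_apply_inv χ.2, h1]
    rw [coef_eq hM' hr1 hy hcl χ hχ, h2, hxy.eq, irr_const hM' hr1 hy hxy.symm hx χ hχ]
    field_simp
  · rw [coef_zero hM' hr1 hy hcl χ hχ]
    ring

end R

section Two

variable {S : Type u} [Group S] [Fintype S] {r : ℕ} [hr : Fact r.Prime] {M : Ideal AlgInt}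

/-- `y` as an element of `C(x)` -/
@[reducible] def yC {x y : S} (hxy : Commute x y) : centralizer ({x} : Set S) :=
  ⟨y, mem_centralizer_singleton_iff.2 hxy.symm.eq⟩

open scoped Classical in
/-- the norm of the `B₀(2)`-part -/
theorem sum_coef [Fintype (IrrCharacter S)] (hM : IsPModular 2 M) (hr2 : r ≠ 2) (hr1 : ¬ r ^ 2 ∣ Nat.card S) {y : S}
    (hy : orderOf y = r) (hcl : ∀ y' : S, orderOf y' = r → IsConj y y') {x : S} (hx : ∃ k : ℕ, orderOf x = 2 ^ k)
    (hxy : Commute x y) :
    (r : ℂ) * ∑ χ : IrrCharacter S with χ ∈ principalBlock M S, classInner (sing r S) (χ : S → ℂ) ^ 2 =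
      Nsum M r (centralizer ({x} : Set S)) (yC hxy) := by
  have : Fact (Nat.Prime 2) := ⟨Nat.prime_two⟩
  have h2r : ∀ k : ℕ, ¬ r ∣ 2 ^ k := fun k h =>
    hr2 ((Nat.prime_dvd_prime_iff_eq hr.out Nat.prime_two).1 (hr.out.dvd_of_dvd_pow h))
  have hxr : ¬ r ∣ orderOf x := by
    obtain ⟨k, hk⟩ := hx
    rw [hk]
    exact h2r k
  rw [Finset.mul_sum, Finset.sum_congr rfl fun χ _ => coef_mul hr1 hy hcl hxr hxy χ]
  have h1 := sum_block (M := M) hM (isClassFunction_sing r S) hx (yC hxy) (by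
    rw [← orderOf_coe]
    show ¬ 2 ∣ orderOf y
    rw [hy]
    exact fun h => hr2 ((Nat.prime_dvd_prime_iff_eq Nat.prime_two hr.out).1 h).symm)
  refine h1.trans ?_
  rw [Nsum_eq]
  congr 1
  refine Finset.sum_congr rfl fun s hs => ?_
  congr 1
  refine sing_congr ?_
  have hs' := (Finset.mem_filter.1 hs).2
  have hc : Commute x (s : S) := (show Commute (s : S) x from mem_centralizer_singleton_iff.1 s.2).symm
  rw [hc.orderOf_mul_eq_mul_orderOf_of_coprime, orderOf_coe]
  · constructor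
    · intro h
      exact (hr.out.dvd_mul.1 h).resolve_left hxr
    · exact fun h => h.mul_left _
  · obtain ⟨k, hk⟩ := hx
    rw [hk, orderOf_coe]
    exact Nat.Coprime.pow_left _ ((Nat.Prime.coprime_iff_not_dvd Nat.prime_two).2 hs')

/-- local integrality -/
theorem loc_sing (hM : IsPModular 2 M) (hr2 : r ≠ 2) (χ : IrrCharacter S) :
    MemLocalRing M (classInner (sing r S) (χ : S → ℂ)) := by
  obtain ⟨e, he⟩ := H612.SectionR.exists_OE (G := S)
  have hodd : Odd r := hr.out.odd_of_ne_two hr2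
  have h1 : sing r S = H612.SectionR.sec e {g : S | Odd (orderOf g) ∧ r ∣ orderOf g} := by
    funext g
    have h2 : g ^ e ∈ {g : S | Odd (orderOf g) ∧ r ∣ orderOf g} ↔ r ∣ orderOf g := by
      constructor
      · rintro ⟨-, h⟩
        exact h.trans (orderOf_pow_dvd e)
      · intro h
        refine ⟨he.odd g, ?_⟩
        obtain ⟨j, hj⟩ := he.two g
        have h3 : g ^ (2 ^ j * orderOf (g ^ e)) = 1 := by
          have h4 : g = g * (g ^ e)⁻¹ * g ^ e := by group
          have h5 : Commute (g * (g ^ e)⁻¹) (g ^ e) :=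
            (Commute.self_pow g e).mul_left ((Commute.refl (g ^ e)).inv_left)
          rw [h4, h5.mul_pow, pow_mul, hj, one_pow, one_mul, mul_comm, pow_mul, ← h4, pow_orderOf_eq_one, one_pow]
        have h4 : r ∣ 2 ^ j * orderOf (g ^ e) := h.trans (orderOf_dvd_of_pow_eq_one h3)
        refine (hr.out.dvd_mul.1 h4).resolve_left fun h5 => ?_
        exact hr2 ((Nat.prime_dvd_prime_iff_eq hr.out Nat.prime_two).1 (hr.out.dvd_of_dvd_pow h5))
    by_cases hg : r ∣ orderOf g
    · rw [sing_of_dvd hg, H612.SectionR.sec_of_mem (h2.2 hg)]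
    · rw [sing_of_not_dvd hg, H612.SectionR.sec_of_notMem (fun h => hg (h2.1 h))]
  rw [h1]
  refine H612.SectionR.loc_sec he hM ?_ (fun x hx => hx.1) χ
  rintro g x ⟨h2, h3⟩
  have : orderOf (g * x * g⁻¹) = orderOf x := by
    have := MulEquiv.orderOf_eq (MulAut.conj g) x
    simpa using this
  exact ⟨by rwa [this], by rwa [this]⟩

open scoped Classical in
/-- the degree of the `B₀(2)`-part is even -/
theorem sum_deg [Fintype (IrrCharacter S)] (hM : IsPModular 2 M) {y : S}
    (hcl : ∀ y' : S, orderOf y' = r → IsConj y y') (h2 : 2 ∣ (centralizer ({y} : Set S)).index) :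
    MemLocalIdeal M (∑ χ : IrrCharacter S with χ ∈ principalBlock M S,
      classInner (sing r S) (χ : S → ℂ) * (χ : S → ℂ) 1) := by
  have hprime : M.IsPrime := Local.isPrime_of_isPModular hM
  have hloc : ∀ g : S, MemLocalRing M (blockCoeff (principalBlock M S) g) :=
    Osima.memLocalRing_blockCoeff hM PrincipalSection.isPBlock_principalBlock
  rw [sum_block_aux, Finset.mul_sum]
  have h1 : ∀ g : S, (Nat.card S : ℂ)⁻¹ * (sing r S g * bk M S 1 g) =
      sing r S g * blockCoeff (principalBlock M S) g := by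
    intro g
    rw [Basic.blockCoeff_def, bk]
    ring
  rw [Finset.sum_congr rfl fun g _ => h1 g]
  refine PrincipalConst.memLocalIdeal_sum_classFunction ?_ fun g => ?_
  · intro g t
    show _ * _ = _ * _
    rw [isClassFunction_sing r S, Orthogonality.isClassFunction_blockCoeff]
  · by_cases hg : r ∣ orderOf g
    · rw [sing_of_dvd hg, one_mul]
      refine Local.memLocalIdeal_mul_right ?_ (hloc g)
      have h3 : 2 ∣ (centralizer ({g} : Set S)).index := by
        obtain ⟨m, hm⟩ := hg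
        have hm0 : m ≠ 0 := by
          rintro rfl
          rw [mul_zero] at hm
          exact (orderOf_pos g).ne' hm
        have h4 : orderOf (g ^ m) = r := by
          rw [orderOf_pow_of_dvd hm0 (Dvd.intro_left r hm.symm), hm,
            Nat.mul_div_cancel _ (Nat.pos_of_ne_zero hm0)]
        have h5 := hcl _ h4
        have h6 : (centralizer ({g ^ m} : Set S)).index = (centralizer ({y} : Set S)).index := by
          rw [← Induced.ncard_conj_eq_index, ← Induced.ncard_conj_eq_index]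
          congr 1
          ext z
          exact ⟨fun h => h5.trans h, fun h => h5.symm.trans h⟩
        rw [← h6] at h2
        refine h2.trans (index_dvd_of_le ?_)
        intro c hc
        rw [mem_centralizer_singleton_iff] at hc ⊢
        exact ((show Commute c g from hc).pow_right m).eq
      obtain ⟨c, hc⟩ := h3
      rw [hc, Nat.cast_mul]
      refine Local.memLocalIdeal_mul_right ?_ (Local.memLocalRing_natCast c)
      exact Local.memLocalIdeal_of_mem (M := M) hM.2.2
    · rw [sing_of_not_dvd hg, zero_mul, mul_zero]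
      exact Local.memLocalIdeal_zero

/-- **Criterion (P1N).** -/
theorem concl {G : Type u} [Group G] [Fintype G] (hM : IsPModular 2 M) {k : ℕ} (hk : H610.EB.IsK G k)
    (N : Subgroup G) [hNn : N.Normal] [Fintype N] (hidx : ∃ j : ℕ, N.index = 2 ^ j) (hr2 : r ≠ 2)
    (hr1 : ¬ r ^ 2 ∣ Nat.card N) {y : N} (hy : orderOf y = r) (hcl : ∀ y' : N, orderOf y' = r → IsConj y y')
    (h2 : 2 ∣ (centralizer ({y} : Set N)).index) {x : N} (hx : ∃ k : ℕ, orderOf x = 2 ^ k) (hxy : Commute x y)
    (hN : ¬ MemLocalIdeal M (Nsum M r (centralizer ({x} : Set N)) (yC hxy))) : H610.EB.Concl M G N k := by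
  classical
  have hprime : M.IsPrime := Local.isPrime_of_isPModular hM
  have : Finite (IrrCharacter N) := Core.finite_irr
  have := Fintype.ofFinite (IrrCharacter N)
  have hres : (fun s : N => sing r G (s : G)) = sing r N := by
    funext s
    refine sing_congr ?_
    rw [orderOf_coe]
  refine H610.EB.of_local_norm hM N hidx hk (isClassFunction_sing r G) (loc_sing hM hr2) ?_ ?_
  · intro g
    refine sing_congr ?_
    have h1 : orderOf (g ^ k) = orderOf g :=
      Nat.Coprime.orderOf_pow (Nat.Coprime.coprime_dvd_left (_root_.orderOf_dvd_natCard g) hk.coprime.symm)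
    rw [h1]
  · rw [hres]
    intro hmem
    apply hN
    rw [← sum_coef hM hr2 hr1 hy hcl hx hxy]
    refine Local.memLocalIdeal_mul_left (Local.memLocalRing_natCast r) ?_
    have h3 := sum_deg (r := r) hM hcl h2
    rw [Finset.sum_filter] at h3 ⊢
    have h4 := Local.memLocalIdeal_mul_left (Local.memLocalRing_of_memLocalIdeal h3) h3
    rw [← pow_two] at h4
    have h5 := Local.memLocalIdeal_add hmem (by convert h4)
    rw [sub_add_cancel] at h5
    convert h5

end Two

end Cfsg.Agent.H333.EB.P1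
end

-- part: H333/EB/Quo
section
/-!
# The number `Nsum` and a central `p`-subgroup (helper333)

`U` a central `p`-subgroup of `C`, `Q = C ⧸ U`.

* `bk_quot`: `bk M C y s = |U| * bk M Q y s` for `p`-regular `y, s`;
* `Nsum_quot`: `Nsum M r C y = Nsum M r Q y`.
-/

set_option autoImplicit false
set_option linter.unusedSectionVars false

namespace Cfsg.Agent.H333.EB.Quo

open Cfsg Subgroup
open Cfsg.Agent.Characters
open Cfsg.Agent.Blocks
open Cfsg.Agent.H644.CentralQuot
open Cfsg.Agent.H333.EB.P1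
open scoped ComplexConjugate

universe u v

section

variable {C : Type u} [Group C] [Fintype C] {p : ℕ} [hp : Fact p.Prime] {M : Ideal AlgInt}

theorem mem_infl (hM : IsPModular p M) {U : Subgroup C} [U.Normal] (hU : U ≤ center C) (hUp : IsPGroup p U)
    (θ : IrrCharacter (C ⧸ U)) : infl U θ ∈ principalBlock M C ↔ θ ∈ principalBlock M (C ⧸ U) :=
  sameBlock_infl_iff hM hU hUp ⟨fun _ => 1, Basic.isIrrCharacter_one⟩ θ

theorem conj_bk (x y : C) : conj (bk M C x y) = bk M C y x :=
  Orthogonality.conj_finsum_block (principalBlock M C) x y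

open scoped Classical in
theorem bk_eq_sum [Fintype (IrrCharacter C)] (x y : C) :
    bk M C x y = ∑ χ : IrrCharacter C, (if χ ∈ principalBlock M C then conj ((χ : C → ℂ) y) else 0) * (χ : C → ℂ) x := by
  rw [bk, Orthogonality.finsum_mem_eq_sum_filter, Finset.sum_filter]
  refine Finset.sum_congr rfl fun χ _ => ?_
  split_ifs
  · rw [mul_comm]
  · rw [zero_mul]

theorem push_of_dvd {U : Subgroup C} [U.Normal] (F : C → ℂ) {x : C ⧸ U} (hx : p ∣ orderOf x) :
    push p U F x = 0 := by
  let _ := Classical.decEq (C ⧸ U)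
  unfold push
  refine Finset.sum_eq_zero fun g hg => ?_
  have hg' := (Finset.mem_filter.1 hg).2
  refine Blau.regPart_of_dvd ?_
  rw [← hg'] at hx
  by_contra h
  exact not_dvd_orderOf_mk (U := U) h hx

theorem bk_quot (hM : IsPModular p M) {U : Subgroup C} [U.Normal] (hU : U ≤ center C) (hUp : IsPGroup p U)
    {y s : C} (hy : ¬ p ∣ orderOf y) (hs : ¬ p ∣ orderOf s) :
    bk M C s y = (Nat.card U : ℂ) * bk M (C ⧸ U) (QuotientGroup.mk s) (QuotientGroup.mk y) := by
  classical
  have := Fintype.ofFinite (C ⧸ U)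
  have : Finite (IrrCharacter C) := Core.finite_irr
  have := Fintype.ofFinite (IrrCharacter C)
  have : Finite (IrrCharacter (C ⧸ U)) := Core.finite_irr
  have := Fintype.ofFinite (IrrCharacter (C ⧸ U))
  -- the function on `C`
  let F : C → ℂ := fun x => bk M C x y
  have hFsum : F = ∑ χ : IrrCharacter C, (if χ ∈ principalBlock M C then conj ((χ : C → ℂ) y) else 0) • (χ : C → ℂ) := by
    funext x
    rw [Finset.sum_apply]
    exact bk_eq_sum x y
  have hFcf : IsClassFunction C F := by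
    intro g t
    show bk M C _ _ = bk M C _ _
    rw [← conj_bk y, bk_conj, conj_bk]
  have hF0 : ∀ x : C, p ∣ orderOf x → F x = 0 := by
    intro x hx
    show bk M C x y = 0
    rw [← conj_bk, show bk M C y x = 0 from Orthogonality.weak_block_orthogonality hM (principalBlock M C)
      (Osima.memLocalRing_blockCoeff hM PrincipalSection.isPBlock_principalBlock) hy hx, map_zero]
  have hinner : ∀ χ : IrrCharacter C, classInner F (χ : C → ℂ) =
      if χ ∈ principalBlock M C then conj ((χ : C → ℂ) y) else 0 := by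
    intro χ
    rw [hFsum, Core.classInner_sum_smul_irr]
  -- the function on the quotient
  have hP := isClassFunction_push' (p := p) (U := U) hFcf
  have hP0 : ∀ x : C ⧸ U, p ∣ orderOf x → push p U F x = 0 := fun x hx => push_of_dvd F hx
  have hPi : ∀ θ : IrrCharacter (C ⧸ U), classInner (push p U F) (θ : C ⧸ U → ℂ) =
      (Nat.card U : ℂ) * if θ ∈ principalBlock M (C ⧸ U) then conj ((θ : C ⧸ U → ℂ) (QuotientGroup.mk y)) else 0 := by
    intro θ
    have h1 : classInner F (infl U θ : C → ℂ) =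
        if θ ∈ principalBlock M (C ⧸ U) then conj ((θ : C ⧸ U → ℂ) (QuotientGroup.mk y)) else 0 := by
      rw [hinner]
      by_cases hθ : θ ∈ principalBlock M (C ⧸ U)
      · rw [if_pos hθ, if_pos ((mem_infl hM hU hUp θ).2 hθ)]
        rfl
      · rw [if_neg hθ, if_neg (fun h => hθ ((mem_infl hM hU hUp θ).1 h))]
    rw [← h1, Core.classInner_def, Core.classInner_def, inv_card_eq U, mul_assoc]
    congr 2
    have h2 : ∑ g : C ⧸ U, push p U F g * conj ((θ : C ⧸ U → ℂ) g) =
        ∑ g : C ⧸ U with ¬ p ∣ orderOf g, push p U F g * conj ((θ : C ⧸ U → ℂ) g) := by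
      rw [Finset.sum_filter]
      refine Finset.sum_congr rfl fun g _ => ?_
      by_cases h : p ∣ orderOf g
      · rw [if_neg (not_not.2 h), hP0 g h, zero_mul]
      · rw [if_pos h]
    have h3 : ∑ g : C, F g * conj ((infl U θ : C → ℂ) g) =
        ∑ g : C with ¬ p ∣ orderOf g, F g * conj ((infl U θ : C → ℂ) g) := by
      rw [Finset.sum_filter]
      refine Finset.sum_congr rfl fun g _ => ?_
      by_cases h : p ∣ orderOf g
      · rw [if_neg (not_not.2 h), hF0 g h, zero_mul]
      · rw [if_pos h]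
    rw [h2, h3, sum_reg_mk hU hUp]
    refine Finset.sum_congr rfl fun g hg => ?_
    rw [push_mk hU hUp F (Finset.mem_filter.1 hg).2]
    rfl
  have h4 := congrFun (Core.classFunction_eq_sum hP) (QuotientGroup.mk s)
  rw [push_mk hU hUp F hs, Finset.sum_apply] at h4
  have h5 : F s = bk M C s y := rfl
  rw [← h5, h4, bk_eq_sum, Finset.mul_sum]
  refine Finset.sum_congr rfl fun θ _ => ?_
  rw [Pi.smul_apply, smul_eq_mul, hPi, mul_assoc]

theorem orderOf_mk {U : Subgroup C} [U.Normal] (hU : U ≤ center C) (hUp : IsPGroup p U) {s : C}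
    (hs : ¬ p ∣ orderOf s) : orderOf (QuotientGroup.mk s : C ⧸ U) = orderOf s := by
  apply Nat.dvd_antisymm (orderOf_map_dvd (QuotientGroup.mk' U) s)
  apply orderOf_dvd_of_pow_eq_one
  refine eq_of_mk_eq hU hUp (p := p) ?_ ?_ ?_
  · exact fun h => hs (h.trans (orderOf_pow_dvd _))
  · rw [orderOf_one]
    exact fun h => hp.out.ne_one (Nat.dvd_one.1 h)
  · exact pow_orderOf_eq_one ((QuotientGroup.mk' U) s)

end

variable {C : Type u} [Group C] [Finite C] {M : Ideal AlgInt}

theorem Nsum_quot (hM : IsPModular 2 M) (r : ℕ) {U : Subgroup C} [U.Normal] (hU : U ≤ center C)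
    (hUp : IsPGroup 2 U) {y : C} (hy : ¬ 2 ∣ orderOf y) :
    Nsum M r C y = Nsum M r (C ⧸ U) (QuotientGroup.mk y) := by
  classical
  have : Fact (Nat.Prime 2) := ⟨Nat.prime_two⟩
  have := Fintype.ofFinite C
  have := Fintype.ofFinite (C ⧸ U)
  rw [Nsum_eq, Nsum_eq, inv_card_eq U, mul_comm (Nat.card U : ℂ), mul_assoc]
  congr 1
  rw [sum_reg_mk hU hUp, Finset.mul_sum]
  refine Finset.sum_congr rfl fun s hs => ?_
  have hs' := (Finset.mem_filter.1 hs).2
  rw [bk_quot hM hU hUp hs' hy, sing_congr (g := s) (h := (QuotientGroup.mk s : C ⧸ U)) (by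
    rw [orderOf_mk (p := 2) hU hUp hs'])]
  ring

end Cfsg.Agent.H333.EB.Quo
end

-- part: H333/EB/L34
section
/-!
# `Nsum` for a group of order 20160 of characteristic two type (helper333)

`|Q| = 20160`, `C_Q(y) = ⟨y⟩` for `y` of order 5, `C_Q(t)` a 2-group for the involutions `t`.

* `vanish`: the characters outside `B₀(2)` vanish at the 2-elements `≠ 1`;
* `deg_eq`: they have degree 64;
* `avg`: the sum of a class function over the elements of order `p`, `p ∥ |Q|`;
* `coef_mem`: the coefficients of `sing 5 Q` at the characters outside `B₀(2)` are in the local ideal;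
* `main`: `Nsum M 5 Q y` is not in the local ideal.
-/

set_option autoImplicit false
set_option linter.unusedSectionVars false

namespace Cfsg.Agent.H333.EB.L34

open Cfsg Subgroup
open Cfsg.Agent.Characters
open Cfsg.Agent.Blocks
open Cfsg.Agent.H333.EB.P1 Cfsg.Agent.H333.EB.Quo
open scoped ComplexConjugate

universe u v

section

variable {Q : Type u} [Group Q] [Fintype Q] {M : Ideal AlgInt}

/-- the characters outside the principal block vanish at a `p`-element whose centralizer is a `p`-group -/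
theorem vanish {p : ℕ} [hp : Fact p.Prime] (hM : IsPModular p M) {t : Q} (ht : ∃ k : ℕ, orderOf t = p ^ k)
    (hC : IsPGroup p (centralizer ({t} : Set Q))) (χ : IrrCharacter Q) (hχ : χ ∉ principalBlock M Q) :
    (χ : Q → ℂ) t = 0 := by
  classical
  have : Finite (IrrCharacter Q) := Core.finite_irr
  have := Fintype.ofFinite (IrrCharacter Q)
  have h1p : ¬ p ∣ orderOf (1 : centralizer ({t} : Set Q)) := by
    rw [orderOf_one]
    exact fun h => hp.out.ne_one (Nat.dvd_one.1 h)
  have h1 := PrincipalSection.sum_principalBlock_section hM t ht rfl (1 : centralizer ({t} : Set Q)) 1 h1p h1p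
  obtain ⟨n, hn⟩ := IsPGroup.iff_card.1 hC
  have hcore : pPrimeCore p (centralizer ({t} : Set Q)) = ⊥ := by
    rw [← card_eq_one]
    have h2 := (Lib.Cores.pPrimeCore_coprime (G := centralizer ({t} : Set Q)) p)
    have h3 := card_subgroup_dvd_card (pPrimeCore p (centralizer ({t} : Set Q)))
    rw [hn] at h3
    exact Nat.eq_one_of_dvd_coprimes (h2.pow_right n) dvd_rfl h3
  rw [PrincipalSection.sum_principalBlock_of_pComplement hM ⟨n, by rw [hcore, index_bot, hn]⟩ h1p h1p,
    Orthogonality.finsum_mem_eq_sum_filter, OneMemClass.coe_one, mul_one] at h1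
  have h4 : p ^ (Nat.card (centralizer ({t} : Set Q))).factorization p = Nat.card (centralizer ({t} : Set Q)) := by
    rw [hn, hp.out.factorization_pow]
    simp
  rw [h4] at h1
  have h5 := H686.CharKit.col_orth t t
  rw [if_pos (IsConj.refl t), ← h1,
    ← Finset.sum_filter_add_sum_filter_not Finset.univ (fun χ : IrrCharacter Q => χ ∈ principalBlock M Q),
    add_eq_left] at h5
  have h3 : ∀ χ : IrrCharacter Q, (χ : Q → ℂ) t * conj ((χ : Q → ℂ) t) =
      ((Complex.normSq ((χ : Q → ℂ) t) : ℝ) : ℂ) := fun χ => Complex.mul_conj _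
  rw [Finset.sum_congr rfl fun χ _ => h3 χ, ← Complex.ofReal_sum, Complex.ofReal_eq_zero,
    Finset.sum_eq_zero_iff_of_nonneg fun χ _ => Complex.normSq_nonneg _] at h5
  exact Complex.normSq_eq_zero.1 (h5 χ (Finset.mem_filter.2 ⟨Finset.mem_univ _, hχ⟩))

/-- the characters outside the principal block have degree 64 -/
theorem deg_eq (hM : IsPModular 2 M) (hQ : Nat.card Q = 20160)
    (h2 : ∀ t : Q, orderOf t = 2 → IsPGroup 2 (centralizer ({t} : Set Q))) (χ : IrrCharacter Q)
    (hχ : χ ∉ principalBlock M Q) : charDegree (χ : Q → ℂ) = 64 := by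
  classical
  have : Fact (Nat.Prime 2) := ⟨Nat.prime_two⟩
  have : Finite (IrrCharacter Q) := Core.finite_irr
  have := Fintype.ofFinite (IrrCharacter Q)
  -- vanishing
  have hv : ∀ t : Q, t ≠ 1 → (∃ k : ℕ, orderOf t = 2 ^ k) → (χ : Q → ℂ) t = 0 := by
    rintro t ht ⟨k, hk⟩
    refine vanish hM ⟨k, hk⟩ ?_ χ hχ
    rcases k with _ | k
    · rw [pow_zero, orderOf_eq_one_iff] at hk
      exact absurd hk ht
    · have h3 : orderOf (t ^ 2 ^ k) = 2 := by
        rw [orderOf_pow_of_dvd (by positivity) ⟨2, by rw [hk, pow_succ]⟩, hk, pow_succ,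
          Nat.mul_div_cancel_left _ (by positivity)]
      refine (h2 _ h3).to_le ?_
      intro c hc
      rw [mem_centralizer_singleton_iff] at hc ⊢
      exact ((show Commute c t from hc).pow_right _).eq
  obtain ⟨P⟩ : Nonempty (Sylow 2 Q) := inferInstance
  have hP : Nat.card P = 64 := by
    rw [P.card_eq_multiplicity, hQ]
    have : (20160 : ℕ).factorization 2 = 6 := by
      have h3 : (20160 : ℕ) = 2 ^ 6 * 315 := by norm_num
      rw [h3, Nat.factorization_mul (by norm_num) (by norm_num), Finsupp.add_apply, Nat.prime_two.factorization_pow,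
        Nat.factorization_eq_zero_of_not_dvd (by norm_num : ¬ 2 ∣ 315)]
      simp
    rw [this]
    norm_num
  obtain ⟨m, hm⟩ := M22.BDataOfBlocks.exists_sum_eq (Core.isIrr_isCharacter χ.2) (P : Subgroup Q)
  have h1 : ∑ x : (P : Subgroup Q), (χ : Q → ℂ) x = (χ : Q → ℂ) 1 := by
    rw [Finset.sum_eq_single (1 : (P : Subgroup Q))]
    · rw [OneMemClass.coe_one]
    · intro x _ hx
      refine hv x (fun h => hx (Subtype.ext h)) ?_
      obtain ⟨k, hk⟩ := (IsPGroup.iff_orderOf.1 P.isPGroup') x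
      exact ⟨k, by rw [← hk]; exact (orderOf_coe x)⟩
    · intro h
      exact absurd (Finset.mem_univ _) h
  have hdeg : (χ : Q → ℂ) 1 = (charDegree (χ : Q → ℂ) : ℂ) := Basic.irr_one_eq_charDegree χ.2
  rw [h1, hdeg] at hm
  have hP' : Nat.card (P : Subgroup Q) = 64 := hP
  rw [hP'] at hm
  have h3 : charDegree (χ : Q → ℂ) = 64 * m := by exact_mod_cast hm
  have h4 := CyclicUpper.charDegree_dvd χ.2
  rw [hQ, h3] at h4
  have h5 : charDegree (χ : Q → ℂ) ^ 2 ≤ 20160 := by
    rw [← hQ, ← H686.CharKit.sum_deg_sq]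
    exact Finset.single_le_sum (f := fun χ : IrrCharacter Q => charDegree (χ : Q → ℂ) ^ 2) (fun _ _ => Nat.zero_le _)
      (Finset.mem_univ χ)
  rw [h3] at h5 ⊢
  have h6 : m ≤ 2 := by
    by_contra h7
    have h8 : 3 ≤ m := by omega
    nlinarith only [h5, h7]
  interval_cases m
  · norm_num at h4
  · norm_num
  · norm_num at h4

/-- the sum of a class function over the elements of order `p`, `p ∥ |Q|` -/
theorem avg {p : ℕ} [hp : Fact p.Prime] (hp2 : ¬ p ^ 2 ∣ Nat.card Q) (hself : ∀ g : Q, p ∣ orderOf g → orderOf g = p)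
    {y : Q} (hy : orderOf y = p) [Fintype (zpowers y)] {f : Q → ℂ} (hf : IsClassFunction Q f) :
    (Nat.card (normalizer ((zpowers y : Subgroup Q) : Set Q)) : ℂ) * ∑ g : Q, sing p Q g * f g =
      (Nat.card Q : ℂ) * (∑ s : zpowers y, f s - f 1) := by
  classical
  have h1p : ¬ p ∣ 1 := fun h => hp.out.ne_one (Nat.dvd_one.1 h)
  -- the double sum
  have hA : ∀ g : Q, ∑ s : Q, (if s ≠ 1 ∧ g⁻¹ * s * g ∈ zpowers y then f s else 0) = ∑ s : zpowers y, f s - f 1 := by
    intro g
    have h1 : ∑ s : Q, (if s ≠ 1 ∧ g⁻¹ * s * g ∈ zpowers y then f s else 0) =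
        ∑ s : Q, (if s ≠ 1 ∧ s ∈ zpowers y then f s else 0) := by
      refine Fintype.sum_equiv (MulAut.conj g⁻¹).toEquiv _ _ fun s => ?_
      have h2 : (MulAut.conj g⁻¹).toEquiv s = g⁻¹ * s * g := by simp only [_root_.map_inv, _root_.MulEquiv.toEquiv_eq_coe, _root_.EquivLike.coe_coe, _root_.MulAut.inv_apply, _root_.MulAut.conj_symm_apply]
      have h3 : f (g⁻¹ * s * g) = f s := by
        have := hf s g⁻¹
        rwa [inv_inv] at this
      have h4 : g⁻¹ * s * g ≠ 1 ↔ s ≠ 1 := by
        rw [not_iff_not]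
        constructor
        · intro h
          have : s = g * (g⁻¹ * s * g) * g⁻¹ := by group
          rw [this, h]
          group
        · rintro rfl
          group
      rw [h2, h3]
      exact if_congr (and_congr_left fun _ => h4.symm) rfl rfl
    rw [h1, ← Finset.sum_filter]
    have h5 : ∑ s : zpowers y, f s = ∑ s : Q with s ∈ zpowers y, f s := by
      symm
      exact Finset.sum_subtype _ (by simp) _
    rw [h5, ← Finset.sum_filter_add_sum_filter_not (Finset.univ.filter (· ∈ zpowers y)) (fun s : Q => s ≠ 1),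
      Finset.filter_filter, Finset.filter_filter]
    have h6 : Finset.univ.filter (fun s : Q => s ∈ zpowers y ∧ ¬ s ≠ 1) = {1} := by
      ext s
      rw [Finset.mem_filter, Finset.mem_singleton, not_not]
      exact ⟨fun h => h.2.2, fun h => ⟨Finset.mem_univ _, by rw [h]; exact one_mem _, h⟩⟩
    rw [h6, Finset.sum_singleton, add_sub_cancel_right]
    refine Finset.sum_congr ?_ fun _ _ => rfl
    ext s
    simp only [Finset.mem_filter, Finset.mem_univ, true_and]
    exact and_comm
  have hB : ∀ s : Q, ∑ g : Q, (if s ≠ 1 ∧ g⁻¹ * s * g ∈ zpowers y then f s else 0) =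
      (Nat.card (normalizer ((zpowers y : Subgroup Q) : Set Q)) : ℂ) * (sing p Q s * f s) := by
    intro s
    by_cases hs : p ∣ orderOf s
    · have hsp := hself s hs
      have hs1 : s ≠ 1 := by
        rintro rfl
        rw [orderOf_one] at hs
        exact h1p hs
      rw [sing_of_dvd hs, one_mul, ← Finset.sum_filter, Finset.sum_const, nsmul_eq_mul]
      congr 2
      obtain ⟨c, hc⟩ := CpAutON.Gen.conj_into hp2 hsp hy
      have hw : orderOf (c * s * c⁻¹) = p := by
        have := MulEquiv.orderOf_eq (MulAut.conj c) s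
        rw [← hsp, ← this]
        rfl
      have hw1 : c * s * c⁻¹ ≠ 1 := by
        intro h
        rw [h, orderOf_one] at hw
        exact hp.out.ne_one hw.symm
      have hwy := SmallSimple.SelfCentPrime.zpowers_eq_of_mem hy hc hw1
      have hfin : Nat.card (normalizer ((zpowers y : Subgroup Q) : Set Q)) =
          (Finset.univ.filter (fun n : Q => n ∈ normalizer ((zpowers y : Subgroup Q) : Set Q))).card := by
        rw [← Fintype.card_subtype, ← Nat.card_eq_fintype_card]
      rw [hfin]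
      refine Finset.card_bij' (fun g _ => g⁻¹ * c⁻¹) (fun n _ => c⁻¹ * n⁻¹) ?_ ?_ ?_ ?_
      · intro g hg
        have hg' := (Finset.mem_filter.1 hg).2.2
        refine Finset.mem_filter.2 ⟨Finset.mem_univ _, ?_⟩
        rw [← hwy]
        refine H474.ONC.mem_normalizer_of_conj ?_
        have e : g⁻¹ * c⁻¹ * (c * s * c⁻¹) * (g⁻¹ * c⁻¹)⁻¹ = g⁻¹ * s * g := by group
        rw [e, hwy]
        exact hg'
      · intro n hn
        have hn' := (Finset.mem_filter.1 hn).2
        refine Finset.mem_filter.2 ⟨Finset.mem_univ _, hs1, ?_⟩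
        have e : (c⁻¹ * n⁻¹)⁻¹ * s * (c⁻¹ * n⁻¹) = n * (c * s * c⁻¹) * n⁻¹ := by group
        rw [e]
        exact (mem_normalizer_iff.1 hn' _).1 hc
      · intro g _
        group
      · intro n _
        group
    · rw [sing_of_not_dvd hs, zero_mul, mul_zero]
      refine Finset.sum_eq_zero fun g _ => ?_
      rw [if_neg]
      rintro ⟨h1, h2⟩
      have h3 : orderOf (g⁻¹ * s * g) = orderOf s := by
        have := MulEquiv.orderOf_eq (MulAut.conj g⁻¹) s
        simpa only [_root_.map_inv, _root_.MulAut.inv_apply, _root_.MulAut.conj_symm_apply] using this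
      have h4 : g⁻¹ * s * g ≠ 1 := by
        intro h
        apply h1
        have : s = g * (g⁻¹ * s * g) * g⁻¹ := by group
        rw [this, h]
        group
      have h5 := SmallSimple.SelfCentPrime.zpowers_eq_of_mem hy h2 h4
      have h6 : orderOf (g⁻¹ * s * g) = p := by
        rw [← Nat.card_zpowers, h5, Nat.card_zpowers, hy]
      rw [h3] at h6
      exact hs (by rw [h6])
  calc (Nat.card (normalizer ((zpowers y : Subgroup Q) : Set Q)) : ℂ) * ∑ g : Q, sing p Q g * f g
      = ∑ s : Q, ∑ g : Q, (if s ≠ 1 ∧ g⁻¹ * s * g ∈ zpowers y then f s else 0) := by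
        rw [Finset.mul_sum]
        exact Finset.sum_congr rfl fun s _ => (hB s).symm
    _ = ∑ g : Q, ∑ s : Q, (if s ≠ 1 ∧ g⁻¹ * s * g ∈ zpowers y then f s else 0) := Finset.sum_comm
    _ = (Nat.card Q : ℂ) * (∑ s : zpowers y, f s - f 1) := by
        rw [Finset.sum_congr rfl fun g _ => hA g, Finset.sum_const, nsmul_eq_mul, Finset.card_univ,
          Nat.card_eq_fintype_card]

/-! ### Order 20160 -/

theorem self_of (h5 : ∀ y : Q, orderOf y = 5 → Nat.card (centralizer ({y} : Set Q)) = 5) (g : Q)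
    (hg : 5 ∣ orderOf g) : orderOf g = 5 := by
  obtain ⟨m, hm⟩ := hg
  have hm0 : m ≠ 0 := by
    rintro rfl
    rw [mul_zero] at hm
    exact (orderOf_pos g).ne' hm
  have h4 : orderOf (g ^ m) = 5 := by
    rw [orderOf_pow_of_dvd hm0 (Dvd.intro_left 5 hm.symm), hm, Nat.mul_div_cancel _ (Nat.pos_of_ne_zero hm0)]
  have h6 := _root_.orderOf_dvd_natCard (⟨g, mem_centralizer_singleton_iff.2 ((Commute.self_pow g m)).eq⟩ :
    centralizer ({g ^ m} : Set Q))
  rw [h5 _ h4, ← orderOf_coe] at h6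
  have h6' : orderOf g ∣ 5 := h6
  exact Nat.dvd_antisymm h6' ⟨m, hm⟩

theorem not_25 (hQ : Nat.card Q = 20160) : ¬ 5 ^ 2 ∣ Nat.card Q := by
  rw [hQ]
  norm_num

theorem card_norm (hQ : Nat.card Q = 20160)
    (h5 : ∀ y : Q, orderOf y = 5 → Nat.card (centralizer ({y} : Set Q)) = 5) {y : Q} (hy : orderOf y = 5) :
    Nat.card (normalizer ((zpowers y : Subgroup Q) : Set Q)) = 10 := by
  have : Fact (Nat.Prime 5) := ⟨by norm_num⟩
  obtain ⟨n, hn, hcard⟩ := CpAutON.Gen.card_eq (not_25 hQ) hy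
  have h1 := CpAutON.Gen.card_normalizer y
  have h2 := H474.ONC.range_dvd hy
  rw [h5 y hy, hQ] at hcard
  rw [h5 y hy] at h1
  rw [h1]
  generalize Nat.card ↥((zpowers y).normalizerMonoidHom).range = ρ at hcard h2
  have h3 : ρ ≤ 4 := Nat.le_of_dvd (by norm_num) h2
  interval_cases ρ
  · norm_num at h2
  · omega
  · norm_num
  · norm_num at h2
  · omega

theorem coef_formula (hQ : Nat.card Q = 20160)
    (h5 : ∀ y : Q, orderOf y = 5 → Nat.card (centralizer ({y} : Set Q)) = 5) {y : Q} (hy : orderOf y = 5)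
    (χ : IrrCharacter Q) : ∃ m : ℕ, classInner (sing 5 Q) (χ : Q → ℂ) =
      (5 * (m : ℂ) - charDegree (χ : Q → ℂ)) / 10 := by
  classical
  have : Fact (Nat.Prime 5) := ⟨by norm_num⟩
  have := Fintype.ofFinite (zpowers y)
  obtain ⟨m, hm⟩ := M22.BDataOfBlocks.exists_sum_eq (Core.isIrr_isCharacter χ.2) (zpowers y)
  rw [Nat.card_zpowers, hy] at hm
  refine ⟨m, ?_⟩
  have h1 := avg (not_25 hQ) (self_of h5) hy (f := fun g => conj ((χ : Q → ℂ) g)) (by
    intro g t
    show conj _ = conj _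
    rw [Basic.irr_conj χ.2])
  rw [card_norm hQ h5 hy] at h1
  have h2 : ∑ s : zpowers y, conj ((χ : Q → ℂ) s) = 5 * (m : ℂ) := by
    rw [← map_sum, hm, map_mul, Complex.conj_natCast, Complex.conj_natCast]
    norm_num
  have h3 : conj ((χ : Q → ℂ) 1) = (charDegree (χ : Q → ℂ) : ℂ) := by
    rw [Basic.irr_one_eq_charDegree χ.2, Complex.conj_natCast]
  have h1' : ((10 : ℕ) : ℂ) * ∑ g : Q, sing 5 Q g * conj ((χ : Q → ℂ) g) =
      (Nat.card Q : ℂ) * (∑ s : zpowers y, conj ((χ : Q → ℂ) s) - conj ((χ : Q → ℂ) 1)) := h1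
  rw [h2, h3] at h1'
  have hc : (Nat.card Q : ℂ) ≠ 0 := by exact_mod_cast Nat.card_pos.ne'
  rw [Core.classInner_def, eq_div_iff (by norm_num)]
  push_cast at h1'
  have h4 : (Nat.card Q : ℂ)⁻¹ * (∑ g : Q, sing 5 Q g * conj ((χ : Q → ℂ) g)) * 10 =
      (Nat.card Q : ℂ)⁻¹ * (10 * ∑ g : Q, sing 5 Q g * conj ((χ : Q → ℂ) g)) := by ring
  rw [h4, h1', ← mul_assoc, inv_mul_cancel₀ hc, one_mul]

theorem coef_one (hQ : Nat.card Q = 20160)
    (h5 : ∀ y : Q, orderOf y = 5 → Nat.card (centralizer ({y} : Set Q)) = 5) {y : Q} (hy : orderOf y = 5) :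
    classInner (sing 5 Q) (fun _ : Q => (1 : ℂ)) = 4 / 10 := by
  classical
  have : Fact (Nat.Prime 5) := ⟨by norm_num⟩
  have := Fintype.ofFinite (zpowers y)
  have h1 := avg (not_25 hQ) (self_of h5) hy (f := fun _ => (1 : ℂ)) (fun _ _ => rfl)
  rw [card_norm hQ h5 hy] at h1
  have h2 : ∑ s : zpowers y, (1 : ℂ) = 5 := by
    rw [Finset.sum_const, Finset.card_univ, ← Nat.card_eq_fintype_card, Nat.card_zpowers, hy]
    norm_num
  have h1' : ((10 : ℕ) : ℂ) * ∑ g : Q, sing 5 Q g * (1 : ℂ) = (Nat.card Q : ℂ) * (∑ s : zpowers y, (1 : ℂ) - 1) := h1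
  rw [h2] at h1'
  have hc : (Nat.card Q : ℂ) ≠ 0 := by exact_mod_cast Nat.card_pos.ne'
  rw [Core.classInner_def, eq_div_iff (by norm_num), map_one]
  push_cast at h1'
  have h4 : (Nat.card Q : ℂ)⁻¹ * (∑ g : Q, sing 5 Q g * (1 : ℂ)) * 10 =
      (Nat.card Q : ℂ)⁻¹ * (10 * ∑ g : Q, sing 5 Q g * (1 : ℂ)) := by ring
  rw [h4, h1', ← mul_assoc, inv_mul_cancel₀ hc, one_mul]
  norm_num

/-- two terms of Bessel's inequality -/
theorem bessel (hQ : Nat.card Q = 20160)
    (h5 : ∀ y : Q, orderOf y = 5 → Nat.card (centralizer ({y} : Set Q)) = 5) {y : Q} (hy : orderOf y = 5)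
    (χ : IrrCharacter Q) (hχ : (χ : Q → ℂ) ≠ fun _ => 1) :
    Complex.normSq (classInner (sing 5 Q) (χ : Q → ℂ)) ≤ 24 / 100 := by
  classical
  have : Finite (IrrCharacter Q) := Core.finite_irr
  have := Fintype.ofFinite (IrrCharacter Q)
  have h1 := Core.classInner_eq_sum (isClassFunction_sing 5 Q) (isClassFunction_sing 5 Q)
  have h2 : classInner (sing 5 Q) (sing 5 Q) = 4 / 10 := by
    rw [← coef_one hQ h5 hy, Core.classInner_def, Core.classInner_def]
    congr 1
    refine Finset.sum_congr rfl fun g _ => ?_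
    rw [sing_mul_conj, map_one, mul_one]
  have h3 : ∀ χ : IrrCharacter Q, classInner (sing 5 Q) (χ : Q → ℂ) * conj (classInner (sing 5 Q) (χ : Q → ℂ)) =
      ((Complex.normSq (classInner (sing 5 Q) (χ : Q → ℂ)) : ℝ) : ℂ) := fun χ => Complex.mul_conj _
  rw [h2, Finset.sum_congr rfl fun χ _ => h3 χ, ← Complex.ofReal_sum] at h1
  have h4 : ∑ χ : IrrCharacter Q, Complex.normSq (classInner (sing 5 Q) (χ : Q → ℂ)) = 4 / 10 := by
    have h5 : (((4 / 10 : ℝ)) : ℂ) = ((∑ χ : IrrCharacter Q, Complex.normSq (classInner (sing 5 Q) (χ : Q → ℂ)) : ℝ) : ℂ) := by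
      rw [← h1]
      push_cast
      rfl
    exact (Complex.ofReal_injective h5).symm
  let χ₁ : IrrCharacter Q := ⟨fun _ => 1, Basic.isIrrCharacter_one⟩
  have hne : χ ≠ χ₁ := fun h => hχ (congrArg Subtype.val h)
  have h6 : Complex.normSq (classInner (sing 5 Q) (χ₁ : Q → ℂ)) = 16 / 100 := by
    have : classInner (sing 5 Q) (χ₁ : Q → ℂ) = ((4 / 10 : ℝ) : ℂ) := by
      rw [show (χ₁ : Q → ℂ) = fun _ => 1 from rfl, coef_one hQ h5 hy]
      push_cast
      rfl
    rw [this, Complex.normSq_ofReal]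
    norm_num
  have h7 : Complex.normSq (classInner (sing 5 Q) (χ : Q → ℂ)) + Complex.normSq (classInner (sing 5 Q) (χ₁ : Q → ℂ)) ≤
      ∑ χ : IrrCharacter Q, Complex.normSq (classInner (sing 5 Q) (χ : Q → ℂ)) := by
    rw [← Finset.sum_pair (f := fun χ : IrrCharacter Q => Complex.normSq (classInner (sing 5 Q) (χ : Q → ℂ))) hne]
    exact Finset.sum_le_sum_of_subset_of_nonneg (Finset.subset_univ _) fun _ _ _ => Complex.normSq_nonneg _
  rw [h4, h6] at h7
  linarith only [h7]

/-- the coefficients at the characters outside the principal block -/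
theorem coef_mem (hM : IsPModular 2 M) (hQ : Nat.card Q = 20160)
    (h5 : ∀ y : Q, orderOf y = 5 → Nat.card (centralizer ({y} : Set Q)) = 5)
    (h2 : ∀ t : Q, orderOf t = 2 → IsPGroup 2 (centralizer ({t} : Set Q))) {y : Q} (hy : orderOf y = 5)
    (χ : IrrCharacter Q) (hχ : χ ∉ principalBlock M Q) :
    MemLocalIdeal M (classInner (sing 5 Q) (χ : Q → ℂ)) := by
  have hprime : M.IsPrime := Local.isPrime_of_isPModular hM
  have : Fact (Nat.Prime 5) := ⟨by norm_num⟩
  have hχ1 : (χ : Q → ℂ) ≠ fun _ => 1 := by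
    intro h
    apply hχ
    have h1 : χ = ⟨fun _ => 1, Basic.isIrrCharacter_one⟩ := Subtype.ext h
    rw [h1]
    exact PrincipalSection.one_mem_principalBlock
  obtain ⟨m, hm⟩ := coef_formula hQ h5 hy χ
  have hloc := loc_sing (r := 5) hM (by norm_num) χ
  have hb := bessel hQ h5 hy χ hχ1
  rw [deg_eq hM hQ h2 χ hχ] at hm
  rw [hm] at hloc hb ⊢
  have h3 : Complex.normSq ((5 * (m : ℂ) - ((64 : ℕ) : ℂ)) / 10) = (5 * (m : ℝ) - 64) ^ 2 / 100 := by
    have : (5 * (m : ℂ) - ((64 : ℕ) : ℂ)) / 10 = (((5 * (m : ℝ) - 64) / 10 : ℝ) : ℂ) := by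
      push_cast
      ring
    rw [this, Complex.normSq_ofReal]
    ring
  rw [h3] at hb
  have h4 : (5 * (m : ℝ) - 64) ^ 2 ≤ 24 := by linarith only [hb]
  have h5' : (5 * (m : ℤ) - 64) ^ 2 ≤ 24 := by exact_mod_cast h4
  have h6 : m = 12 ∨ m = 13 := by
    have h7 : 5 * (m : ℤ) - 64 ≤ 4 := by nlinarith only [h5']
    have h8 : -4 ≤ 5 * (m : ℤ) - 64 := by nlinarith only [h5']
    omega
  rcases h6 with rfl | rfl
  · have h7 : (5 * ((12 : ℕ) : ℂ) - ((64 : ℕ) : ℂ)) / 10 = ((-2 : ℤ) : ℂ) * ((5 : ℕ) : ℂ)⁻¹ := by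
      push_cast
      norm_num
    rw [h7]
    refine Local.memLocalIdeal_mul_right ?_ (Local.memLocalRing_inv_natCast hM (by norm_num))
    rw [Local.memLocalIdeal_intCast_iff hM]
    norm_num
  · exfalso
    have h7 : ((1 : ℤ) : ℂ) = ((10 : ℕ) : ℂ) * ((5 * ((13 : ℕ) : ℂ) - ((64 : ℕ) : ℂ)) / 10) := by
      push_cast
      norm_num
    have h8 : MemLocalIdeal M ((1 : ℤ) : ℂ) := by
      rw [h7]
      refine Local.memLocalIdeal_mul_right ?_ hloc
      rw [Local.memLocalIdeal_natCast_iff hM]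
      norm_num
    rw [Local.memLocalIdeal_intCast_iff hM] at h8
    norm_num at h8

/-- **The number of `Q`.** -/
theorem main (hM : IsPModular 2 M) (hQ : Nat.card Q = 20160)
    (h5 : ∀ y : Q, orderOf y = 5 → Nat.card (centralizer ({y} : Set Q)) = 5)
    (h2 : ∀ t : Q, orderOf t = 2 → IsPGroup 2 (centralizer ({t} : Set Q))) {y : Q} (hy : orderOf y = 5) :
    ¬ MemLocalIdeal M (Nsum M 5 Q y) := by
  classical
  have hprime : M.IsPrime := Local.isPrime_of_isPModular hM
  have : Finite (IrrCharacter Q) := Core.finite_irr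
  have := Fintype.ofFinite (IrrCharacter Q)
  have h1 : Nsum M 5 Q y = ∑ χ : IrrCharacter Q with χ ∈ principalBlock M Q,
      classInner (sing 5 Q) (χ : Q → ℂ) * (χ : Q → ℂ) y := by
    rw [sum_block_aux, Nsum_eq]
    congr 1
    rw [Finset.sum_filter]
    refine Finset.sum_congr rfl fun s _ => ?_
    by_cases hs : 2 ∣ orderOf s
    · rw [if_neg (not_not.2 hs), sing_of_not_dvd, zero_mul]
      intro h3
      rw [self_of h5 s h3] at hs
      norm_num at hs
    · rw [if_pos hs]
  have h3 : ∑ χ : IrrCharacter Q, classInner (sing 5 Q) (χ : Q → ℂ) * (χ : Q → ℂ) y = 1 := by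
    have h4 := congrFun (Core.classFunction_eq_sum (isClassFunction_sing 5 Q)) y
    rw [sing_of_dvd (by rw [hy]), Finset.sum_apply] at h4
    rw [h4]
    rfl
  rw [← Finset.sum_filter_add_sum_filter_not Finset.univ (fun χ : IrrCharacter Q => χ ∈ principalBlock M Q),
    ← h1] at h3
  have h4 : MemLocalIdeal M (∑ χ : IrrCharacter Q with χ ∉ principalBlock M Q,
      classInner (sing 5 Q) (χ : Q → ℂ) * (χ : Q → ℂ) y) := by
    refine Local.memLocalIdeal_sum fun χ hχ => ?_
    refine Local.memLocalIdeal_mul_right (coef_mem hM hQ h5 h2 hy χ (Finset.mem_filter.1 hχ).2) ?_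
    exact Local.memLocalRing_of_isIntegral (Central.isIntegral_irr χ.2 y)
  intro h6
  have h7 := Local.memLocalIdeal_add h6 h4
  rw [h3] at h7
  exact Local.not_memLocalIdeal_one h7

end

end Cfsg.Agent.H333.EB.L34
end

private theorem dce_3fbeec76321e : _root_.True := by
  try have : _root_.True := by simp only [_root_.Cfsg.Agent.H333.EB.P1.bk.eq_1]
  try have : _root_.True := by simp only [_root_.Cfsg.Agent.H333.EB.P1.Nsum.eq_1]
  exact _root_.True.intro
end

-- part: H273/EB/MTwelve_mg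
section
prune_inst 0x2040004000000000001000001c068600000000080000080003460680440000000920a800110000002004003c0000000000000000000000000000011800800000140000000008020000000000000000000000000000000000000000000000000000000
set_option linter.all false
open scoped Cfsg.Agent.FastGrp

-- part: H273/EB/Four
section
/-!
# TEAM EB: 4-transitive groups (helper273)

* `four_irr` : the characters `chA = (π - 1)(π - 2)/2 - ...` (alternating square of `π - 1`) and `chB` (2-sets minus
  points) of a 4-transitive group are irreducible.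
* `concl_of_four` : if `G` acts on `X`, `N` is 4-transitive on `X` and `n (n - 3) / 2` is even, the conclusion of S4522.
-/

set_option autoImplicit false
set_option linter.unusedSectionVars false

open Cfsg

namespace Cfsg.Agent.H273.EB

open Cfsg.Agent.Characters.Core Cfsg.Agent.H852.IMPerm Cfsg.Agent.H610.EB Cfsg.Agent.H694
open scoped ComplexConjugate

section four

variable {G : Type*} [Group G] (X : Type*) [MulAction G X]

/-- the alternating square of `π - 1` -/
noncomputable def chA (g : G) : ℂ := ((fx X g : ℂ) * (fx X g : ℂ) - 3 * (fx X g : ℂ) + 2 - (nn X g : ℂ)) / 2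

/-- the 2-sets minus the points -/
noncomputable def chB (g : G) : ℂ := ((fx X g : ℂ) * (fx X g : ℂ) - 3 * (fx X g : ℂ) + (nn X g : ℂ)) / 2

variable [Finite X] [Fintype G]

theorem four_irr [MulAction.IsMultiplyPretransitive G X 4] (hX : 4 ≤ Nat.card X) :
    IsIrrCharacter G (chA (G := G) X) ∧ IsIrrCharacter G (chB (G := G) X) ∧
      chB X (1 : G) = ((Nat.card X * (Nat.card X - 3) / 2 : ℕ) : ℂ) := by
  have h3 : MulAction.IsMultiplyPretransitive G X 3 := MulAction.isMultiplyPretransitive_of_le (n := 4) (by norm_num) hX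
  have h2 : MulAction.IsMultiplyPretransitive G X 2 := MulAction.isMultiplyPretransitive_of_le (n := 4) (by norm_num) hX
  have h1 : MulAction.IsMultiplyPretransitive G X 1 := MulAction.isMultiplyPretransitive_of_le (n := 4) (by norm_num) hX
  have ht : MulAction.IsPretransitive G X := by
    rw [← MulAction.is_one_pretransitive_iff]
    exact h1
  set P : G → ℂ := fun g => (fx X g : ℂ) with hP
  set T : G → ℂ := fun g => (nn X g : ℂ) with hT
  have a1 : avg (fun g => P g) = 1 := by
    have := avg_desc (G := G) X 1 (by omega)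
    simpa using this
  have a2 : avg (fun g => P g * (P g - 1)) = 1 := by
    have := avg_desc (G := G) X 2 (by omega)
    simp only [cast_desc_two] at this
    exact this
  have a3 : avg (fun g => P g * (P g - 1) * (P g - 2)) = 1 := by
    have := avg_desc (G := G) X 3 (by omega)
    simp only [cast_desc_three] at this
    exact this
  have a4 : avg (fun g => P g * (P g - 1) * (P g - 2) * (P g - 3)) = 1 := by
    have := avg_desc (G := G) X 4 (by omega)
    simp only [cast_desc_four] at this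
    exact this
  have b1 : avg (fun g => T g) = 1 := avg_nn X (by omega)
  have b2 : avg (fun g => P g * T g) = 1 := avg_fx_nn X (by omega)
  have a0 : avg (fun _ : G => (1 : ℂ)) = 1 := avg_one
  have hχ : IsIrrCharacter G (fun g => P g - 1) := (Cfsg.Agent.S0157.result X (by omega)).2 h2
  have hsq : ∀ g, P (g * g) = P g + T g := by
    intro g
    rw [hP, hT]
    simp only [fx_sq, Nat.cast_add]
  set A : G → ℂ := fun g => (P g * P g - 3 * P g + 2 - T g) / 2 with hA
  set S : G → ℂ := fun g => (P g * P g - P g + T g) / 2 with hS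
  have hAc : IsCharacter G A := by
    have := Cfsg.Agent.PermChar.SymAlt.isCharacter_altSq (isIrr_isCharacter hχ)
    convert this using 1
    funext g
    rw [hA]
    simp only [hsq]
    ring
  have hSc : IsCharacter G S := by
    have := Cfsg.Agent.PermChar.SymAlt.isCharacter_symSq (isIrr_isCharacter hχ)
    convert this using 1
    funext g
    rw [hS]
    simp only [hsq]
    ring
  have hPr : ∀ g, conj (P g) = P g := fun g => Complex.conj_natCast _
  have hTr : ∀ g, conj (T g) = T g := fun g => Complex.conj_natCast _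
  have hAr : ∀ g, conj (A g) = A g := by
    intro g
    rw [hA]
    simp only [map_div₀, map_sub, map_add, map_mul, hPr, hTr, map_ofNat]
  have hSr : ∀ g, conj (S g) = S g := by
    intro g
    rw [hS]
    simp only [map_div₀, map_sub, map_add, map_mul, hPr, hTr, map_ofNat]
  -- averages
  have cA : avg (fun g => A g) = 0 := by
    have h : (fun g => A g) = fun g => (1 / 2 : ℂ) * (P g * (P g - 1) - 2 * P g + 2 * 1 - T g) := by
      funext g
      rw [hA]
      ring
    rw [h, avg_mul, avg_sub, avg_add, avg_sub, avg_mul, avg_mul, a0, a1, a2, b1]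
    norm_num
  have cAP : avg (fun g => A g * P g) = 0 := by
    have h : (fun g => A g * P g) = fun g => (1 / 2 : ℂ) * (P g * (P g - 1) * (P g - 2) - P g * T g) := by
      funext g
      rw [hA]
      ring
    rw [h, avg_mul, avg_sub, a3, b2]
    norm_num
  have cN : avg (fun g => (P g * P g - 3 * P g + 1) * (P g * P g - 3 * P g + 1)) = 2 := by
    have h : (fun g => (P g * P g - 3 * P g + 1) * (P g * P g - 3 * P g + 1)) =
        fun g => P g * (P g - 1) * (P g - 2) * (P g - 3) + 1 := by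
      funext g
      ring
    rw [h, avg_add, a0, a4]
    norm_num
  set B : G → ℂ := S - P with hB
  have hBr : ∀ g, conj (B g) = B g := by
    intro g
    rw [hB, Pi.sub_apply, map_sub, hSr, hPr]
  have hAB : classInner (A + B) (A + B) = 2 := by
    rw [inner_eq_avg _ _ (fun g => by rw [Pi.add_apply, map_add, hAr, hBr])]
    rw [← cN]
    congr 1
    funext g
    have h : A g + B g = P g * P g - 3 * P g + 1 := by
      rw [hB, hA, hS, Pi.sub_apply]
      ring
    rw [Pi.add_apply, h]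
  have hAP : classInner A P = 0 := by
    rw [inner_eq_avg _ _ hPr]
    exact cAP
  obtain ⟨a, ha⟩ := classInner_isNat hAc hAc
  obtain ⟨c, hc⟩ := classInner_isNat hAc hSc
  have hABc : classInner A B = c := by
    rw [hB, classInner_sub_right, hAP, hc, sub_zero]
  have hBAc : classInner B A = c := by
    rw [← classInner_conj_symm, hABc, Complex.conj_natCast]
  have hBB : classInner B B = 2 - a - 2 * c := by
    rw [classInner_add_left, classInner_add_right, classInner_add_right, ha, hABc, hBAc] at hAB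
    linear_combination hAB
  -- degrees
  have hP1 : P 1 = (Nat.card X : ℂ) := by
    show ((fx X (1 : G) : ℕ) : ℂ) = _
    rw [fx, MulAction.fixedBy_one_eq_univ, Nat.card_univ]
  have hT1 : T 1 = 0 := by
    have h4 := hsq 1
    rw [one_mul] at h4
    linear_combination -h4
  have hA1 : A 1 = (((Nat.card X - 1) * (Nat.card X - 2) / 2 : ℕ) : ℂ) := by
    have h4 : (Nat.card X - 1) * (Nat.card X - 2) / 2 * 2 = (Nat.card X - 1) * (Nat.card X - 2) := by
      refine Nat.div_mul_cancel (even_iff_two_dvd.1 ?_)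
      obtain ⟨m, hm⟩ : ∃ m, Nat.card X = m + 2 := ⟨Nat.card X - 2, by omega⟩
      rw [hm, show m + 2 - 1 = m + 1 by omega, show m + 2 - 2 = m by omega, mul_comm]
      exact Nat.even_mul_succ_self m
    have h5 : ((((Nat.card X - 1) * (Nat.card X - 2) / 2 : ℕ) : ℂ)) * 2 = ((Nat.card X : ℂ) - 1) * ((Nat.card X : ℂ) - 2) := by
      have h6 : ((((Nat.card X - 1) * (Nat.card X - 2) / 2 * 2 : ℕ) : ℂ)) = (((Nat.card X - 1) * (Nat.card X - 2) : ℕ) : ℂ) := by
        rw [h4]
      rw [Nat.cast_mul, Nat.cast_mul, Nat.cast_sub (by omega), Nat.cast_sub (by omega)] at h6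
      exact_mod_cast h6
    have h6 : A 1 = (P 1 * P 1 - 3 * P 1 + 2 - T 1) / 2 := rfl
    rw [h6, hP1, hT1]
    linear_combination (-1 / 2 : ℂ) * h5
  have hB1 : B 1 = ((Nat.card X * (Nat.card X - 3) / 2 : ℕ) : ℂ) := by
    have h4 : Nat.card X * (Nat.card X - 3) / 2 * 2 = Nat.card X * (Nat.card X - 3) := by
      refine Nat.div_mul_cancel (even_iff_two_dvd.1 ?_)
      obtain ⟨m, hm⟩ : ∃ m, Nat.card X = m + 3 := ⟨Nat.card X - 3, by omega⟩
      rw [hm, show m + 3 - 3 = m by omega, Nat.even_mul]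
      rcases Nat.even_or_odd m with h | h
      · exact Or.inr h
      · exact Or.inl (h.add_odd (by decide))
    have h5 : (((Nat.card X * (Nat.card X - 3) / 2 : ℕ) : ℂ)) * 2 = (Nat.card X : ℂ) * ((Nat.card X : ℂ) - 3) := by
      have h6 : (((Nat.card X * (Nat.card X - 3) / 2 * 2 : ℕ) : ℂ)) = ((Nat.card X * (Nat.card X - 3) : ℕ) : ℂ) := by
        rw [h4]
      rw [Nat.cast_mul, Nat.cast_mul, Nat.cast_sub (by omega)] at h6
      exact_mod_cast h6
    have h6 : B 1 = (P 1 * P 1 - P 1 + T 1) / 2 - P 1 := rfl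
    rw [h6, hP1, hT1]
    linear_combination (-1 / 2 : ℂ) * h5
  have hA0 : A 1 ≠ 0 := by
    rw [hA1]
    have h4 : 1 ≤ (Nat.card X - 1) * (Nat.card X - 2) / 2 := by
      have h5 : 3 * 2 ≤ (Nat.card X - 1) * (Nat.card X - 2) := Nat.mul_le_mul (by omega) (by omega)
      omega
    exact_mod_cast (by omega : (Nat.card X - 1) * (Nat.card X - 2) / 2 ≠ 0)
  have hB0n : 1 ≤ Nat.card X * (Nat.card X - 3) / 2 := by
    have h5 : 4 * 1 ≤ Nat.card X * (Nat.card X - 3) := Nat.mul_le_mul (by omega) (by omega)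
    omega
  have hB0 : B 1 ≠ 0 := by
    rw [hB1]
    exact_mod_cast (by omega : Nat.card X * (Nat.card X - 3) / 2 ≠ 0)
  have ha0 : a ≠ 0 := by
    rintro rfl
    have h4 := classInner_self_eq_zero (φ := A) (by rw [ha]; simp)
    exact hA0 (by rw [h4]; rfl)
  have hpos : 0 < (2 : ℝ) - a - 2 * c := by
    have h4 := classInner_self_eq_ofReal B
    rw [hBB] at h4
    have h5 : (2 : ℝ) - a - 2 * c = (Nat.card G : ℝ)⁻¹ * ∑ g : G, Complex.normSq (B g) := by exact_mod_cast h4
    rw [h5]
    refine mul_pos (inv_pos.2 (by exact_mod_cast Nat.card_pos)) ?_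
    refine Finset.sum_pos' (fun g _ => Complex.normSq_nonneg _) ⟨1, Finset.mem_univ _, ?_⟩
    exact Complex.normSq_pos.2 hB0
  have hac : a + 2 * c < 2 := by
    have : ((a + 2 * c : ℕ) : ℝ) < (2 : ℕ) := by push_cast; linarith only [hpos]
    exact_mod_cast this
  have ha1 : a = 1 := by omega
  have hc0 : c = 0 := by omega
  have hAi : IsIrrCharacter G A := isIrr_of_classInner_self hAc (by rw [ha, ha1]; simp)
  have hBn : classInner B B = 1 := by
    rw [hBB, ha1, hc0]
    norm_num
  have hBi : IsIrrCharacter G B := by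
    rcases isIrr_of_generalized ⟨S, P, hSc, Cfsg.Agent.S0157.isCharacter_fixedBy X, rfl⟩ hBn with h | h
    · exact h
    · exfalso
      obtain ⟨m, hm, hm1⟩ := isIrr_apply_one h
      have h4 : (((m + Nat.card X * (Nat.card X - 3) / 2 : ℕ)) : ℂ) = ((0 : ℕ) : ℂ) := by
        rw [Nat.cast_add, ← hm1, ← hB1, Pi.neg_apply, Nat.cast_zero]
        exact neg_add_cancel (B 1)
      have h5 : m + Nat.card X * (Nat.card X - 3) / 2 = 0 := by exact_mod_cast h4
      omega
  have hBe : B = chB X := by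
    funext g
    show (P g * P g - P g + T g) / 2 - P g = (P g * P g - 3 * P g + T g) / 2
    ring
  rw [← hBe]
  exact ⟨hAi, hBi, hB1⟩

end four

section block

variable {G : Type*} [Group G] [Fintype G] {X : Type*} [MulAction G X] [Finite X]

/-- Elements of odd order have no 2-cycles. -/
theorem nn_eq_zero {g : G} (hg : IsPRegular 2 g) : nn X g = 0 := by
  rw [nn, Nat.card_eq_zero]
  left
  constructor
  rintro ⟨x, h1, h2⟩
  apply h2
  have h3 : Odd (orderOf g) := Nat.not_even_iff_odd.1 fun h => hg (even_iff_two_dvd.1 h)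
  have h4 : ∀ m : ℕ, (g * g) ^ m • x = x := by
    intro m
    induction m with
    | zero => rw [pow_zero, one_smul]
    | succ m ih => rw [pow_succ, mul_smul, mul_smul, h1, ih]
  obtain ⟨m, hm⟩ := h3
  have h5 : (g * g) ^ (m + 1) = g := by
    rw [← pow_two, ← pow_mul, show 2 * (m + 1) = (2 * m + 1) + 1 by ring, ← hm, pow_succ,
      pow_orderOf_eq_one, one_mul]
  have h6 := h4 (m + 1)
  rwa [h5] at h6

/-- The characters of a 4-transitive group in the principal block. -/
theorem chB_mem {M : Ideal AlgInt} (hM : IsPModular 2 M) [MulAction.IsMultiplyPretransitive G X 4]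
    (hX : 4 ≤ Nat.card X) :
    (⟨chB X, (four_irr (G := G) X hX).2.1⟩ : IrrCharacter G) ∈ principalBlock M G := by
  have hprime : M.IsPrime := Blocks.Local.isPrime_of_isPModular hM
  obtain ⟨hA, hB, -⟩ := four_irr (G := G) X hX
  have key : ∀ s : G, IsPRegular 2 s → chA X s = chB X s + 1 := by
    intro s hs
    rw [chA, chB, nn_eq_zero hs]
    push_cast
    ring
  have h1 : SameBlock M (chA X : G → ℂ) (fun _ => 1) :=
    H497.EB.sameBlock_of_reg hM ⟨chA X, hA⟩ ⟨fun _ => 1, Blocks.Basic.isIrrCharacter_one⟩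
      (isIrr_isCharacter hB) fun s hs => by
        show chA X s = 1 + chB X s
        rw [key s hs, add_comm]
  have h2 : SameBlock M (chA X : G → ℂ) (chB X) :=
    H497.EB.sameBlock_of_reg hM ⟨chA X, hA⟩ ⟨chB X, hB⟩
      (isIrr_isCharacter Blocks.Basic.isIrrCharacter_one) fun s hs => key s hs
  exact Blocks.Basic.sameBlock_trans (Blocks.Basic.sameBlock_symm h1) h2

theorem chB_pow {k : ℕ} (hk : IsK G k) (g : G) : chB X (g ^ k) = chB X g := by
  have h1 : ∀ t : G, fx X (t ^ k) = fx X t := by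
    intro t
    rw [fx, fx, fixedBy_pow hk]
  have h2 := fx_sq X (g ^ k)
  have h3 := fx_sq X g
  have h4 : g ^ k * g ^ k = (g * g) ^ k := by
    rw [(Commute.refl g).mul_pow]
  rw [h4, h1, h1, h3] at h2
  have h5 : nn X (g ^ k) = nn X g := by omega
  rw [chB, chB, h1, h5]

end block

universe u v

/-- **The conclusion for 4-transitive groups.** -/
theorem concl_of_four {G : Type u} [Group G] [Fintype G] {M : Ideal AlgInt} (hM : IsPModular 2 M)
    {X : Type v} [MulAction G X] [Finite X] (N : Subgroup G) [Fintype N]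
    (h4 : MulAction.IsMultiplyPretransitive N X 4) (hX : 4 ≤ Nat.card X)
    (heven : Even (Nat.card X * (Nat.card X - 3) / 2)) {k : ℕ} (hk : IsK G k) : Concl M G N k := by
  have h4G : MulAction.IsMultiplyPretransitive G X 4 := by
    rw [MulAction.isMultiplyPretransitive_iff] at h4 ⊢
    intro x y
    obtain ⟨g, hg⟩ := h4 (x := x) (y := y)
    exact ⟨(g : G), hg⟩
  obtain ⟨-, hB, hB1⟩ := four_irr (G := G) X hX
  obtain ⟨-, hBN, hBN1⟩ := four_irr (G := N) X hX
  refine ⟨⟨chB X, hB⟩, chB_mem hM hX, ?_, chB_pow hk, ?_⟩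
  · have h1 := Blocks.Basic.irr_one_eq_charDegree hB
    rw [hB1] at h1
    have h2 : Nat.card X * (Nat.card X - 3) / 2 = charDegree (chB X : G → ℂ) := by exact_mod_cast h1
    show Even (charDegree (chB X : G → ℂ))
    rw [← h2]
    exact heven
  · show classInner (fun s : N => chB X (s : G)) (fun _ => (1 : ℂ)) = 0
    have h1 : (fun s : N => chB X (s : G)) = chB (G := N) X := rfl
    rw [h1]
    apply classInner_irr_ne hBN Blocks.Basic.isIrrCharacter_one
    intro h2
    have h3 := congrFun h2 1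
    rw [hBN1] at h3
    have h5 : Nat.card X * (Nat.card X - 3) / 2 = 1 := by exact_mod_cast h3
    rw [h5] at heven
    exact absurd heven (by decide)

end Cfsg.Agent.H273.EB
end

-- part: H273/EB/Stab
section
/-!
# TEAM EB: the conclusion from the class of point stabilizers (helper273)

`N` normal in `G`, `N` acts 4-transitively on `X` and conjugation by `G` permutes the point stabilizers.
-/

set_option autoImplicit false
set_option linter.unusedSectionVars false
set_option linter.style.haveILetI false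

open Cfsg

namespace Cfsg.Agent.H273.EB

open Cfsg.Agent.H610.EB Cfsg.Agent.H694

universe u v

/-- the class of point stabilizers -/
def stabs (S : Type*) [Group S] (X : Type*) [MulAction S X] : Set (Subgroup S) :=
  Set.range fun x : X => MulAction.stabilizer S x

theorem stabs_conj {S : Type*} [Group S] {X : Type*} [MulAction S X] (g : S) :
    ∀ H ∈ stabs S X, H.map (MulAut.conj g).toMonoidHom ∈ stabs S X := by
  rintro _ ⟨x, rfl⟩
  exact ⟨g • x, MulAction.stabilizer_smul_eq_stabilizer_map_conj g x⟩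

/-- point stabilizers of a 2-transitive action are distinct -/
theorem stab_inj {S : Type*} [Group S] {X : Type*} [MulAction S X] [Finite X]
    (h2 : MulAction.IsMultiplyPretransitive S X 2) (hX : 3 ≤ Nat.card X) {x y : X}
    (h : MulAction.stabilizer S x = MulAction.stabilizer S y) : x = y := by
  by_contra hxy
  classical
  haveI := Fintype.ofFinite X
  obtain ⟨z, hz⟩ : ∃ z : X, z ∉ ({x, y} : Finset X) := by
    by_contra hcon
    push Not at hcon
    have h3 : (Finset.univ : Finset X) ⊆ {x, y} := fun z _ => hcon z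
    have h4 := Finset.card_le_card h3
    rw [Finset.card_univ, ← Nat.card_eq_fintype_card] at h4
    have h5 := Finset.card_le_two (a := x) (b := y)
    omega
  simp only [Finset.mem_insert, Finset.mem_singleton, not_or] at hz
  obtain ⟨g, hg1, hg2⟩ := MulAction.is_two_pretransitive_iff.1 h2 hxy (Ne.symm hz.1)
  have h3 : g ∈ MulAction.stabilizer S y := by
    rw [← h]
    exact hg1
  exact hz.2 (hg2.symm.trans h3)

/-- points and stabilizers -/
noncomputable def stabEquiv {S : Type*} [Group S] {X : Type*} [MulAction S X] [Finite X]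
    (h2 : MulAction.IsMultiplyPretransitive S X 2) (hX : 3 ≤ Nat.card X) : X ≃ stabs S X :=
  Equiv.ofBijective (fun x => ⟨MulAction.stabilizer S x, x, rfl⟩)
    ⟨fun _ _ h => stab_inj h2 hX (congrArg Subtype.val h), fun ⟨_, x, hx⟩ => ⟨x, Subtype.ext hx⟩⟩

/-- transitivity on the class of stabilizers -/
theorem stabs_trans {S : Type*} [Group S] {X : Type*} [MulAction S X] [Finite X] {k : ℕ}
    (hk : MulAction.IsMultiplyPretransitive S X k)
    (h2 : MulAction.IsMultiplyPretransitive S X 2) (hX : 3 ≤ Nat.card X) :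
    ∀ x y : Fin k ↪ stabs S X, ∃ g : S, ∀ i,
      (x i : Subgroup S).map (MulAut.conj g).toMonoidHom = (y i : Subgroup S) := by
  intro x y
  let e := stabEquiv h2 hX
  obtain ⟨g, hg⟩ := (MulAction.isMultiplyPretransitive_iff.1 hk)
    (x := x.trans e.symm.toEmbedding) (y := y.trans e.symm.toEmbedding)
  refine ⟨g, fun i => ?_⟩
  have h1 : g • e.symm (x i) = e.symm (y i) := DFunLike.congr_fun hg i
  have h3 : ∀ H : stabs S X, (H : Subgroup S) = MulAction.stabilizer S (e.symm H) := by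
    intro H
    have h4 := congrArg Subtype.val (e.apply_symm_apply H)
    exact h4.symm
  rw [h3 (x i), h3 (y i), ← h1]
  exact (MulAction.stabilizer_smul_eq_stabilizer_map_conj g _).symm

/-- **The conclusion for a normal 4-transitive subgroup whose class of point stabilizers is stable.** -/
theorem concl_of_stabs {G : Type u} [Group G] [Fintype G] {M : Ideal AlgInt} (hM : IsPModular 2 M)
    (N : Subgroup G) [N.Normal] [Fintype N] {X : Type v} [MulAction N X] [Finite X]
    (h4 : MulAction.IsMultiplyPretransitive N X 4) (hX : 4 ≤ Nat.card X)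
    (heven : Even (Nat.card X * (Nat.card X - 3) / 2))
    (hst : ∀ g : G, ∀ H ∈ stabs N X, cmap N g H ∈ stabs N X)
    {k : ℕ} (hk : IsK G k) : Concl M G N k := by
  have h2 : MulAction.IsMultiplyPretransitive N X 2 :=
    MulAction.isMultiplyPretransitive_of_le (n := 4) (by norm_num) hX
  let e := stabEquiv h2 (by omega)
  have hc : Nat.card (stabs N X) = Nat.card X := (Nat.card_congr e).symm
  letI := actSet N (stabs N X) hst
  haveI : Finite (stabs N X) := Finite.of_equiv X e
  refine concl_of_four hM (X := stabs N X) N ?_ (by rw [hc]; exact hX) (by rw [hc]; exact heven) hk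
  rw [MulAction.isMultiplyPretransitive_iff]
  intro x y
  obtain ⟨g, hg⟩ := stabs_trans h4 h2 (by omega) x y
  refine ⟨g, ?_⟩
  ext i : 1
  apply Subtype.ext
  show cmap N (g : G) (x i : Subgroup N) = (y i : Subgroup N)
  rw [cmap_coe]
  exact hg i

end Cfsg.Agent.H273.EB
end

-- part: H273/EB/Mathieu
section
/-!
# TEAM EB: rows M11, M23, M24 (helper273)
-/

set_option autoImplicit false
set_option linter.unusedSectionVars false
set_option linter.style.haveILetI false

open Cfsg

namespace Cfsg.Agent.H273.EB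

open Cfsg.Agent.H610.EB Cfsg.Agent.H694 Cfsg.Agent.H684.EB Cfsg.Agent.H852.IMMathieu

universe u v

/-- a 4-transitive action on `n` points -/
def Act4 (T : Type*) [Group T] (n : ℕ) : Prop :=
  ∃ (X : Type) (_ : MulAction T X) (_ : Finite X), MulAction.IsMultiplyPretransitive T X 4 ∧ Nat.card X = n

theorem trans_comp {S T : Type*} [Group S] [Group T] (e : S ≃* T) {X : Type*} [MulAction T X] {k : ℕ}
    (h : MulAction.IsMultiplyPretransitive T X k) :
    letI := MulAction.compHom X (e : S →* T)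
    MulAction.IsMultiplyPretransitive S X k := by
  letI := MulAction.compHom X (e : S →* T)
  rw [MulAction.isMultiplyPretransitive_iff] at h ⊢
  intro x y
  obtain ⟨g, hg⟩ := h (x := x) (y := y)
  refine ⟨e.symm g, ?_⟩
  ext i : 1
  show e (e.symm g) • x i = y i
  rw [MulEquiv.apply_symm_apply]
  exact DFunLike.congr_fun hg i

theorem Act4.congr {S T : Type*} [Group S] [Group T] (e : S ≃* T) {n : ℕ} (h : Act4 T n) : Act4 S n := by
  obtain ⟨X, hX, hf, h4, hn⟩ := h
  letI := hX
  exact ⟨X, MulAction.compHom X (e : S →* T), hf, trans_comp e h4, hn⟩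

theorem inner_of_out {S : Type*} [Group S] (h : Nat.card (Cfsg.Out S) = 1) (α : MulAut S) :
    ∃ s, α = MulAut.conj s := by
  have h1 : (Inn S).index = 1 := h
  rw [Subgroup.index_eq_one] at h1
  have h2 : α ∈ Inn S := by
    rw [h1]
    exact Subgroup.mem_top α
  obtain ⟨s, hs⟩ := h2
  exact ⟨s, hs.symm⟩

/-- all automorphisms are inner -/
def AllInner (S : Type*) [Group S] : Prop := ∀ α : MulAut S, ∃ s, α = MulAut.conj s

theorem AllInner.congr {S T : Type*} [Group S] [Group T] (e : S ≃* T) (h : AllInner T) : AllInner S := by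
  intro α
  obtain ⟨t, ht⟩ := h ((e.symm.trans α).trans e)
  refine ⟨e.symm t, ?_⟩
  ext x
  have h1 := DFunLike.congr_fun ht (e x)
  have h2 : e (α (e.symm (e x))) = t * e x * t⁻¹ := h1
  rw [MulEquiv.symm_apply_apply] at h2
  have h3 := congrArg e.symm h2
  rw [MulEquiv.symm_apply_apply, map_mul, map_mul, map_inv, MulEquiv.symm_apply_apply] at h3
  rw [h3, MulAut.conj_apply]

/-- **Row: a 4-transitive group without outer automorphisms.** -/
theorem evenB_of_act4 {S : Type u} [Group S] {n : ℕ} (hS : Act4 S n) (hn : 4 ≤ n)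
    (heven : Even (n * (n - 3) / 2)) (hout : AllInner S) : EvenB S := by
  intro G _ _ N _ _ ⟨e⟩ _ _ k hk M hM
  obtain ⟨X, hX, hf, h4, hc⟩ := hS.congr e.symm
  letI := hX
  refine concl_of_stabs hM N h4 (by rw [hc]; exact hn) (by rw [hc]; exact heven) ?_ hk
  intro g H hH
  obtain ⟨s, hs⟩ := (hout.congr e.symm) (MulAut.conjNormal g : MulAut N)
  rw [cmap, hs]
  exact stabs_conj s H hH

theorem act_m11 : Act4 Spor.M11 11 := by
  let d : Set GolayPt := (Spor.squareDodecad : Set GolayPt) \ {some 0}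
  have hd : ∀ g ∈ Spor.M11, ∀ x ∈ d, g x ∈ d := by
    intro g hg x hx
    refine ⟨Cfsg.Agent.CoThreeStd.M12.smul_mem' hg.1 hx.1, fun h1 => hx.2 ?_⟩
    have h2 : g (some 0) = some 0 := hg.2
    exact g.injective ((show g x = some 0 from h1).trans h2.symm)
  refine ⟨d, actOn Spor.M11 d hd, inferInstance, trans_on Spor.M11 d hd 4 ?_, ?_⟩
  · intro x y hx hy
    have hinj : ∀ z : Fin 4 ↪ GolayPt, (∀ i, z i ∈ (Spor.squareDodecad : Set GolayPt) \ {some 0}) →
        Function.Injective (Fin.cons (some 0) z : Fin 5 → GolayPt) := by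
      intro z hz
      rw [Fin.cons_injective_iff]
      refine ⟨?_, z.injective⟩
      rintro ⟨i, hi⟩
      exact (hz i).2 hi
    have hmem : ∀ z : Fin 4 ↪ GolayPt, (∀ i, z i ∈ (Spor.squareDodecad : Set GolayPt) \ {some 0}) →
        ∀ i, (Fin.cons (some 0) z : Fin 5 → GolayPt) i ∈ Spor.squareDodecad := by
      intro z hz i
      refine Fin.cases ?_ (fun j => ?_) i
      · exact _root_.Cfsg.Agent.H852.IMMathieu.zero_mem
      · exact (hz j).1
    obtain ⟨g, hg, -⟩ := Cfsg.Agent.S0384.result _ dod_mem ⟨_, hinj x hx⟩ ⟨_, hinj y hy⟩ (hmem x hx) (hmem y hy)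
    exact ⟨((g : M24) : Equiv.Perm GolayPt), ⟨⟨(g : M24).2, g.2⟩, hg 0⟩, fun i => hg i.succ⟩
  · show Nat.card ↥((Spor.squareDodecad : Set GolayPt) \ {some 0}) = 11
    rw [Nat.card_coe_set_eq, Set.ncard_sdiff_singleton_of_mem (by exact _root_.Cfsg.Agent.H852.IMMathieu.zero_mem), Set.ncard_coe_finset,
      card_dod dod_mem]

theorem act_m23 : Act4 Spor.M23 23 := by
  let d : Set GolayPt := {x | x ≠ none}
  have hd : ∀ g ∈ Spor.M23, ∀ x ∈ d, g x ∈ d := by
    intro g hg x hx h1
    have h2 : g none = none := hg.2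
    exact hx (g.injective (h1.trans h2.symm))
  refine ⟨d, actOn Spor.M23 d hd, inferInstance, trans_on Spor.M23 d hd 4 ?_, ?_⟩
  · intro x y hx hy
    have hinj : ∀ z : Fin 4 ↪ GolayPt, (∀ i, z i ∈ {x : GolayPt | x ≠ none}) →
        Function.Injective (Fin.cons none z : Fin 5 → GolayPt) := by
      intro z hz
      rw [Fin.cons_injective_iff]
      refine ⟨?_, z.injective⟩
      rintro ⟨i, hi⟩
      exact hz i hi
    obtain ⟨g, hg⟩ := Cfsg.Agent.SporadicStructure.M23Index253.exists_map Cfsg.Agent.S0366.result le_rfl _ _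
      (hinj x hx) (hinj y hy)
    exact ⟨(g : Equiv.Perm GolayPt), ⟨g.2, hg 0⟩, fun i => hg i.succ⟩
  · have h1 : ({x | x ≠ none} : Set GolayPt) = Set.univ \ {none} := by
      ext x
      simp
    show Nat.card ↥({x | x ≠ none} : Set GolayPt) = 23
    rw [Nat.card_coe_set_eq, h1, Set.ncard_sdiff_singleton_of_mem (Set.mem_univ _), Set.ncard_univ,
      Nat.card_eq_fintype_card]
    decide

theorem act_m24 : Act4 M24 24 := by
  refine ⟨GolayPt, inferInstance, inferInstance, ?_, ?_⟩
  · have h5 : MulAction.IsMultiplyPretransitive M24 GolayPt 5 := Cfsg.Agent.S0366.result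
    exact MulAction.isMultiplyPretransitive_of_le (n := 5) (by norm_num) (by
      rw [Nat.card_eq_fintype_card]
      decide)
  · rw [Nat.card_eq_fintype_card]
    decide

/-- **Row M11.** -/
theorem m11 {S : Type u} [Group S] (h : Spor.IsoM11 S) : EvenB S := by
  obtain ⟨e⟩ := h
  exact evenB_of_act4 (act_m11.congr e) (by norm_num) (by decide)
    (AllInner.congr e (inner_of_out Cfsg.Agent.S2060.result))

/-- **Row M23.** -/
theorem m23 {S : Type u} [Group S] (h : Spor.IsoM23 S) : EvenB S := by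
  obtain ⟨e⟩ := h
  exact evenB_of_act4 (act_m23.congr e) (by norm_num) (by decide)
    (AllInner.congr e (inner_of_out Cfsg.Agent.S2063.result))

/-- **Row M24.** -/
theorem m24 {S : Type u} [Group S] (h : Spor.IsoM24 S) : EvenB S := by
  obtain ⟨e⟩ := h
  exact evenB_of_act4 (act_m24.congr e) (by norm_num) (by decide)
    (AllInner.congr e (inner_of_out Cfsg.Agent.S2064.result))

end Cfsg.Agent.H273.EB
end

-- part: H273/EB/MTwelve
section
/-!
# TEAM EB: row M12 (helper273)

* `mem_of_two_trans` : the constituents of a 2-transitive permutation character of even degree are in the principal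
  2-block.
* `concl_twelve` : `M12` normal of 2-power index.
-/

set_option autoImplicit false
set_option linter.unusedSectionVars false
set_option linter.style.haveILetI false

open Cfsg

namespace Cfsg.Agent.H273.EB

open Cfsg.Agent.Characters.Core
open Cfsg.Agent.H610.EB Cfsg.Agent.H694 Cfsg.Agent.H684.EB Cfsg.Agent.H852.IMMathieu
open scoped ComplexConjugate

universe u v

section two

variable {S : Type u} [Group S] [Fintype S] {X : Type v} [MulAction S X]

theorem cn_smul (g t : S) (x y : X) : H694.EB.cn g (t • x) (t • y) = H694.EB.cn g x y := by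
  unfold H694.EB.cn
  refine Nat.card_congr
    { toFun := fun h => ⟨t⁻¹ * h.1 * t, ?_, ?_⟩
      invFun := fun h => ⟨t * h.1 * t⁻¹, ?_, ?_⟩
      left_inv := fun h => ?_
      right_inv := fun h => ?_ }
  · exact h.2.1.trans (isConj_iff.2 ⟨t⁻¹, by rw [inv_inv]⟩)
  · rw [mul_smul, mul_smul, h.2.2, inv_smul_smul]
  · exact h.2.1.trans (isConj_iff.2 ⟨t, rfl⟩)
  · rw [mul_smul, mul_smul, inv_smul_smul, h.2.2]
  · exact Subtype.ext (by group)
  · exact Subtype.ext (by group)

/-- column sums -/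
theorem sum_cn [Fintype X] (g : S) (y : X) :
    ∑ x : X, H694.EB.cn g x y = (Subgroup.centralizer ({g} : Set S)).index := by
  classical
  unfold H694.EB.cn
  rw [← Nat.card_sigma, Blocks.Basic.index_centralizer_eq_ncard, ← Nat.card_coe_set_eq]
  refine Nat.card_congr
    { toFun := fun p => ⟨p.2.1, p.2.2.1⟩
      invFun := fun h => ⟨h.1 • y, h.1, h.2, rfl⟩
      left_inv := ?_
      right_inv := fun h => rfl }
  rintro ⟨x, h, h1, rfl⟩
  rfl

/-- **Constituents of a 2-transitive permutation character of even degree.** -/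
theorem mem_of_two_trans [Finite X] {M : Ideal AlgInt} (hM : IsPModular 2 M)
    (h2 : MulAction.IsMultiplyPretransitive S X 2) (hX : 2 ≤ Nat.card X) (heven : Even (Nat.card X))
    (χ : IrrCharacter S) (hχ : classInner (permC S X) (χ : S → ℂ) ≠ 0) : χ ∈ principalBlock M S := by
  classical
  haveI := Fintype.ofFinite X
  refine H694.EB.mem_principalBlock (X := X) hM χ ?_ ?_
  · intro h0
    apply hχ
    rw [classInner]
    have h1 : ∑ g : S, permC S X g * conj ((χ : S → ℂ) g) =
        ∑ h : S, (Nat.card {x : X // h • x = x} : ℂ) * (χ : S → ℂ) h⁻¹ := by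
      refine Finset.sum_congr rfl fun g _ => ?_
      rw [isCharacter_apply_inv (isIrr_isCharacter χ.2)]
      rfl
    rw [h1, h0, mul_zero]
  · intro g _
    have h1 : 1 < Fintype.card X := by
      rw [← Nat.card_eq_fintype_card]
      omega
    obtain ⟨x₀, y₀, hxy₀⟩ := Fintype.exists_pair_of_one_lt_card h1
    set c := H694.EB.cn g x₀ y₀ with hc
    have hoff : ∀ x y : X, x ≠ y → H694.EB.cn g x y = c := by
      intro x y hxy
      obtain ⟨t, ht1, ht2⟩ := MulAction.is_two_pretransitive_iff.1 h2 hxy₀ hxy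
      rw [← ht1, ← ht2, cn_smul]
    have hdiag : ∀ y : X, H694.EB.cn g y y + (Fintype.card X - 1) * c =
        (Subgroup.centralizer ({g} : Set S)).index := by
      intro y
      rw [← sum_cn g y, ← Finset.add_sum_erase _ _ (Finset.mem_univ y)]
      congr 1
      rw [Finset.sum_congr rfl (fun x hx => hoff x y (Finset.ne_of_mem_erase hx)), Finset.sum_const,
        Finset.card_erase_of_mem (Finset.mem_univ y), Finset.card_univ, smul_eq_mul]
    have hn2 : ((Fintype.card X : ℕ) : ZMod 2) = 0 := by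
      rw [← Nat.card_eq_fintype_card, ZMod.natCast_eq_zero_iff]
      exact heven.two_dvd
    have hD : ∀ x y : X, ((Matrix.of fun x y : X => (H694.EB.cn g x y : ZMod 2)) -
        ((Subgroup.centralizer ({g} : Set S)).index : ZMod 2) • (1 : Matrix X X (ZMod 2))) x y = (c : ZMod 2) := by
      intro x y
      rw [Matrix.sub_apply, Matrix.of_apply, Matrix.smul_apply, Matrix.one_apply]
      by_cases hxy : x = y
      · subst hxy
        rw [if_pos rfl, ← hdiag x, smul_eq_mul, mul_one]
        push_cast [Nat.cast_sub h1.le]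
        rw [hn2]
        ring
      · rw [if_neg hxy, hoff x y hxy, smul_zero, sub_zero]
    refine ⟨2, ?_⟩
    ext x y
    rw [pow_two, Matrix.mul_apply, Finset.sum_congr rfl (fun z _ => by rw [hD x z, hD z y]),
      Finset.sum_const, Finset.card_univ, nsmul_eq_mul, hn2, zero_mul, Matrix.zero_apply]

end two

section orb

variable {S : Type u} [Group S]

/-- conjugate subgroups -/
def cj (g : S) (H : Subgroup S) : Subgroup S := H.map (MulAut.conj g).toMonoidHom

theorem cj_one (H : Subgroup S) : cj 1 H = H := H694.map_conj_one H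

theorem cj_mul (g t : S) (H : Subgroup S) : cj (g * t) H = cj g (cj t H) := (map_conj_conj t g H).symm

theorem mem_cj {g x : S} {H : Subgroup S} : x ∈ cj g H ↔ g⁻¹ * x * g ∈ H := by
  constructor
  · rintro ⟨y, hy, rfl⟩
    show g⁻¹ * (g * y * g⁻¹) * g ∈ H
    have : g⁻¹ * (g * y * g⁻¹) * g = y := by group
    rw [this]
    exact hy
  · intro h
    exact ⟨_, h, by
      show g * (g⁻¹ * x * g) * g⁻¹ = x
      group⟩

theorem cj_self {g : S} {H : Subgroup S} (h : g ∈ H) : cj g H = H := by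
  ext x
  rw [mem_cj]
  constructor
  · intro h1
    have h2 := H.mul_mem (H.mul_mem h h1) (H.inv_mem h)
    have : g * (g⁻¹ * x * g) * g⁻¹ = x := by group
    rwa [this] at h2
  · intro h1
    exact H.mul_mem (H.mul_mem (H.inv_mem h) h1) h

/-- `H` is transitive on a class of 12 subgroups of the same order not containing it. -/
theorem trans_of_eleven [Finite S] [IsSimpleGroup S] {𝒴 : Set (Subgroup S)} (hc : Nat.card 𝒴 = 12)
    (hY : ∀ g : S, ∀ L ∈ 𝒴, cj g L ∈ 𝒴) (hself : ∀ L ∈ 𝒴, ∀ g : S, cj g L = L → g ∈ L)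
    {H : Subgroup S} (hHY : H ∉ 𝒴) (hcard : ∀ L ∈ 𝒴, Nat.card L = Nat.card H) (htop : ∀ L ∈ 𝒴, L ≠ ⊤)
    {u : S} (hu : orderOf u = 11) (huH : u ∈ H) : ∀ L ∈ 𝒴, ∀ L' ∈ 𝒴, ∃ h ∈ H, cj h L = L' := by
  classical
  -- `u` does not fix `𝒴`
  have hmove : ∃ L ∈ 𝒴, cj u L ≠ L := by
    by_contra hcon
    push Not at hcon
    have huL : ∀ L ∈ 𝒴, u ∈ L := fun L hL => hself L hL u (hcon L hL)
    let K : Subgroup S := ⨅ L : 𝒴, (L : Subgroup S)
    have hK : K.Normal := by
      constructor
      intro k hk g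
      rw [Subgroup.mem_iInf] at hk ⊢
      rintro ⟨L, hL⟩
      have h1 := hk ⟨cj g⁻¹ L, hY _ _ hL⟩
      have h2 := mem_cj.1 h1
      rwa [inv_inv] at h2
    have huK : u ∈ K := by
      rw [Subgroup.mem_iInf]
      exact fun L => huL L L.2
    rcases hK.eq_bot_or_eq_top with h | h
    · rw [h, Subgroup.mem_bot] at huK
      rw [huK, orderOf_one] at hu
      omega
    · have hne : Nonempty 𝒴 := by
        by_contra hne
        rw [not_nonempty_iff] at hne
        rw [Nat.card_of_isEmpty] at hc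
        omega
      obtain ⟨L⟩ := hne
      apply htop L L.2
      rw [eq_top_iff, ← h]
      exact iInf_le _ L
  obtain ⟨L₁, hL₁, hne₁⟩ := hmove
  let O : Set (Subgroup S) := Set.range fun i : ZMod 11 => cj (u ^ i.val) L₁
  have hOY : O ⊆ 𝒴 := by
    rintro _ ⟨i, rfl⟩
    exact hY _ _ hL₁
  have hmod : ∀ m : ℕ, u ^ ((m : ZMod 11).val) = u ^ m := by
    intro m
    rw [ZMod.val_natCast, ← hu, pow_mod_orderOf]
  have hOm : ∀ m : ℕ, cj (u ^ m) L₁ ∈ O := fun m => ⟨(m : ZMod 11), by
    show cj (u ^ ((m : ZMod 11).val)) L₁ = _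
    rw [hmod]⟩
  -- 11 different conjugates
  have hstab : ∀ m : ℕ, cj (u ^ m) L₁ = L₁ → 11 ∣ m := by
    intro m hm
    by_contra hnd
    apply hne₁
    have hcop : Nat.Coprime m 11 := ((Nat.Prime.coprime_iff_not_dvd (by norm_num)).2 hnd).symm
    have hfix : ∀ j : ℕ, cj ((u ^ m) ^ j) L₁ = L₁ := by
      intro j
      induction j with
      | zero => rw [pow_zero, cj_one]
      | succ j ih => rw [pow_succ, cj_mul, hm, ih]
    obtain ⟨j, hj⟩ := exists_pow_eq_self_of_coprime (x := u) (n := m) (by rw [hu]; exact hcop)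
    have h1 := hfix j
    rwa [hj] at h1
  have hinj : Function.Injective fun i : ZMod 11 => cj (u ^ i.val) L₁ := by
    have key : ∀ a b : ℕ, a ≤ b → b < 11 → cj (u ^ a) L₁ = cj (u ^ b) L₁ → a = b := by
      intro a b hab hb h
      have h1 : cj (u ^ (b - a)) L₁ = L₁ := by
        have h2 : u ^ b = u ^ a * u ^ (b - a) := by rw [← pow_add]; congr 1; omega
        rw [h2, cj_mul] at h
        have h3 := congrArg (cj (u ^ a)⁻¹) h
        rw [← cj_mul, ← cj_mul, inv_mul_cancel, cj_one, ← cj_mul, one_mul] at h3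
        exact h3.symm
      have h2 := hstab _ h1
      omega
    intro i j hij
    apply ZMod.val_injective
    have hi := ZMod.val_lt i
    have hj := ZMod.val_lt j
    rcases le_total i.val j.val with h | h
    · exact key _ _ h hj hij
    · exact (key _ _ h hi hij.symm).symm
  have hOc : O.ncard = 11 := by
    rw [← Nat.card_coe_set_eq, Nat.card_range_of_injective hinj, Nat.card_zmod]
  have hfin : 𝒴.Finite := Set.toFinite _
  have hYc : 𝒴.ncard = 12 := by rw [← Nat.card_coe_set_eq, hc]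
  have hdc : (𝒴 \ O).ncard = 1 := by
    rw [Set.ncard_sdiff hOY, hYc, hOc]
  obtain ⟨L₀, hL₀⟩ := Set.ncard_eq_one.1 hdc
  have hL₀' : L₀ ∈ 𝒴 \ O := by
    rw [hL₀]
    exact Set.mem_singleton _
  have hcases : ∀ L ∈ 𝒴, L = L₀ ∨ L ∈ O := by
    intro L hL
    by_cases h : L ∈ O
    · exact Or.inr h
    · left
      have h1 : L ∈ 𝒴 \ O := ⟨hL, h⟩
      rw [hL₀] at h1
      exact h1
  -- `H` moves `L₀`
  obtain ⟨h₀, hh₀, hmv⟩ : ∃ h ∈ H, cj h L₀ ≠ L₀ := by
    by_contra hcon
    push Not at hcon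
    have h1 : H ≤ L₀ := fun h hh => hself L₀ hL₀'.1 h (hcon h hh)
    have h2 : H = L₀ := Subgroup.eq_of_le_of_card_ge h1 (hcard L₀ hL₀'.1).le
    exact hHY (h2 ▸ hL₀'.1)
  -- everything is in the orbit of `L₁`
  have hO : ∀ L ∈ O, ∃ h ∈ H, cj h L₁ = L := by
    rintro _ ⟨i, rfl⟩
    exact ⟨u ^ i.val, H.pow_mem huH _, rfl⟩
  have hall : ∀ L ∈ 𝒴, ∃ h ∈ H, cj h L₁ = L := by
    intro L hL
    rcases hcases L hL with rfl | h
    · rcases hcases _ (hY h₀ _ hL) with h1 | h1
      · exact (hmv h1).elim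
      · obtain ⟨h, hh, h2⟩ := hO _ h1
        refine ⟨h₀⁻¹ * h, H.mul_mem (H.inv_mem hh₀) hh, ?_⟩
        rw [cj_mul, h2, ← cj_mul, inv_mul_cancel, cj_one]
    · exact hO L h
  intro L hL L' hL'
  obtain ⟨h, hh, h1⟩ := hall L hL
  obtain ⟨h', hh', h1'⟩ := hall L' hL'
  refine ⟨h' * h⁻¹, H.mul_mem hh' (H.inv_mem hh), ?_⟩
  rw [cj_mul, ← h1, ← cj_mul h⁻¹ h, inv_mul_cancel, cj_one, h1']

/-- one orbit on pairs -/
theorem card_pairs_one {𝒳 𝒴 : Set (Subgroup S)} (hX : 𝒳.Nonempty) (hYn : 𝒴.Nonempty)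
    (htr : ∀ H ∈ 𝒳, ∀ H' ∈ 𝒳, ∃ g : S, cj g H = H') (hY : ∀ g : S, ∀ L ∈ 𝒴, cj g L ∈ 𝒴)
    (h : ∀ H ∈ 𝒳, ∀ L ∈ 𝒴, ∀ L' ∈ 𝒴, ∃ h ∈ H, cj h L = L') :
    Nat.card (Quotient (pairRel 𝒳 𝒴)) = 1 := by
  obtain ⟨H₀, hH₀⟩ := hX
  obtain ⟨L₀, hL₀⟩ := hYn
  rw [Nat.card_eq_one_iff_unique]
  refine ⟨⟨?_⟩, ⟨Quotient.mk _ (⟨H₀, hH₀⟩, ⟨L₀, hL₀⟩)⟩⟩
  intro a b
  induction a using Quotient.inductionOn with
  | _ a =>
  induction b using Quotient.inductionOn with
  | _ b =>
  apply Quotient.sound
  obtain ⟨⟨H, hH⟩, ⟨L, hL⟩⟩ := a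
  obtain ⟨⟨H', hH'⟩, ⟨L', hL'⟩⟩ := b
  obtain ⟨g, hg⟩ := htr H hH H' hH'
  obtain ⟨t, ht, ht'⟩ := h H' hH' (cj g L) (hY g L hL) L' hL'
  refine ⟨t * g, ?_, ?_⟩
  · show cj (t * g) H = H'
    rw [cj_mul, hg, cj_self ht]
  · show cj (t * g) L = L'
    rw [cj_mul, ht']

/-- two orbits on pairs -/
theorem card_pairs_two {𝒳 : Set (Subgroup S)} {H₀ K₀ : Subgroup S} (hH₀ : H₀ ∈ 𝒳) (hK₀ : K₀ ∈ 𝒳)
    (hne : H₀ ≠ K₀)
    (htr : ∀ H ∈ 𝒳, ∀ K ∈ 𝒳, H ≠ K → ∀ H' ∈ 𝒳, ∀ K' ∈ 𝒳, H' ≠ K' → ∃ g : S, cj g H = H' ∧ cj g K = K') :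
    Nat.card (Quotient (pairRel 𝒳 𝒳)) = 2 := by
  rw [Nat.card_eq_two_iff]
  refine ⟨Quotient.mk _ (⟨H₀, hH₀⟩, ⟨H₀, hH₀⟩), Quotient.mk _ (⟨H₀, hH₀⟩, ⟨K₀, hK₀⟩), ?_, ?_⟩
  · intro h
    obtain ⟨g, h1, h2⟩ := Quotient.exact h
    exact hne (h1.symm.trans h2)
  · rw [Set.eq_univ_iff_forall]
    intro a
    induction a using Quotient.inductionOn with
    | _ a =>
    obtain ⟨⟨H, hH⟩, ⟨K, hK⟩⟩ := a
    by_cases h : H = K
    · left
      subst h
      apply Quotient.sound
      by_cases h' : H = H₀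
      · subst h'
        exact ⟨1, cj_one H, cj_one H⟩
      · obtain ⟨g, h1, -⟩ := htr H hH H₀ hH₀ h' H₀ hH₀ K₀ hK₀ hne
        exact ⟨g, h1, h1⟩
    · right
      apply Quotient.sound
      obtain ⟨g, h1, h2⟩ := htr H hH K hK h H₀ hH₀ K₀ hK₀ hne
      exact ⟨g, h1, h2⟩

end orb

theorem card_stab {S : Type*} [Group S] [Finite S] {X : Type*} [MulAction S X] [Finite X]
    (h1 : MulAction.IsPretransitive S X) (x : X) :
    Nat.card (MulAction.stabilizer S x) * Nat.card X = Nat.card S := by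
  have h2 := MulAction.index_stabilizer_of_transitive S x
  rw [← h2]
  exact Subgroup.card_mul_index _

/-- **`M12` normal of 2-power index.** -/
theorem concl_twelve {G : Type u} [Group G] [Fintype G] {M : Ideal AlgInt} (hM : IsPModular 2 M)
    (N : Subgroup G) [N.Normal] [Fintype N] (hidx : ∃ j : ℕ, N.index = 2 ^ j) {X : Type v} [MulAction N X]
    [Finite X] (h4 : MulAction.IsMultiplyPretransitive N X 4) (hX : Nat.card X = 12) [IsSimpleGroup N]
    (hN : Nat.card N = 95040) (hout : (Inn N).index = 2) {k : ℕ} (hk : IsK G k) : Concl M G N k := by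
  classical
  have h2 : MulAction.IsMultiplyPretransitive N X 2 :=
    MulAction.isMultiplyPretransitive_of_le (n := 4) (by norm_num) (by omega)
  have h1' : MulAction.IsMultiplyPretransitive N X 1 :=
    MulAction.isMultiplyPretransitive_of_le (n := 4) (by norm_num) (by omega)
  have h1 : MulAction.IsPretransitive N X := by
    rw [← MulAction.is_one_pretransitive_iff]
    exact h1'
  by_cases hst : ∀ g : G, ∀ H ∈ stabs N X, cmap N g H ∈ stabs N X
  · exact concl_of_stabs hM N h4 (by omega) (by rw [hX]; decide) hst hk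
  set 𝒳 : Set (Subgroup N) := stabs N X with h𝒳
  have hst' := hst
  push Not at hst'
  obtain ⟨g₀, H₁, hH₁, hH₁'⟩ := hst'
  set 𝒴 : Set (Subgroup N) := (fun H => cmap N g₀ H) '' 𝒳 with h𝒴
  have hcm : ∀ (n : N) (H : Subgroup N), cmap N (n : G) H = cj n H := fun n H => cmap_coe N n H
  have hXN : ∀ g : N, ∀ H ∈ 𝒳, cj g H ∈ 𝒳 := fun g H hH => stabs_conj g H hH
  -- transitivity
  have htr : ∀ H ∈ 𝒳, ∀ H' ∈ 𝒳, ∃ g : N, cj g H = H' := by
    rintro _ ⟨x, rfl⟩ _ ⟨y, rfl⟩
    obtain ⟨g, hg⟩ := MulAction.exists_smul_eq N x y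
    refine ⟨g, ?_⟩
    show _ = MulAction.stabilizer N y
    rw [← hg]
    exact (MulAction.stabilizer_smul_eq_stabilizer_map_conj g x).symm
  have hself : ∀ H ∈ 𝒳, ∀ g : N, cj g H = H → g ∈ H := by
    rintro _ ⟨x, rfl⟩ g hg
    have h3 : MulAction.stabilizer N (g • x) = MulAction.stabilizer N x := by
      rw [MulAction.stabilizer_smul_eq_stabilizer_map_conj]
      exact hg
    exact stab_inj h2 (by omega) h3
  -- moving `N` through `g₀`
  have hswap : ∀ (g : G) (n : N) (H : Subgroup N), cmap N g (cj n H) = cj (MulAut.conjNormal g n) (cmap N g H) := by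
    intro g n H
    rw [← hcm, ← hcm, ← cmap_mul, ← cmap_mul, MulAut.conjNormal_apply]
    congr 1
    group
  have hYN : ∀ g : N, ∀ H ∈ 𝒴, cj g H ∈ 𝒴 := by
    rintro g _ ⟨K, hK, rfl⟩
    refine ⟨cj (MulAut.conjNormal g₀⁻¹ g) K, hXN _ _ hK, ?_⟩
    show cmap N g₀ (cj _ K) = cj g (cmap N g₀ K)
    rw [hswap]
    congr 1
    apply Subtype.ext
    rw [MulAut.conjNormal_apply, MulAut.conjNormal_apply]
    group
  -- inner and outer elements
  have hinn : ∀ g : G, (MulAut.conjNormal g : MulAut N) ∈ Inn N → ∀ H ∈ 𝒳, cmap N g H ∈ 𝒳 := by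
    rintro g ⟨s, hs⟩ H hH
    have h3 : cmap N g H = cj s H := by
      rw [cmap, ← hs]
      rfl
    rw [h3]
    exact hXN s H hH
  have hg₀ : (MulAut.conjNormal g₀ : MulAut N) ∉ Inn N := fun h => hH₁' (hinn g₀ h H₁ hH₁)
  have hα : ∀ g : G, ((∀ H ∈ 𝒳, cmap N g H ∈ 𝒳) ∧ (∀ H ∈ 𝒴, cmap N g H ∈ 𝒴)) ∨
      ((∀ H ∈ 𝒳, cmap N g H ∈ 𝒴) ∧ (∀ H ∈ 𝒴, cmap N g H ∈ 𝒳)) := by
    intro g
    by_cases hg : (MulAut.conjNormal g : MulAut N) ∈ Inn N
    · left
      refine ⟨hinn g hg, ?_⟩
      obtain ⟨s, hs⟩ := hg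
      intro H hH
      have h3 : cmap N g H = cj s H := by
        rw [cmap, ← hs]
        rfl
      rw [h3]
      exact hYN s H hH
    · right
      constructor
      · intro H hH
        refine ⟨cmap N (g₀⁻¹ * g) H, hinn _ ?_ H hH, ?_⟩
        · rw [map_mul, Subgroup.mul_mem_iff_of_index_two hout, map_inv, inv_mem_iff]
          exact ⟨fun h => (hg₀ h).elim, fun h => (hg h).elim⟩
        · show cmap N g₀ (cmap N (g₀⁻¹ * g) H) = _
          rw [← cmap_mul, mul_inv_cancel_left]
      · rintro _ ⟨K, hK, rfl⟩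
        show cmap N g (cmap N g₀ K) ∈ 𝒳
        rw [← cmap_mul]
        refine hinn _ ?_ K hK
        rw [map_mul, Subgroup.mul_mem_iff_of_index_two hout]
        exact ⟨fun h => (hg h).elim, fun h => (hg₀ h).elim⟩
  -- disjoint
  have hdis : Disjoint 𝒳 𝒴 := by
    rw [Set.disjoint_left]
    rintro _ h3 ⟨K, hK, rfl⟩
    obtain ⟨n, hn⟩ := htr K hK H₁ hH₁
    apply hH₁'
    rw [← hn, hswap]
    exact hXN _ _ h3
  -- the size of the classes
  have hXc : Nat.card 𝒳 = 12 := by rw [← hX]; exact (Nat.card_congr (stabEquiv h2 (by omega))).symm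
  have hYc : Nat.card 𝒴 = 12 := by
    rw [← hXc]
    refine Nat.card_image_of_injective (f := fun H => cmap N g₀ H) ?_ 𝒳
    intro H K h
    have h3 := congrArg (cmap N g₀⁻¹) (show cmap N g₀ H = cmap N g₀ K from h)
    rwa [← cmap_mul, ← cmap_mul, inv_mul_cancel, cmap_one, cmap_one] at h3
  have hcH : ∀ H ∈ 𝒳, Nat.card H = 7920 := by
    rintro _ ⟨x, rfl⟩
    have h3 := card_stab h1 x
    rw [hX, hN] at h3
    show Nat.card (MulAction.stabilizer N x) = 7920
    omega
  have hcL : ∀ L ∈ 𝒴, Nat.card L = 7920 := by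
    rintro _ ⟨K, hK, rfl⟩
    rw [← hcH K hK]
    exact (Nat.card_congr (K.equivMapOfInjective _ (MulEquiv.injective _)).toEquiv).symm
  have hselfY : ∀ L ∈ 𝒴, ∀ g : N, cj g L = L → g ∈ L := by
    rintro _ ⟨K, hK, rfl⟩ g hg
    have h3 : cj (MulAut.conjNormal g₀⁻¹ g) K = K := by
      have h4 := congrArg (cmap N g₀⁻¹) hg
      rw [hswap] at h4
      simpa only [← cmap_mul, inv_mul_cancel, cmap_one] using h4
    have h4 := hself K hK _ h3
    refine ⟨_, h4, ?_⟩
    show MulAut.conjNormal g₀ (MulAut.conjNormal g₀⁻¹ g) = g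
    apply Subtype.ext
    rw [MulAut.conjNormal_apply, MulAut.conjNormal_apply]
    group
  have htop : ∀ L ∈ 𝒴, L ≠ ⊤ := by
    rintro L hL rfl
    have h3 := hcL _ hL
    rw [Subgroup.card_top, hN] at h3
    omega
  have hXne : 𝒳.Nonempty := ⟨H₁, hH₁⟩
  have hYne : 𝒴.Nonempty := ⟨_, H₁, hH₁, rfl⟩
  have hone : Nat.card (Quotient (pairRel 𝒳 𝒴)) = 1 := by
    refine card_pairs_one hXne hYne htr hYN fun H hH => ?_
    haveI : Fact (Nat.Prime 11) := ⟨by norm_num⟩
    obtain ⟨u, hu⟩ := exists_prime_orderOf_dvd_card' 11 (G := H) (by rw [hcH H hH]; norm_num)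
    refine trans_of_eleven hYc hYN hselfY (fun h => Set.disjoint_left.1 hdis hH h) ?_ htop
      (u := (u : N)) (by rw [Subgroup.orderOf_coe, hu]) u.2
    intro L hL
    rw [hcL L hL, hcH H hH]
  have htwo : Nat.card (Quotient (pairRel 𝒳 𝒳)) = 2 := by
    obtain ⟨x, rfl⟩ := hH₁
    haveI : Fintype X := Fintype.ofFinite X
    obtain ⟨y, hy⟩ : ∃ y : X, y ≠ x := Fintype.exists_ne_of_one_lt_card
      (by rw [← Nat.card_eq_fintype_card]; omega) x
    refine card_pairs_two (H₀ := MulAction.stabilizer N x) (K₀ := MulAction.stabilizer N y) ⟨x, rfl⟩ ⟨y, rfl⟩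
      (fun h => hy (stab_inj h2 (by omega) h).symm) ?_
    rintro _ ⟨a, rfl⟩ _ ⟨b, rfl⟩ hab _ ⟨a', rfl⟩ _ ⟨b', rfl⟩ hab'
    have e1 : a ≠ b := fun h => hab (by rw [h])
    have e2 : a' ≠ b' := fun h => hab' (by rw [h])
    obtain ⟨g, hg1, hg2⟩ := MulAction.is_two_pretransitive_iff.1 h2 e1 e2
    refine ⟨g, ?_, ?_⟩
    · show _ = MulAction.stabilizer N a'
      rw [← hg1]
      exact (MulAction.stabilizer_smul_eq_stabilizer_map_conj g a).symm
    · show _ = MulAction.stabilizer N b'
      rw [← hg2]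
      exact (MulAction.stabilizer_smul_eq_stabilizer_map_conj g b).symm
  refine concl_of_two hM N hidx hk 𝒳 𝒴 hdis hXne hXN hα hst ?_ (by rw [hone, htwo]; decide)
  -- the constituents
  intro φ hφ _
  letI := actS 𝒳 hXN
  have hfin : Finite 𝒳 := Subtype.finite
  have h2X : MulAction.IsMultiplyPretransitive N 𝒳 2 := by
    rw [MulAction.isMultiplyPretransitive_iff]
    intro x y
    obtain ⟨g, hg⟩ := stabs_trans h2 h2 (by omega) x y
    refine ⟨g, ?_⟩
    ext i : 1
    exact Subtype.ext (hg i)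
  refine mem_of_two_trans hM h2X (by rw [hXc]; norm_num) (by rw [hXc]; decide) φ ?_
  intro h0
  have h3 : mu (permS 𝒳) (φ : N → ℂ) = 0 := by
    apply mu_eq
    rw [permS_eq 𝒳 hXN]
    rw [Int.cast_zero]
    exact h0
  rw [h3] at hφ
  exact absurd hφ (by decide)

theorem act_m12 : Act4 Spor.M12 12 := by
  let d : Set GolayPt := (Spor.squareDodecad : Set GolayPt)
  have hd : ∀ g ∈ Spor.M12, ∀ x ∈ d, g x ∈ d := fun g hg x hx =>
    Cfsg.Agent.CoThreeStd.M12.smul_mem' hg hx
  have hc : Nat.card d = 12 := by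
    show Nat.card ↥(Spor.squareDodecad : Set GolayPt) = 12
    rw [Nat.card_coe_set_eq, Set.ncard_coe_finset, card_dod dod_mem]
  letI := actOn Spor.M12 d hd
  have h5 : MulAction.IsMultiplyPretransitive Spor.M12 d 5 := trans_on Spor.M12 d hd 5 fun x y hx hy => by
    obtain ⟨g, hg, -⟩ := Cfsg.Agent.S0384.result _ dod_mem x y hx hy
    exact ⟨((g : M24) : Equiv.Perm GolayPt), ⟨(g : M24).2, g.2⟩, hg⟩
  exact ⟨d, inferInstance, inferInstance,
    MulAction.isMultiplyPretransitive_of_le (n := 5) (by norm_num) (by rw [hc]; norm_num), hc⟩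

/-- the index of the inner automorphisms -/
theorem index_inn_congr {S T : Type*} [Group S] [Group T] (e : S ≃* T) : (Inn S).index = (Inn T).index := by
  have h1 : (Inn T).comap (MulAut.congr e).toMonoidHom = Inn S := by
    ext α
    rw [Subgroup.mem_comap]
    constructor
    · rintro ⟨t, ht⟩
      refine ⟨e.symm t, ?_⟩
      ext x
      have h1 := DFunLike.congr_fun ht (e x)
      have h2 : t * e x * t⁻¹ = e (α (e.symm (e x))) := h1
      rw [MulEquiv.symm_apply_apply] at h2
      have h3 := congrArg e.symm h2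
      rw [MulEquiv.symm_apply_apply, map_mul, map_mul, map_inv, MulEquiv.symm_apply_apply] at h3
      rw [MulAut.conj_apply, h3]
    · rintro ⟨s, rfl⟩
      refine ⟨e s, ?_⟩
      ext x
      show e s * x * (e s)⁻¹ = e (s * e.symm x * s⁻¹)
      rw [map_mul, map_mul, map_inv, MulEquiv.apply_symm_apply]
  rw [← h1]
  exact Subgroup.index_comap_of_surjective _ (MulEquiv.surjective _)

/-- **Row M12.** -/
theorem m12 {S : Type u} [Group S] (h : Spor.IsoM12 S) : EvenB S := by
  obtain ⟨e⟩ := h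
  intro G _ _ N _ _ ⟨f⟩ _ hidx k hk M hM
  let e' : N ≃* Spor.M12 := f.symm.trans e
  obtain ⟨X, hX, hf, h4, hc⟩ := act_m12.congr e'
  letI := hX
  have h12 := Cfsg.Agent.Schreier.MTwelve.isSimpleGroup
  haveI : IsSimpleGroup N := MulEquiv.isSimpleGroup e'
  exact concl_twelve hM N hidx h4 hc (by rw [Nat.card_congr e'.toEquiv, card_M12])
    (by rw [index_inn_congr e']; exact Cfsg.Agent.S2061.result) hk

end Cfsg.Agent.H273.EB
end

-- part: H333/EB/ON
section
/-!
# TEAM EB: the O'Nan group (helper333)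

`r = 5`, `x = v` of order 4, `C(v) = J = 4·L₃(4)`.

* `evenB_on`: `EvenB S` for `S ≅ O'N`.
-/

set_option autoImplicit false
set_option maxRecDepth 100000

namespace Cfsg.Agent.H333.EB.ON

open Cfsg Subgroup
open Cfsg.Spor (ON)
open Cfsg.Agent.H684.EB
open Cfsg.Agent.H333.EB.P1 Cfsg.Agent.H333.EB.Quo
open Cfsg.Agent.ONType.Psl (PSL3)
open Cfsg.Agent.KFacts.ON.Words (v)
open Cfsg.Agent.KFacts.ON.Struct (J mem_J)
open Cfsg.Agent.KFacts.ON.Cent (finite_ON)
open Cfsg.Agent.H474.ONC (x5 y5 order_x5 y5_conj order_v loc5 card_ON card_cent_x5 no_sq_five)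

universe u

theorem map_cent {A B : Type*} [Group A] [Group B] (ε : A ≃* B) (a : A) :
    (centralizer ({a} : Set A)).map ε.toMonoidHom = centralizer ({ε a} : Set B) := by
  ext b
  rw [mem_map, mem_centralizer_singleton_iff]
  constructor
  · rintro ⟨c, hc, rfl⟩
    rw [mem_centralizer_singleton_iff] at hc
    show ε c * ε a = ε a * ε c
    rw [← map_mul, hc, map_mul]
  · intro hb
    refine ⟨ε.symm b, ?_, ε.apply_symm_apply b⟩
    rw [mem_centralizer_singleton_iff]
    apply ε.injective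
    rw [map_mul, map_mul, ε.apply_symm_apply, hb]

theorem card_cent {A B : Type*} [Group A] [Group B] (ε : A ≃* B) (a : A) :
    Nat.card (centralizer ({a} : Set A)) = Nat.card (centralizer ({ε a} : Set B)) := by
  rw [← map_cent ε a]
  exact Nat.card_congr ((centralizer ({a} : Set A)).equivMapOfInjective ε.toMonoidHom ε.injective).toEquiv

/-- the elements of order 5 are conjugate -/
theorem conj_five {y : ON} (hy : orderOf y = 5) : IsConj x5 y := by
  have := finite_ON
  have h5 : Fact (Nat.Prime 5) := ⟨by norm_num⟩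
  obtain ⟨g, hg⟩ := CpAutON.Gen.conj_into no_sq_five hy order_x5
  have h1 : IsConj y (g * y * g⁻¹) := isConj_iff.2 ⟨g, rfl⟩
  have hsq : ∀ k : ℕ, IsConj (x5 ^ k) (x5 ^ (2 * k)) := by
    intro k
    refine isConj_iff.2 ⟨y5, ?_⟩
    rw [← conj_pow, y5_conj, pow_mul]
  have hx : x5 ^ 5 = 1 := by rw [← order_x5, pow_orderOf_eq_one]
  have c2 : IsConj x5 (x5 ^ 2) := by simpa only [_root_.isConj_iff, _root_.pow_one, _root_.mul_one] using hsq 1
  have c4 : IsConj x5 (x5 ^ 4) := c2.trans (by simpa only [_root_.isConj_iff, _root_.Nat.reduceMul] using hsq 2)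
  have c3 : IsConj x5 (x5 ^ 3) := by
    have h2 := hsq 4
    have h3 : x5 ^ (2 * 4) = x5 ^ 3 := by
      rw [show 2 * 4 = 5 + 3 by norm_num, pow_add, hx, one_mul]
    rw [h3] at h2
    exact c4.trans h2
  obtain ⟨n, hn⟩ := ((isOfFinOrder_of_finite x5).mem_powers_iff_mem_zpowers).2 hg
  have hn' : x5 ^ n = g * y * g⁻¹ := hn
  have h6 : x5 ^ n = x5 ^ (n % 5) := by
    have h := (pow_mod_orderOf x5 n).symm
    rwa [order_x5] at h
  rw [← hn', h6] at h1
  have h7 : n % 5 < 5 := Nat.mod_lt _ (by norm_num)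
  have h8 : y ≠ 1 := by
    rintro rfl
    rw [orderOf_one] at hy
    norm_num at hy
  generalize n % 5 = m at h1 h7
  interval_cases m
  · rw [pow_zero] at h1
    exact absurd (isConj_one_right.1 h1.symm) h8
  · rw [pow_one] at h1
    exact h1.symm
  · exact c2.trans h1.symm
  · exact c3.trans h1.symm
  · exact c4.trans h1.symm

/-- the number of `C(v)` -/
theorem nsum {C : Type u} [Group C] [Finite C] (φ : C ≃* J) {M : Ideal AlgInt} (hM : IsPModular 2 M) {y : C}
    (hy : orderOf y = 5) : ¬ MemLocalIdeal M (Nsum M 5 C y) := by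
  have := finite_ON
  have hf2 : Fact (Nat.Prime 2) := ⟨Nat.prime_two⟩
  obtain ⟨π, hπ, hker⟩ := H326.Four.RowON.exists_proj
  let ρ : C →* PSL3 := π.comp φ.toMonoidHom
  have hρ : Function.Surjective ρ := hπ.comp φ.surjective
  have hU : ρ.ker ≤ center C := by
    intro c hc
    have h1 : φ c ∈ π.ker := hc
    rw [hker] at h1
    rw [mem_center_iff]
    intro g
    apply φ.injective
    rw [map_mul, map_mul]
    exact mem_center_iff.1 h1 (φ g)
  have hUp : IsPGroup 2 ρ.ker := by
    intro c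
    refine ⟨2, Subtype.ext ?_⟩
    have h1 : φ (c : C) ∈ π.ker := c.2
    rw [hker] at h1
    have h2 := H474.ONC.center_J h1
    apply φ.injective
    apply Subtype.ext
    show ((φ ((c : C) ^ 2 ^ 2) : J) : ON) = ((φ 1 : J) : ON)
    rw [map_pow, map_one, Subgroup.coe_pow, OneMemClass.coe_one]
    obtain ⟨n, hn⟩ := h2
    have hn' : v ^ n = ((φ (c : C) : J) : ON) := hn
    have hv : v ^ 4 = 1 := by rw [← order_v, pow_orderOf_eq_one]
    rw [← hn', ← zpow_natCast, ← zpow_mul, mul_comm, zpow_mul, zpow_natCast, show (2 : ℕ) ^ 2 = 4 by norm_num, hv,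
      one_zpow]
  have hy2 : ¬ 2 ∣ orderOf y := by
    rw [hy]
    norm_num
  let ε : C ⧸ ρ.ker ≃* PSL3 := QuotientGroup.quotientKerEquivOfSurjective ρ hρ
  rw [Nsum_quot hM 5 hU hUp hy2]
  have := Fintype.ofFinite (C ⧸ ρ.ker)
  have := Fintype.ofFinite C
  refine L34.main hM ?_ ?_ ?_ ?_
  · rw [Nat.card_congr ε.toEquiv, ONType.PslCard.card_PSL3]
  · intro z hz
    rw [card_cent ε z]
    exact BpSpor.LFour.card_five (by rw [MulEquiv.orderOf_eq, hz])
  · intro t ht
    refine UGT.ThEP.p2 ε.symm t ?_ ?_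
    · rw [← pow_two, ← ht, pow_orderOf_eq_one]
    · rintro rfl
      rw [orderOf_one] at ht
      norm_num at ht
  · rw [orderOf_mk (p := 2) hU hUp hy2, hy]

/-- **The O'Nan group.** -/
theorem evenB_on {S : Type u} [Group S] (h : Cfsg.Spor.IsoON S) : EvenB S := by
  intro G _ _ N _ _ hN _ hidx k hk M hM
  obtain ⟨f⟩ := hN
  obtain ⟨e0⟩ := h
  let e : N ≃* ON := f.symm.trans e0
  have := finite_ON
  have h5 : Fact (Nat.Prime 5) := ⟨by norm_num⟩
  have hcard : Nat.card N = 460815505920 := by rw [Nat.card_congr e.toEquiv, card_ON]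
  have hy : orderOf (e.symm x5) = 5 := by rw [MulEquiv.orderOf_eq, order_x5]
  have hc180 : Nat.card (centralizer ({e.symm x5} : Set N)) = 180 := by
    rw [card_cent e, e.apply_symm_apply, card_cent_x5]
  have hxy : Commute (e.symm v) (e.symm x5) := by
    have h1 : v * x5 = x5 * v := loc5.comm
    show e.symm v * e.symm x5 = e.symm x5 * e.symm v
    rw [← map_mul, h1, map_mul]
  refine P1.concl (r := 5) hM hk N hidx (by norm_num) (by rw [hcard]; norm_num) hy ?_ ?_ (x := e.symm v) ?_ hxy ?_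
  · intro y' hy'
    have h1 : IsConj x5 (e y') := conj_five (by rw [MulEquiv.orderOf_eq, hy'])
    obtain ⟨c, hc⟩ := isConj_iff.1 h1
    refine isConj_iff.2 ⟨e.symm c, ?_⟩
    rw [← map_inv, ← map_mul, ← map_mul, hc, e.symm_apply_apply]
  · have h1 := index_mul_card (centralizer ({e.symm x5} : Set N))
    rw [hc180, hcard] at h1
    omega
  · exact ⟨2, by rw [MulEquiv.orderOf_eq, order_v]; norm_num⟩
  · have hJ : (centralizer ({e.symm v} : Set N)).map e.toMonoidHom = J := by
      rw [map_cent, e.apply_symm_apply]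
      rfl
    let φ : centralizer ({e.symm v} : Set N) ≃* J :=
      ((centralizer ({e.symm v} : Set N)).equivMapOfInjective e.toMonoidHom e.injective).trans
        (MulEquiv.subgroupCongr hJ)
    refine nsum φ hM ?_
    rw [← orderOf_coe]
    exact hy

end Cfsg.Agent.H333.EB.ON
end

-- part: H682/EB/LocEven
section
/-!
# S4522: `Loc r S` gives `EvenB S` (helper682)

The criterion (P1B) and the one block theorem for constrained groups are hypotheses here.
-/

set_option autoImplicit false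

namespace Cfsg.Agent.H682.EB

open Subgroup
open Cfsg Cfsg.Agent.H610.EB Cfsg.Agent.H684.EB

universe u

/-- statement of T03 (one block) for the group `C` -/
def OneB (C : Type u) [Group C] : Prop :=
  ∀ M : Ideal AlgInt, IsPModular 2 M → ∀ χ : IrrCharacter C, χ ∈ principalBlock M C

/-- `EvenB S` from `Loc r S`; `h3` is T03 for the centralizer, `h4` is T04 -/
theorem evenB_of_loc' {S : Type u} [Group S] {r : ℕ} (h : Loc r S) (h1 : ¬ r ^ 2 ∣ Nat.card S)
    (h3 : ∀ (x : S) (E : Subgroup (centralizer ({x} : Set S))), E.Normal → IsPGroup 2 E →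
      centralizer (E : Set (centralizer ({x} : Set S))) ≤ E → OneB (centralizer ({x} : Set S)))
    (h4 : ¬ r ^ 2 ∣ Nat.card S → ∀ y : S, orderOf y = r → IsConj y y⁻¹ → ∀ x : S, (∃ j : ℕ, orderOf x = 2 ^ j) →
      Commute x y → OneB (centralizer ({x} : Set S)) → EvenB S) : EvenB S := by
  obtain ⟨y, x, E, hy, hr, hx, hxy, hE, h5, h6, h7⟩ := h.ex
  refine h4 h1 y hy hr x ⟨1, by rw [hx, pow_one]⟩ hxy (h3 x (E.subgroupOf _) ?_ ?_ ?_)
  · refine ⟨fun n hn g => ?_⟩
    exact h6 g (mem_centralizer_singleton_iff.1 g.2) n hn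
  · intro e
    obtain ⟨k, hk⟩ := hE ⟨(e : centralizer ({x} : Set S)), e.2⟩
    refine ⟨k, ?_⟩
    apply Subtype.ext
    apply Subtype.ext
    exact congrArg (fun a : E => (a : S)) hk
  · intro c hc
    refine h7 c (mem_centralizer_singleton_iff.1 c.2) fun e he => ?_
    have h8 := mem_centralizer_iff.1 hc ⟨e, mem_centralizer_singleton_iff.2 (h5 e he)⟩ he
    exact (congrArg (fun a : centralizer ({x} : Set S) => (a : S)) h8).symm

end Cfsg.Agent.H682.EB
end

-- part: H682/EB/BabyLoc
section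
/-!
# S4522: `Loc 11` for the Baby Monster (helper682)

`C(2B) = 2^(1+22).Co₂`; the elements of order 11 are real.
-/

set_option autoImplicit false

namespace Cfsg.Agent.H682.EB

open Subgroup
open Cfsg Cfsg.Agent.BabyM Cfsg.Agent.BabyM.Model Cfsg.Agent.BabyU.ClosModel Cfsg.Agent.KFacts.AutLarge
open Cfsg.Agent.BabyU.ClosLane

universe u

theorem loc_b_model : Loc 11 Inst.M.G := by
  have hfin := A.finite_G
  have L := KFacts.Baby.Inst.large A
  have hC : Nat.card (centralizer ({zz A} : Set Inst.M.G)) = 2 ^ 23 * 42305421312000 := by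
    rw [Nat.card_congr (KFacts.Baby.Inst.eC A).toEquiv, A.grp.card_C]
  obtain ⟨w, hw, hr⟩ := H711.BabyReal.eleven
  have hx : orderOf (zz A) = 2 := by
    have := Fact.mk Nat.prime_two
    exact orderOf_eq_prime (by rw [pow_two]; exact L.z_sq) L.z_ne
  refine loc_of (by norm_num) ?_ hw hr hx (by rw [hC]; norm_num) (_root_.Cfsg.Agent.BabyU.ClosModel.PP Inst.M) (two A) L.comm_z ?_ ?_
  · rw [A.card_G]
    norm_num
  · intro c hc e he
    exact L.conj_mem c hc e he
  · intro c hc h
    exact L.self c hc h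

theorem loc_b {G : Type u} [Group G] (h : Spor.IsoB G) : Loc 11 G := by
  obtain ⟨e⟩ := h
  exact loc_b_model.congr (BM.KHAll.iso.symm.trans e.symm)

theorem card_b {G : Type u} [Group G] (h : Spor.IsoB G) : Nat.card G = 4154781481226426191177580544000000 := by
  obtain ⟨e⟩ := h
  rw [Nat.card_congr e.toEquiv]
  exact BM.KHAll.card_B

end Cfsg.Agent.H682.EB
end

-- part: H410/EB/Section
section
/-!
# TEAM EB: sections of elements of odd order

`concl_of_section`: Theorem R (H612/SectionR) for the principal 2-block: if all constituents of the section of `X`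
on `N` are in the principal 2-block of `N`, the conclusion of S4522 holds.
-/

set_option autoImplicit false
set_option linter.unusedSectionVars false

namespace Cfsg.Agent.H410.EB

open Cfsg Cfsg.Agent.Characters Cfsg.Agent.H694
open scoped ComplexConjugate
open Cfsg.Agent.Characters.Core
open Cfsg.Agent.OddOrderCharacters.NormalInduced (conjFn)
open Cfsg.Agent.OddOrderCharacters.PF9.CliffGen (resTo irr_ind)
open Cfsg.Agent.Blocks.Local Cfsg.Agent.Blocks.Basic
open Cfsg.Agent.Blocks.Covering (conjIrr conjIrr_conjIrr conjIrr_one conjIrr_apply conjIrr_at_one)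
open Cfsg.Agent.H610.EB Cfsg.Agent.H612.SectionR Cfsg.Agent.H684.EB

universe u

/-- a 2-subgroup covering a group above `S` modulo `S` -/
theorem exists_two_group {G : Type u} [Group G] [Finite G] (S : Subgroup G) [hS : S.Normal]
    (hidx : ∃ j : ℕ, S.index = 2 ^ j) (D : Subgroup G) :
    ∃ P : Subgroup G, IsPGroup 2 P ∧ P ≤ D ∧ ∀ d ∈ D, ∃ x ∈ P, ∃ s ∈ S, d = x * s := by
  have : Fact (Nat.Prime 2) := ⟨Nat.prime_two⟩
  obtain ⟨P⟩ : Nonempty (Sylow 2 D) := inferInstance
  have hN : (S.subgroupOf D).Normal := inferInstance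
  have htop : (P : Subgroup D) ⊔ S.subgroupOf D = ⊤ := by
    rw [← Subgroup.index_eq_one]
    obtain ⟨j, hj⟩ := hidx
    have h1 : ((P : Subgroup D) ⊔ S.subgroupOf D).index ∣ 2 ^ j := by
      rw [← hj]
      refine (Subgroup.index_dvd_of_le le_sup_right).trans ?_
      exact Subgroup.relIndex_dvd_index_of_normal S D
    have h2 : ((P : Subgroup D) ⊔ S.subgroupOf D).index ∣ (P : Subgroup D).index :=
      Subgroup.index_dvd_of_le le_sup_left
    have h3 : ¬ 2 ∣ (P : Subgroup D).index := P.not_dvd_index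
    have h4 : Nat.Coprime (2 ^ j) (P : Subgroup D).index :=
      Nat.Coprime.pow_left _ ((Nat.Prime.coprime_iff_not_dvd Nat.prime_two).2 h3)
    exact Nat.eq_one_of_dvd_coprimes h4 h1 h2
  refine ⟨(P : Subgroup D).map D.subtype, P.isPGroup'.map _, Subgroup.map_subtype_le _, ?_⟩
  intro d hd
  have h1 : (⟨d, hd⟩ : D) ∈ (P : Subgroup D) ⊔ S.subgroupOf D := by
    rw [htop]
    exact Subgroup.mem_top _
  obtain ⟨x, hx, s, hs, hxs⟩ := Subgroup.mem_sup_of_normal_right.1 h1
  exact ⟨x, ⟨x, hx, rfl⟩, s, hs, (congrArg Subtype.val hxs).symm⟩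

section

variable {G : Type u} [Group G] {e k : ℕ}

theorem sec_coe (N : Subgroup G) (X : Set G) :
    (fun n : N => sec e X (n : G)) = sec e {n : N | (n : G) ∈ X} := by
  funext n
  have h : n ^ e ∈ {n : N | (n : G) ∈ X} ↔ (n : G) ^ e ∈ X := by
    rw [Set.mem_ofPred_eq, Subgroup.coe_pow]
  by_cases hn : (n : G) ^ e ∈ X
  · rw [sec_of_mem hn, sec_of_mem (h.2 hn)]
  · rw [sec_of_notMem hn, sec_of_notMem (fun h' => hn (h.1 h'))]

theorem sec_conj {X : Set G} {g : G} (h : ∀ x, g * x * g⁻¹ ∈ X ↔ x ∈ X) (y : G) :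
    sec e X (g * y * g⁻¹) = sec e X y := by
  have h1 : (g * y * g⁻¹) ^ e = g * y ^ e * g⁻¹ := conj_pow
  by_cases hy : y ^ e ∈ X
  · rw [sec_of_mem hy, sec_of_mem]
    rw [h1]
    exact (h _).2 hy
  · rw [sec_of_notMem hy, sec_of_notMem]
    rw [h1]
    exact fun h' => hy ((h _).1 h')

variable [Fintype G]

theorem loc_coe {M : Ideal AlgInt} (hM : IsPModular 2 M) (he : OE G e) (N : Subgroup G) [Fintype N] {X : Set G}
    (hX : ∀ n ∈ N, ∀ x ∈ X, n * x * n⁻¹ ∈ X) (hXo : ∀ x ∈ X, Odd (orderOf x)) (φ : IrrCharacter N) :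
    MemLocalRing M (classInner (fun n : N => sec e X (n : G)) (φ : N → ℂ)) := by
  rw [sec_coe]
  refine loc_sec (he.sub N) hM (fun g x hx => hX g g.2 _ hx) (fun x hx => ?_) φ
  rw [← Subgroup.orderOf_coe]
  exact hXo _ hx

theorem real_coe (N : Subgroup G) [Fintype N] {X : Set G} (hXi : ∀ x ∈ X, x⁻¹ ∈ X) (φ : IrrCharacter N) :
    conj (classInner (fun n : N => sec e X (n : G)) (φ : N → ℂ)) =
      classInner (fun n : N => sec e X (n : G)) (φ : N → ℂ) :=
  Cfsg.Agent.H612.Base.conj_classInner (fun g => by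
    rw [Subgroup.coe_inv]
    exact sec_inv hXi _) (fun g => conj_sec X _) φ

end

/-- **Theorem R** for the principal 2-block. -/
theorem concl_of_section {G : Type u} [Group G] [Fintype G] {M : Ideal AlgInt} {k e : ℕ}
    (hM : IsPModular 2 M) (N : Subgroup G) [hN : N.Normal] [Fintype N]
    (hidx : ∃ j : ℕ, N.index = 2 ^ j) (hk : IsK G k) (he : OE G e) (X : Set G)
    (hXo : ∀ x ∈ X, Odd (orderOf x)) (hX1 : (1 : G) ∉ X) (hXi : ∀ x ∈ X, x⁻¹ ∈ X)
    (hXn : ∀ n ∈ N, ∀ x ∈ X, n * x * n⁻¹ ∈ X)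
    (hXd : ∀ g : G, (∃ x ∈ X, g * x * g⁻¹ ∈ X) → ∀ x ∈ X, g * x * g⁻¹ ∈ X)
    {a s c : ℕ} (hs : Nat.card {n : N // (n : G) ^ e ∈ X} = 2 ^ a * s) (hc : Nat.card N = 2 ^ a * c)
    (hs2 : ¬ 2 ∣ s)
    (hB : ∀ φ : IrrCharacter N, classInner (fun n : N => sec e X (n : G)) (φ : N → ℂ) ≠ 0 →
      φ ∈ principalBlock M N) : Concl M G N k := by
  classical
  have hprime : M.IsPrime := isPrime_of_isPModular hM
  have := charP_resField hM
  have : Fact (Nat.Prime 2) := ⟨Nat.prime_two⟩
  have := @Fintype.ofFinite (IrrCharacter N) finite_irr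
  have hKM := km_of_isK hk
  -- the coefficients
  set α : IrrCharacter N → ℂ := fun φ => classInner (fun n : N => sec e X (n : G)) (φ : N → ℂ) with hα
  have hαR : ∀ φ, MemLocalRing M (α φ) := fun φ => loc_coe hM he N hXn hXo φ
  have hαr : ∀ φ, conj (α φ) = α φ := fun φ => real_coe N hXi φ
  have hcfN : IsClassFunction N (fun n : N => sec e X (n : G)) := by
    rw [sec_coe]
    exact isClassFunction_sec fun g x hx => hXn g g.2 _ hx
  have hnorm : ∑ φ, α φ ^ 2 = classInner (fun n : N => sec e X (n : G)) (fun n : N => sec e X (n : G)) := by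
    rw [classInner_eq_sum hcfN hcfN]
    refine Finset.sum_congr rfl fun φ _ => ?_
    rw [pow_two]
    congr 1
    exact (hαr φ).symm
  have hunit : ¬ MemLocalIdeal M (classInner (fun n : N => sec e X (n : G)) (fun n : N => sec e X (n : G))) := by
    have hcardY : Nat.card {n : N // n ^ e ∈ {n : N | (n : G) ∈ X}} = 2 ^ a * s := by
      rw [← hs]
      exact Nat.card_congr (Equiv.subtypeEquivRight fun n => by rw [Set.mem_ofPred_eq, Subgroup.coe_pow])
    rw [sec_coe, norm_sec, hcardY, hc]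
    intro h3
    have hc0 : (c : ℂ) ≠ 0 := by
      rw [Nat.cast_ne_zero]
      rintro rfl
      rw [mul_zero] at hc
      exact Nat.card_pos.ne' hc
    have h4 := memLocalIdeal_mul_left (memLocalRing_natCast (M := M) c) h3
    have h5 : (c : ℂ) * (((2 ^ a * s : ℕ) : ℂ) / ((2 ^ a * c : ℕ) : ℂ)) = (s : ℂ) := by
      push_cast
      have h2a : ((2 : ℂ) ^ a) ≠ 0 := pow_ne_zero _ two_ne_zero
      field_simp
    rw [h5, memLocalIdeal_natCast_iff hM] at h4
    exact hs2 h4
  by_cases hst : ∀ g : G, ∀ x ∈ X, g * x * g⁻¹ ∈ X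
  · -- `X` is normal in `G`
    refine of_local_norm hM N hidx hk (Ψ := sec e X) (isClassFunction_sec hst)
      (fun χ => loc_sec he hM hst hXo χ) (fx_sec hKM he hXi) ?_
    have h1 : ∑ φ : IrrCharacter N, @ite _ (φ ∈ principalBlock M N) (Classical.dec _)
        (classInner (fun s : N => sec e X (s : G)) (φ : N → ℂ) ^ 2) 0 = ∑ φ, α φ ^ 2 := by
      refine Finset.sum_congr rfl fun φ _ => ?_
      by_cases h : φ ∈ principalBlock M N
      · rw [if_pos h]
      · rw [if_neg h]
        have h0 : α φ = 0 := by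
          by_contra h'
          exact h (hB φ h')
        rw [h0, zero_pow two_ne_zero]
    have h2 : ∑ φ : IrrCharacter N, @ite _ (φ ∈ principalBlock M N) (Classical.dec _)
        (classInner (fun s : N => sec e X (s : G)) (φ : N → ℂ) * (φ : N → ℂ) 1) 0 = 0 := by
      have h3 := congrFun (classFunction_eq_sum hcfN) 1
      rw [Finset.sum_apply] at h3
      have h4 : sec e X ((1 : N) : G) = 0 := sec_of_notMem (by
        rw [Subgroup.coe_one, one_pow]
        exact hX1)
      rw [h4] at h3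
      refine Eq.trans (Finset.sum_congr rfl fun φ _ => ?_) h3.symm
      rw [Pi.smul_apply, smul_eq_mul]
      by_cases h : φ ∈ principalBlock M N
      · rw [if_pos h]
      · rw [if_neg h]
        have h0 : α φ = 0 := by
          by_contra h'
          exact h (hB φ h')
        have h0' : classInner (fun n : N => sec e X (n : G)) (φ : N → ℂ) = 0 := h0
        rw [h0', zero_mul]
    rw [h1, h2, hnorm, zero_pow two_ne_zero, sub_zero]
    exact hunit
  · -- the stabilizer of `X`
    let A : Subgroup G :=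
      { carrier := {g | ∀ x, g * x * g⁻¹ ∈ X ↔ x ∈ X}
        one_mem' := by
          intro x
          simp
        mul_mem' := by
          intro a b ha hb x
          have h4 : a * b * x * (a * b)⁻¹ = a * (b * x * b⁻¹) * a⁻¹ := by group
          rw [h4, ha, hb]
        inv_mem' := by
          intro g hg x
          have h4 := hg (g⁻¹ * x * g⁻¹⁻¹)
          have h5 : g * (g⁻¹ * x * g⁻¹⁻¹) * g⁻¹ = x := by group
          rw [h5] at h4
          exact h4.symm }
    have hA : ∀ g, g ∈ A ↔ ∀ x, g * x * g⁻¹ ∈ X ↔ x ∈ X := fun g => Iff.rfl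
    have hNA : N ≤ A := by
      intro n hn x
      refine ⟨fun h => ?_, hXn n hn x⟩
      have := hXn n⁻¹ (N.inv_mem hn) _ h
      have h5 : n⁻¹ * (n * x * n⁻¹) * n⁻¹⁻¹ = x := by group
      rwa [h5] at this
    -- an element of `G` mapping one element of `X` into `X` is in `A`
    have hXA : ∀ g x, x ∈ X → g * x * g⁻¹ ∈ X → g ∈ A := by
      intro g x hx hgx y
      refine ⟨fun h => ?_, fun h => hXd g ⟨x, hx, hgx⟩ y h⟩
      have h1 := hXd g⁻¹ ⟨_, hgx, by
        have h5 : g⁻¹ * (g * x * g⁻¹) * g⁻¹⁻¹ = x := by group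
        rwa [h5]⟩ _ h
      have h5 : g⁻¹ * (g * y * g⁻¹) * g⁻¹⁻¹ = y := by group
      rwa [h5] at h1
    have hAtop : A ≠ ⊤ := by
      intro h3
      apply hst
      intro g x hx
      have : g ∈ A := by rw [h3]; exact Subgroup.mem_top g
      exact (this x).2 hx
    -- the union of the conjugates
    set Z : Set G := {x | ∃ g : G, g * x * g⁻¹ ∈ X} with hZ
    have hXZ : X ⊆ Z := fun x hx => ⟨1, by simpa using hx⟩
    have hZn : ∀ g : G, ∀ x ∈ Z, g * x * g⁻¹ ∈ Z := by
      rintro g x ⟨t, ht⟩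
      refine ⟨t * g⁻¹, ?_⟩
      have h3 : t * g⁻¹ * (g * x * g⁻¹) * (t * g⁻¹)⁻¹ = t * x * t⁻¹ := by group
      rwa [h3]
    have hZn' : ∀ g x, g * x * g⁻¹ ∈ Z ↔ x ∈ Z := by
      intro g x
      refine ⟨fun h => ?_, hZn g x⟩
      have := hZn g⁻¹ _ h
      have h5 : g⁻¹ * (g * x * g⁻¹) * g⁻¹⁻¹ = x := by group
      rwa [h5] at this
    have hZo : ∀ x ∈ Z, Odd (orderOf x) := by
      rintro x ⟨t, ht⟩
      have h3 := hXo _ ht
      have h4 : orderOf (t * x * t⁻¹) = orderOf x := by
        have := orderOf_injective (MulAut.conj t).toMonoidHom (MulAut.conj t).injective x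
        simpa using this
      rwa [h4] at h3
    have hZi : ∀ x ∈ Z, x⁻¹ ∈ Z := by
      rintro x ⟨t, ht⟩
      refine ⟨t, ?_⟩
      have h3 := hXi _ ht
      have h4 : (t * x * t⁻¹)⁻¹ = t * x⁻¹ * t⁻¹ := by group
      rwa [h4] at h3
    set β : IrrCharacter N → ℂ := fun φ => classInner (fun n : N => sec e Z (n : G)) (φ : N → ℂ) with hβ
    have hβR : ∀ φ, MemLocalRing M (β φ) := fun φ => loc_coe hM he N (fun n _ x hx => hZn n x hx) hZo φ
    have hβr : ∀ φ, conj (β φ) = β φ := fun φ => real_coe N hZi φ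
    have hcfZ : IsClassFunction N (fun n : N => sec e Z (n : G)) := by
      rw [sec_coe]
      exact isClassFunction_sec fun g x hx => hZn g _ hx
    have hmain : ∑ φ, α φ * β φ =
        classInner (fun n : N => sec e X (n : G)) (fun n : N => sec e X (n : G)) := by
      have h1 : classInner (fun n : N => sec e X (n : G)) (fun n : N => sec e X (n : G)) =
          classInner (fun n : N => sec e X (n : G)) (fun n : N => sec e Z (n : G)) := by
        rw [Core.classInner_def, Core.classInner_def]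
        congr 1
        refine Finset.sum_congr rfl fun n _ => ?_
        by_cases hn : (n : G) ^ e ∈ X
        · rw [sec_of_mem hn, sec_of_mem (hXZ hn)]
        · rw [sec_of_notMem hn, zero_mul, zero_mul]
      rw [h1, classInner_eq_sum hcfN hcfZ]
      refine Finset.sum_congr rfl fun φ _ => ?_
      congr 1
      exact (hβr φ).symm
    have hne : ∑ φ, redC M (α φ * β φ) ≠ 0 := by
      rw [← redC_sum fun φ _ => memLocalRing_mul (hαR φ) (hβR φ), Ne,
        redC_eq_zero_iff (memLocalRing_sum fun φ _ => memLocalRing_mul (hαR φ) (hβR φ)), hmain]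
      exact hunit
    -- a fixed character
    obtain ⟨P, hP2, hPA, hPN⟩ := exists_two_group N hidx A
    let _ := irrAct N P
    have hαA : ∀ d ∈ A, ∀ φ, α (conjIrr N d φ) = α φ := fun d hd φ =>
      classInner_conj_of_inv N d (fun s => by
        rw [MulAut.conjNormal_apply]
        exact sec_conj hd _) φ
    have hβA : ∀ d, ∀ φ, β (conjIrr N d φ) = β φ := fun d φ =>
      classInner_conj_of_inv N d (fun s => by
        rw [MulAut.conjNormal_apply]
        exact sec_conj (hZn' d) _) φ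
    obtain ⟨φ, hφ1, hφ2, hφ3⟩ := exists_fixed_ne (X := IrrCharacter N) (P := P) hP2
      (H610.Twist.pw (hk.sub N).coprime) (pw_pw (hk.sub N))
      (fun g φ => (conjIrr_pw N hk _ φ).symm) (fun φ => redC M (α φ * β φ))
      (by
        intro g φ
        show redC M (α (conjIrr N ((g⁻¹ : P) : G) φ) * β (conjIrr N ((g⁻¹ : P) : G) φ)) = _
        rw [hαA _ (hPA (g⁻¹).2), hβA])
      (by
        intro φ
        show redC M (α (H610.Twist.pw (hk.sub N).coprime φ) * β (H610.Twist.pw (hk.sub N).coprime φ)) =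
          redC M (α φ * β φ)
        have h1 : α (H610.Twist.pw (hk.sub N).coprime φ) = α φ :=
          classInner_pw (hk.sub N) (fun s => by
            rw [Subgroup.coe_pow]
            exact fx_sec hKM he hXi _) φ
        have h2 : β (H610.Twist.pw (hk.sub N).coprime φ) = β φ :=
          classInner_pw (hk.sub N) (fun s => by
            rw [Subgroup.coe_pow]
            exact fx_sec hKM he hZi _) φ
        rw [h1, h2]) hne
    have hφP : ∀ x ∈ P, conjIrr N x φ = φ := by
      intro x hx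
      have h1 : conjIrr N ((((⟨x, hx⟩ : P)⁻¹)⁻¹ : P) : G) φ = φ := hφ1 (⟨x, hx⟩ : P)⁻¹
      rwa [inv_inv] at h1
    have hφA : ∀ d ∈ A, conjIrr N d φ = φ := by
      intro d hd
      obtain ⟨x, hx, n, hn, rfl⟩ := hPN d hd
      rw [← conjIrr_conjIrr N n x, hφP x hx, conjIrr_mem_self N hn]
    have hα0 : redC M (α φ) ≠ 0 := by
      intro h
      apply hφ3
      show redC M (α φ * β φ) = 0
      rw [redC_mul (hαR φ) (hβR φ), h, zero_mul]
    have hβ0 : redC M (β φ) ≠ 0 := by
      intro h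
      apply hφ3
      show redC M (α φ * β φ) = 0
      rw [redC_mul (hαR φ) (hβR φ), h, mul_zero]
    have hα0' : ¬ MemLocalIdeal M (α φ) := fun h => hα0 ((redC_eq_zero_iff (hαR φ)).2 h)
    -- the inertia group is `A`
    let T : Subgroup G :=
      { carrier := {g | conjIrr N g φ = φ}
        one_mem' := conjIrr_one N φ
        mul_mem' := by
          intro a b ha hb
          show conjIrr N (a * b) φ = φ
          rw [← conjIrr_conjIrr N b a, show conjIrr N a φ = φ from ha, show conjIrr N b φ = φ from hb]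
        inv_mem' := by
          intro g hg
          show conjIrr N g⁻¹ φ = φ
          have h1 : conjIrr N g φ = φ := hg
          conv_lhs => rw [← h1]
          rw [conjIrr_conjIrr, mul_inv_cancel, conjIrr_one] }
    have hAT : A ≤ T := fun d hd => hφA d hd
    have hTA : A = T := by
      let f : G → N → ℂ := fun g n => sec e X (g⁻¹ * (n : G) * g)
      have hfA : ∀ g, ∀ a ∈ A, f (g * a) = f g := by
        intro g a ha
        funext n
        show sec e X ((g * a)⁻¹ * (n : G) * (g * a)) = sec e X (g⁻¹ * (n : G) * g)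
        have h1 : (g * a)⁻¹ * (n : G) * (g * a) = a⁻¹ * (g⁻¹ * (n : G) * g) * a⁻¹⁻¹ := by group
        rw [h1]
        exact sec_conj ((hA _).1 (A.inv_mem ha)) _
      have hfq : ∀ g : G, f (Quotient.out (g : G ⧸ A)) = f g := by
        intro g
        have h1 : g⁻¹ * Quotient.out (g : G ⧸ A) ∈ A := by
          rw [← QuotientGroup.eq]
          exact (QuotientGroup.out_eq' _).symm
        have h2 := hfA g _ h1
        rwa [mul_inv_cancel_left] at h2
      have := Fintype.ofFinite (G ⧸ A)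
      have hsum : (fun n : N => sec e Z (n : G)) = ∑ q : G ⧸ A, f (Quotient.out q) := by
        funext n
        rw [Finset.sum_apply]
        have hfm : ∀ g, f g n = 1 ↔ g⁻¹ * (n : G) ^ e * g ∈ X := by
          intro g
          have h1 : (g⁻¹ * (n : G) * g) ^ e = g⁻¹ * (n : G) ^ e * g := by
            have := conj_pow (i := e) (a := g⁻¹) (b := (n : G))
            simpa only [_root_.inv_inv] using this
          show sec e X (g⁻¹ * (n : G) * g) = 1 ↔ _
          rw [← h1]
          constructor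
          · intro h
            by_contra h'
            rw [sec_of_notMem h'] at h
            exact zero_ne_one h
          · exact fun h => sec_of_mem h
        have hf01 : ∀ g, f g n ≠ 1 → f g n = 0 := by
          intro g hg
          show sec e X (g⁻¹ * (n : G) * g) = 0
          refine sec_of_notMem fun h => hg ?_
          exact sec_of_mem h
        by_cases hn : (n : G) ^ e ∈ Z
        · obtain ⟨g, hg⟩ := hn
          rw [sec_of_mem (⟨g, hg⟩ : (n : G) ^ e ∈ Z), Finset.sum_eq_single ((g⁻¹ : G) : G ⧸ A)]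
          · rw [hfq, eq_comm, hfm, inv_inv]
            exact hg
          · intro q _ hq
            apply hf01
            intro h
            apply hq
            rw [hfm] at h
            have h1 : (Quotient.out q)⁻¹ * g⁻¹ ∈ A := by
              refine hXA _ _ hg ?_
              have h5 : (Quotient.out q)⁻¹ * g⁻¹ * (g * (n : G) ^ e * g⁻¹) * ((Quotient.out q)⁻¹ * g⁻¹)⁻¹ =
                (Quotient.out q)⁻¹ * (n : G) ^ e * Quotient.out q := by group
              rwa [h5]
            rw [← QuotientGroup.eq] at h1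
            rw [← h1]
            exact (QuotientGroup.out_eq' q).symm
          · intro h
            exact absurd (Finset.mem_univ _) h
        · rw [sec_of_notMem hn, Finset.sum_eq_zero]
          intro q _
          apply hf01
          intro h
          rw [hfm] at h
          apply hn
          exact ⟨(Quotient.out q)⁻¹, by rwa [inv_inv]⟩
      -- the coefficients
      let cc : G ⧸ A → ℂ := fun q => classInner (f (Quotient.out q)) (φ : N → ℂ)
      have hccR : ∀ q, MemLocalRing M (cc q) := by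
        intro q
        have h1 : f (Quotient.out q) = fun n : N => sec e {x | (Quotient.out q)⁻¹ * x * Quotient.out q ∈ X} (n : G) := by
          funext n
          have h2 : ((Quotient.out q)⁻¹ * (n : G) * Quotient.out q) ^ e =
              (Quotient.out q)⁻¹ * (n : G) ^ e * Quotient.out q := by
            have := conj_pow (i := e) (a := (Quotient.out q)⁻¹) (b := (n : G))
            simpa only [_root_.inv_inv] using this
          show sec e X ((Quotient.out q)⁻¹ * (n : G) * Quotient.out q) = _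
          by_cases h : (Quotient.out q)⁻¹ * (n : G) ^ e * Quotient.out q ∈ X
          · rw [sec_of_mem (by rw [h2]; exact h), sec_of_mem]
            exact h
          · rw [sec_of_notMem (by rw [h2]; exact h), sec_of_notMem]
            exact h
        show MemLocalRing M (classInner (f (Quotient.out q)) (φ : N → ℂ))
        rw [h1]
        refine loc_coe hM he N (fun n hn x hx => ?_) (fun x hx => ?_) φ
        · have h3 := hXn ((Quotient.out q)⁻¹ * n * (Quotient.out q)⁻¹⁻¹) (hN.conj_mem n hn _) _ hx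
          show (Quotient.out q)⁻¹ * (n * x * n⁻¹) * Quotient.out q ∈ X
          have h5 : (Quotient.out q)⁻¹ * n * (Quotient.out q)⁻¹⁻¹ * ((Quotient.out q)⁻¹ * x * Quotient.out q) *
            ((Quotient.out q)⁻¹ * n * (Quotient.out q)⁻¹⁻¹)⁻¹ = (Quotient.out q)⁻¹ * (n * x * n⁻¹) * Quotient.out q := by
            group
          rwa [h5] at h3
        · exact hZo x ⟨(Quotient.out q)⁻¹, by rw [inv_inv]; exact hx⟩
      have hβsum : β φ = ∑ q, cc q := by
        show classInner (fun n : N => sec e Z (n : G)) (φ : N → ℂ) = _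
        rw [hsum, classInner_sum_left]
      -- the action of the inertia group
      have hccT : ∀ t ∈ T, ∀ q : G ⧸ A, cc (t • q) = cc q := by
        intro t ht q
        have ht' : conjIrr N t⁻¹ φ = φ := T.inv_mem ht
        have h1 : f (Quotient.out (t • q)) = f (t * Quotient.out q) := by
          have h2 : t • q = ((t * Quotient.out q : G) : G ⧸ A) := by
            conv_lhs => rw [← QuotientGroup.out_eq' q]
            rfl
          rw [h2, hfq]
        have h3 : f (t * Quotient.out q) = f (Quotient.out q) ∘ (MulAut.conjNormal t⁻¹ : MulAut N) := by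
          funext n
          show sec e X ((t * Quotient.out q)⁻¹ * (n : G) * (t * Quotient.out q)) =
            sec e X ((Quotient.out q)⁻¹ * ((MulAut.conjNormal t⁻¹ : MulAut N) n : G) * Quotient.out q)
          rw [MulAut.conjNormal_apply]
          congr 1
          group
        show classInner (f (Quotient.out (t • q))) (φ : N → ℂ) = classInner (f (Quotient.out q)) (φ : N → ℂ)
        rw [h1, h3]
        have h4 : (φ : N → ℂ) = (φ : N → ℂ) ∘ (MulAut.conjNormal t⁻¹ : MulAut N) :=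
          (congrArg Subtype.val ht').symm
        conv_lhs => rw [h4]
        exact Clifford.classInner_comp_mulEquiv _ _ _
      obtain ⟨PT, hPT2, hPT, hPTN⟩ := exists_two_group N hidx T
      obtain ⟨q, hq, -, -⟩ := exists_fixed_ne (X := G ⧸ A) (P := PT) hPT2 id (fun _ => rfl) (fun _ _ => rfl)
        (fun q => redC M (cc q)) (fun t q => by
          show redC M (cc ((t : G) • q)) = redC M (cc q)
          rw [hccT t (hPT t.2)]) (fun _ => rfl) (by
          rw [← redC_sum fun q _ => hccR q, ← hβsum]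
          exact hβ0)
      obtain ⟨g, rfl⟩ := QuotientGroup.mk_surjective q
      have hTq : ∀ t ∈ T, g⁻¹ * t * g ∈ A := by
        intro t ht
        obtain ⟨x, hx, n, hn, rfl⟩ := hPTN t ht
        have h1 : (x : G) • ((g : G) : G ⧸ A) = ((g : G) : G ⧸ A) := hq ⟨x, hx⟩
        have h2 : g⁻¹ * (x * g) ∈ A := by
          rw [← QuotientGroup.eq]
          exact h1.symm
        have h3 : g⁻¹ * n * g⁻¹⁻¹ ∈ A := hNA (hN.conj_mem n hn _)
        have h4 := A.mul_mem h2 h3
        have h5 : g⁻¹ * (x * g) * (g⁻¹ * n * g⁻¹⁻¹) = g⁻¹ * (x * n) * g := by group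
        rwa [h5] at h4
      refine Subgroup.eq_of_le_of_card_ge hAT ?_
      refine Nat.card_le_card_of_injective (fun t : T => (⟨g⁻¹ * t * g, hTq t t.2⟩ : A)) ?_
      intro t t' h
      have h1 := congrArg Subtype.val h
      exact Subtype.ext (mul_left_cancel (mul_right_cancel h1))
    have hI : ∀ g, g ∈ A ↔ conjFn N (φ : N → ℂ) g = φ := by
      intro g
      rw [hTA]
      constructor
      · intro hg
        exact congrArg Subtype.val (show conjIrr N g φ = φ from hg)
      · intro hg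
        exact Subtype.ext hg
    have hφk := (H610.Twist.fixed_iff (hk.sub N).coprime φ).1 hφ2
    have hφ1' : (φ : N → ℂ) ≠ fun _ => 1 := by
      intro h1
      apply hAtop
      rw [eq_top_iff]
      intro g _
      rw [hI, h1]
      rfl
    -- the character of `A`
    have : Fintype A := Fintype.ofFinite _
    have : Fintype (N.subgroupOf A) := Fintype.ofFinite _
    obtain ⟨χ, hχk, -, hχodd⟩ := exists_odd_local hM (hk.sub A) (N.subgroupOf A) (irr_dn N A hNA φ.2)
      (by
        intro s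
        show (φ : N → ℂ) (Subgroup.subgroupOfEquivOfLe hNA (s ^ k)) = (φ : N → ℂ) (Subgroup.subgroupOfEquivOfLe hNA s)
        rw [map_pow, hφk]) (Ψ := fun t : A => sec e X (t : G))
      (by
        rw [sec_coe]
        exact isClassFunction_sec fun g x hx => ((hA _).1 g.2 _).2 hx)
      (fun χ => loc_coe hM he A (fun n hn x hx => ((hA _).1 hn x).2 hx) hXo χ)
      (fun g => by
        rw [Subgroup.coe_pow]
        exact fx_sec hKM he hXi _)
      (by
        have h1 := classInner_dn N A hNA (fun n : N => sec e X (n : G)) (φ : N → ℂ)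
        have h2 : (fun s : N.subgroupOf A => sec e X ((s : A) : G)) = dn N A hNA (fun n : N => sec e X (n : G)) := rfl
        rw [h2, h1]
        exact hα0')
    rw [mu_dn N A hNA] at hχodd
    exact of_inertia hM N hidx hk φ (hB φ (fun h => hα0' (by rw [hα]; simp only; rw [h]; exact memLocalIdeal_zero)))
      hφk hφ1' A hI hNA (π := (χ : A → ℂ)) (GC.of_irr χ.2) hχk hχodd (Or.inr hAtop)

end Cfsg.Agent.H410.EB
end

-- part: H410/EB/P1B
section
/-!
# TEAM EB: criterion (P1B)

* `vanish`: Brauer's second main theorem for a centralizer with one block;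
* `section_mem`: the constituents of the `r`-section of `y` (`r ∥ |S|`) are in the principal 2-block if a 2-element
  of `C(y)` has a centralizer with only one 2-block;
* `evenB_of_p1`.
-/

set_option autoImplicit false
set_option linter.unusedSectionVars false

namespace Cfsg.Agent.H410.EB

open Cfsg Cfsg.Agent.Characters Cfsg.Agent.H694
open scoped ComplexConjugate
open Cfsg.Agent.Characters.Core
open Cfsg.Agent.Blocks.Local Cfsg.Agent.Blocks.Basic
open Cfsg.Agent.H610.EB Cfsg.Agent.H612.SectionR Cfsg.Agent.H684.EB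
open Cfsg.Agent.Blocks.PrincipalSection

universe u

section general

variable {S : Type u} [Group S] [Fintype S]

theorem sum_norm_sq' [Fintype (IrrCharacter S)] (x : S) :
    (∑ χ : IrrCharacter S, ‖(χ : S → ℂ) x‖ ^ 2 : ℝ) = Nat.card (Subgroup.centralizer ({x} : Set S)) := by
  have h := (Cfsg.Agent.S0145.result x x).1 (IsConj.refl x)
  rw [finsum_eq_sum_of_fintype] at h
  have h2 : ((∑ χ : IrrCharacter S, ‖(χ : S → ℂ) x‖ ^ 2 : ℝ) : ℂ) =
      ((Nat.card (Subgroup.centralizer ({x} : Set S)) : ℝ) : ℂ) := by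
    push_cast
    rw [← h]
    refine Finset.sum_congr rfl fun χ _ => ?_
    rw [Complex.mul_conj']
  exact_mod_cast h2

theorem commute_left_of_mul {g x s : S} (h : Commute g (x * s)) (hxs : Commute x s)
    (hco : Nat.Coprime (orderOf x) (orderOf s)) : Commute g x := by
  obtain ⟨m, hm1, hm0⟩ := Nat.chineseRemainder hco 1 0
  have h1 : (x * s) ^ m = x := by
    rw [hxs.mul_pow]
    have e1 : x ^ m = x := by
      nth_rewrite 2 [← pow_one x]
      rw [pow_eq_pow_iff_modEq]
      exact hm1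
    have e2 : s ^ m = 1 := orderOf_dvd_iff_pow_eq_one.1 ((Nat.modEq_zero_iff_dvd).1 hm0)
    rw [e1, e2, mul_one]
  rw [← h1]
  exact h.pow_right m

/-- Brauer's second main theorem for a centralizer with one block -/
theorem vanish {p : ℕ} [Fact p.Prime] {M : Ideal AlgInt} (hM : IsPModular p M) (χ : IrrCharacter S)
    (hχ : χ ∉ principalBlock M S) (x : S) (hx : ∃ j : ℕ, orderOf x = p ^ j)
    (hC : ∀ ξ : IrrCharacter (Subgroup.centralizer ({x} : Set S)),
      ξ ∈ principalBlock M (Subgroup.centralizer ({x} : Set S)))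
    (s : S) (hs : ¬ p ∣ orderOf s) (hxs : Commute x s) : (χ : S → ℂ) (x * s) = 0 := by
  classical
  have : Finite (IrrCharacter S) := finite_irr
  have := Fintype.ofFinite (IrrCharacter S)
  set H := Subgroup.centralizer ({x} : Set S) with hH
  have : Finite (IrrCharacter H) := finite_irr
  have := Fintype.ofFinite (IrrCharacter H)
  have hsH : s ∈ H := Subgroup.mem_centralizer_singleton_iff.2 hxs.symm
  have hy : ¬ p ∣ orderOf (⟨s, hsH⟩ : H) := by rwa [Subgroup.orderOf_mk]
  have h1 := sum_principalBlock_section hM x hx hH ⟨s, hsH⟩ ⟨s, hsH⟩ hy hy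
  rw [← finsum_norm_sq (principalBlock M H), ← finsum_norm_sq (principalBlock M S) (x * s)] at h1
  have h2 : (∑ᶠ ζ ∈ principalBlock M S, ‖(ζ : S → ℂ) (x * s)‖ ^ 2 : ℝ) =
      ∑ᶠ ξ ∈ principalBlock M H, ‖(ξ : H → ℂ) ⟨s, hsH⟩‖ ^ 2 := by exact_mod_cast h1
  have h3 : (∑ᶠ ξ ∈ principalBlock M H, ‖(ξ : H → ℂ) ⟨s, hsH⟩‖ ^ 2 : ℝ) =
      Nat.card (Subgroup.centralizer ({⟨s, hsH⟩} : Set H)) := by
    rw [← sum_norm_sq', finsum_mem_eq_toFinset_sum]
    refine Finset.sum_congr ?_ fun _ _ => rfl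
    ext ξ
    simp only [hC ξ, _root_.Set.mem_toFinset, _root_.Finset.mem_univ]
  have h4 : Nat.card (Subgroup.centralizer ({x * s} : Set S)) ≤
      Nat.card (Subgroup.centralizer ({⟨s, hsH⟩} : Set H)) := by
    have hco : Nat.Coprime (orderOf x) (orderOf s) := by
      obtain ⟨j, hj⟩ := hx
      rw [hj]
      exact Nat.Coprime.pow_left j ((Nat.Prime.coprime_iff_not_dvd Fact.out).2 hs)
    have key : ∀ g ∈ Subgroup.centralizer ({x * s} : Set S), Commute g x ∧ Commute g s := by
      intro g hg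
      have hg' : Commute g (x * s) := Subgroup.mem_centralizer_singleton_iff.1 hg
      refine ⟨commute_left_of_mul hg' hxs hco, commute_left_of_mul (x := s) (s := x) ?_ hxs.symm hco.symm⟩
      rwa [← hxs.eq]
    refine Nat.card_le_card_of_injective
      (fun g : Subgroup.centralizer ({x * s} : Set S) =>
        (⟨⟨g, Subgroup.mem_centralizer_singleton_iff.2 (key g g.2).1⟩,
          Subgroup.mem_centralizer_singleton_iff.2 (Subtype.ext (key g g.2).2)⟩ :
          Subgroup.centralizer ({⟨s, hsH⟩} : Set H))) ?_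
    intro g g' h
    exact Subtype.ext (congrArg (fun t => ((t : H) : S)) (congrArg Subtype.val h))
  have h5 := sum_norm_sq' (x * s)
  rw [finsum_mem_eq_toFinset_sum] at h2
  have h6 : ‖(χ : S → ℂ) (x * s)‖ ^ 2 + ∑ ζ ∈ (principalBlock M S).toFinset, ‖(ζ : S → ℂ) (x * s)‖ ^ 2 ≤
      ∑ χ : IrrCharacter S, ‖(χ : S → ℂ) (x * s)‖ ^ 2 := by
    rw [← Finset.sum_insert (f := fun ζ : IrrCharacter S => ‖(ζ : S → ℂ) (x * s)‖ ^ 2) (by
      rw [Set.mem_toFinset]
      exact hχ)]
    exact Finset.sum_le_univ_sum_of_nonneg fun _ => by (clear * -; positivity)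
  rw [h2, h3, h5] at h6
  have h7 : (Nat.card (Subgroup.centralizer ({x * s} : Set S)) : ℝ) ≤
      Nat.card (Subgroup.centralizer ({⟨s, hsH⟩} : Set H)) := by exact_mod_cast h4
  have h8 : ‖(χ : S → ℂ) (x * s)‖ ^ 2 ≤ 0 := by linarith only [hsH, h6, h7]
  have h9 : ‖(χ : S → ℂ) (x * s)‖ = 0 := by
    have := sq_nonneg ‖(χ : S → ℂ) (x * s)‖
    exact pow_eq_zero_iff two_ne_zero |>.1 (le_antisymm h8 this)
  exact norm_eq_zero.1 h9

/-- an exponent for the `r`-part -/
theorem exists_rexp (S : Type*) [Group S] [Finite S] {r : ℕ} (hr : r.Prime) :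
    ∃ d b : ℕ, (∀ g : S, (∃ i : ℕ, g ^ r ^ i = 1) → g ^ d = g) ∧ (∀ g : S, ¬ r ∣ orderOf g → g ^ d = 1) ∧
      (∀ g : S, (g ^ d) ^ r ^ b = 1) ∧ ∀ g : S, ¬ r ∣ orderOf (g * (g ^ d)⁻¹) := by
  have : Fact r.Prime := ⟨hr⟩
  obtain ⟨b, n, hn, hG⟩ := Nat.exists_eq_pow_mul_and_not_dvd (n := Nat.card S)
    Nat.card_pos.ne' r hr.ne_one
  have hcop : Nat.Coprime (r ^ b) n := Nat.Coprime.pow_left b ((Nat.Prime.coprime_iff_not_dvd hr).2 hn)
  obtain ⟨d, hd1, hd0⟩ := Nat.chineseRemainder hcop 1 0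
  have hdv : ∀ g : S, orderOf g ∣ r ^ b * n := fun g => hG ▸ orderOf_dvd_natCard g
  refine ⟨d, b, ?_, ?_, ?_, ?_⟩
  · rintro g ⟨i, hi⟩
    have h1 : orderOf g ∣ r ^ b := by
      have h2 : Nat.Coprime (orderOf g) n :=
        Nat.Coprime.coprime_dvd_left (orderOf_dvd_of_pow_eq_one hi)
          (Nat.Coprime.pow_left i ((Nat.Prime.coprime_iff_not_dvd hr).2 hn))
      exact h2.dvd_of_dvd_mul_right (hdv g)
    nth_rewrite 2 [← pow_one g]
    rw [pow_eq_pow_iff_modEq]
    exact hd1.of_dvd h1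
  · intro g hg
    have h1 : orderOf g ∣ n := by
      have h2 : Nat.Coprime (orderOf g) (r ^ b) :=
        (Nat.Coprime.pow_left b ((Nat.Prime.coprime_iff_not_dvd hr).2 hg)).symm
      exact h2.dvd_of_dvd_mul_left (hdv g)
    exact orderOf_dvd_iff_pow_eq_one.1 (h1.trans ((Nat.modEq_zero_iff_dvd).1 hd0))
  · intro g
    rw [← pow_mul, ← orderOf_dvd_iff_pow_eq_one]
    refine (hdv g).trans ?_
    rw [mul_comm d]
    exact mul_dvd_mul dvd_rfl ((Nat.modEq_zero_iff_dvd).1 hd0)
  · intro g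
    have hc : Commute g (g ^ d)⁻¹ := (Commute.self_pow g d).inv_right
    have h1 : (g * (g ^ d)⁻¹) ^ n = 1 := by
      rw [hc.mul_pow, inv_pow, mul_inv_eq_one, ← pow_mul, pow_eq_pow_iff_modEq]
      have h5 : 1 * n ≡ d * n [MOD r ^ b * n] := (hd1.symm).mul_right' n
      rw [one_mul] at h5
      exact h5.of_dvd (hdv g)
    exact fun h2 => hn (h2.trans (orderOf_dvd_of_pow_eq_one h1))

/-- the centralizer of an element generating a Sylow subgroup of prime order has a normal complement -/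
theorem index_core {r : ℕ} [Fact r.Prime] (hr1 : ¬ r ^ 2 ∣ Nat.card S) (y : S) (hy : orderOf y = r) :
    (pPrimeCore r (Subgroup.centralizer ({y} : Set S))).index = r := by
  have hr : r.Prime := Fact.out
  set C := Subgroup.centralizer ({y} : Set S) with hC
  have hyC : y ∈ C := Subgroup.mem_centralizer_singleton_iff.2 rfl
  have hy' : orderOf (⟨y, hyC⟩ : C) = r := by rw [Subgroup.orderOf_mk, hy]
  have hcen : ∀ g : C, Commute g ⟨y, hyC⟩ := fun g => Subtype.ext (Subgroup.mem_centralizer_singleton_iff.1 g.2)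
  let Z : Subgroup C := Subgroup.zpowers ⟨y, hyC⟩
  have hZ : ∀ z ∈ Z, ∀ g : C, Commute g z := by
    rintro z ⟨i, rfl⟩ g
    exact (hcen g).zpow_right i
  have hZn : Z.Normal := ⟨fun z hz g => by
    rw [(hZ z hz g).eq, mul_inv_cancel_right]
    exact hz⟩
  have hcard : Nat.card Z = r := by rw [Nat.card_zpowers, hy']
  have hmul := Z.card_mul_index
  rw [hcard] at hmul
  have hrC : r ∣ Nat.card C := ⟨_, hmul.symm⟩
  have hni : ¬ r ∣ Z.index := by
    rintro ⟨m, hm⟩
    apply hr1
    refine (Dvd.intro m ?_ : r ^ 2 ∣ Nat.card C).trans (Subgroup.card_subgroup_dvd_card C)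
    rw [← hmul, hm]
    ring
  obtain ⟨K, hK⟩ := Subgroup.exists_right_complement'_of_coprime (N := Z)
    (by rw [hcard]; exact (Nat.Prime.coprime_iff_not_dvd hr).2 hni)
  have hKn : K.Normal := by
    refine ⟨fun k hk g => ?_⟩
    obtain ⟨⟨z, w⟩, hzw⟩ := hK.2 g
    have hg : g = z * w := hzw.symm
    have h1 : (z : C) * (w * k * (w : C)⁻¹) * (z : C)⁻¹ = w * k * (w : C)⁻¹ := by
      rw [← (hZ z z.2 _).eq, mul_inv_cancel_right]
    have h2 : g * k * g⁻¹ = (z : C) * (w * k * (w : C)⁻¹) * (z : C)⁻¹ := by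
      rw [hg]
      group
    rw [h2, h1]
    exact K.mul_mem (K.mul_mem w.2 hk) (K.inv_mem w.2)
  have hKc : Nat.card K = Z.index := by
    have h1 := hK.card_mul_card
    rw [hcard, ← hmul] at h1
    exact Nat.eq_of_mul_eq_mul_left hr.pos h1
  have hKi : K.index = r := by
    have h1 := K.card_mul_index
    rw [hKc, ← hmul, mul_comm] at h1
    exact Nat.eq_of_mul_eq_mul_right (Nat.pos_of_ne_zero (fun h0 => by
      rw [h0] at hni
      exact hni (dvd_zero _))) h1
  have hle : K ≤ pPrimeCore r C := Lib.Cores.le_pPrimeCore hKn (by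
    rw [hKc]
    exact ((Nat.Prime.coprime_iff_not_dvd hr).2 hni).symm)
  have h1 : (pPrimeCore r C).index ∣ K.index := Subgroup.index_dvd_of_le hle
  rw [hKi] at h1
  rcases (Nat.dvd_prime hr).1 h1 with h | h
  · exfalso
    rw [Subgroup.index_eq_one, Lib.Cores.pPrimeCore_eq_top_iff] at h
    exact (Nat.Prime.coprime_iff_not_dvd hr).1 h.symm hrC
  · exact h

end general

/-- the constituents of the `r`-section of `y` -/
theorem section_mem {S : Type u} [Group S] [Fintype S] {r : ℕ} [Fact r.Prime]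
    (hr1 : ¬ r ^ 2 ∣ Nat.card S) (y : S) (hy : orderOf y = r) {d : ℕ}
    (hd1 : ∀ g : S, (∃ i : ℕ, g ^ r ^ i = 1) → g ^ d = g) (hd2 : ∀ g : S, ¬ r ∣ orderOf g → g ^ d = 1)
    (hd4 : ∀ g : S, ¬ r ∣ orderOf (g * (g ^ d)⁻¹)) [DecidablePred fun g : S => IsConj y (g ^ d)] :
    Nat.card S = r * Nat.card {g : S // IsConj y (g ^ d)} ∧
    ∀ φ : IrrCharacter S,
      classInner (fun g : S => if IsConj y (g ^ d) then (1 : ℂ) else 0) (φ : S → ℂ) ≠ 0 →
      ∀ v : S, Commute y v → ¬ r ∣ orderOf v → (φ : S → ℂ) (y * v) ≠ 0 := by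
  classical
  have hr : r.Prime := Fact.out
  have hr0 : (r : ℂ) ≠ 0 := by exact_mod_cast hr.ne_zero
  have : Finite (IrrCharacter S) := finite_irr
  have := Fintype.ofFinite (IrrCharacter S)
  obtain ⟨M, hM⟩ := Blocks.ExistsModular.exists_isPModular hr
  set C := Subgroup.centralizer ({y} : Set S) with hC
  have hyC : y ∈ C := Subgroup.mem_centralizer_singleton_iff.2 rfl
  have hidx := index_core hr1 y hy
  have hnc : ∃ k : ℕ, (pPrimeCore r C).index = r ^ k := ⟨1, by rw [pow_one]; exact hidx⟩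
  have hyp : ∃ k : ℕ, orderOf y = r ^ k := ⟨1, by rw [hy, pow_one]⟩
  have hyr : ∃ i : ℕ, y ^ r ^ i = 1 := ⟨1, by rw [pow_one, ← hy, pow_orderOf_eq_one]⟩
  -- the number of elements of the section
  have hfib : Nat.card {g : S // g ^ d = y} = Nat.card (pPrimeCore r C) := by
    have hc1 : ∀ g : S, g ^ d = y → g * y⁻¹ ∈ C := by
      intro g hg
      refine Subgroup.mem_centralizer_singleton_iff.2 ?_
      have : Commute (g * y⁻¹) y := by
        rw [← hg]
        exact (Commute.self_pow g d).mul_left ((Commute.refl (g ^ d)).inv_left)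
      exact this
    refine Nat.card_congr ⟨fun g => ⟨⟨g.1 * y⁻¹, hc1 _ g.2⟩, ?_⟩, fun u => ⟨u.1.1 * y, ?_⟩, ?_, ?_⟩
    · apply mem_pPrimeCore_of_regular hnc
      rw [Subgroup.orderOf_mk]
      have := hd4 g.1
      rwa [g.2] at this
    · have h1 : Commute (u.1.1 : S) y := Subgroup.mem_centralizer_singleton_iff.1 u.1.2
      have h2 : ¬ r ∣ orderOf (u.1.1 : S) := by
        intro h3
        have h4 : orderOf (u.1.1 : S) = orderOf (u : pPrimeCore r C) := by
          rw [Subgroup.orderOf_coe, Subgroup.orderOf_coe]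
        rw [h4] at h3
        exact (Nat.Prime.coprime_iff_not_dvd hr).1 (Lib.Cores.pPrimeCore_coprime r).symm
          (h3.trans (orderOf_dvd_natCard _))
      rw [h1.mul_pow, hd2 _ h2, one_mul, hd1 y hyr]
    · intro g
      apply Subtype.ext
      simp
    · intro u
      apply Subtype.ext
      apply Subtype.ext
      simp
  have hcount : Nat.card S = r * Nat.card {g : S // IsConj y (g ^ d)} := by
    have h1 := Cfsg.Agent.H611.RealSection.card_section y d
    have h2 : (Finset.univ.filter fun g : S => g ^ d = y).card = Nat.card (pPrimeCore r C) := by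
      rw [← hfib, Nat.card_eq_fintype_card, Fintype.card_subtype]
    have h3 : (Finset.univ.filter fun g : S => IsConj y (g ^ d)).card =
        Nat.card {g : S // IsConj y (g ^ d)} := by
      rw [Nat.card_eq_fintype_card, Fintype.card_subtype]
    have h4 : Nat.card S * Nat.card (pPrimeCore r C) =
        Nat.card C * Nat.card {g : S // IsConj y (g ^ d)} := by
      rw [← h2, ← h3]
      convert (by exact_mod_cast h1 : Nat.card S * _ = Nat.card C * _)
    rw [← (pPrimeCore r C).card_mul_index, hidx] at h4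
    have h5 : Nat.card (pPrimeCore r C) * Nat.card S =
        Nat.card (pPrimeCore r C) * (r * Nat.card {g : S // IsConj y (g ^ d)}) := by
      rw [mul_comm, h4]
      ring
    exact Nat.eq_of_mul_eq_mul_left Nat.card_pos h5
  refine ⟨hcount, ?_⟩
  set m := Nat.card {g : S // IsConj y (g ^ d)} with hm
  have hS0 : (Nat.card S : ℂ) ≠ 0 := card_ne_zero_complex
  have hm' : (Nat.card S : ℂ) = r * m := by exact_mod_cast hcount
  have hm0 : (m : ℂ) ≠ 0 := by
    intro h0
    rw [h0, mul_zero] at hm'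
    exact hS0 hm'
  set F : S → ℂ := fun g : S => if IsConj y (g ^ d) then (1 : ℂ) else 0 with hF
  have hFcf : IsClassFunction S F := by
    intro g t
    have h1 : (t * g * t⁻¹) ^ d = t * g ^ d * t⁻¹ := conj_pow
    have h2 : IsConj (g ^ d) (t * g ^ d * t⁻¹) := isConj_iff.2 ⟨t, rfl⟩
    show (if IsConj y ((t * g * t⁻¹) ^ d) then (1 : ℂ) else 0) = if IsConj y (g ^ d) then (1 : ℂ) else 0
    by_cases h : IsConj y (g ^ d)
    · rw [if_pos h, if_pos (by rw [h1]; exact h.trans h2)]
    · rw [if_neg h, if_neg (by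
        rw [h1]
        exact fun h' => h (h'.trans h2.symm))]
  have hsumF : ∑ g : S, F g = m := by
    rw [hF]
    simp only
    rw [Finset.sum_boole, hm, Nat.card_eq_fintype_card, Fintype.card_subtype]
  -- members of the principal `r`-block
  have hconst : ∀ φ ∈ principalBlock M S, ∀ v : S, Commute y v → ¬ r ∣ orderOf v →
      (φ : S → ℂ) (y * v) = (φ : S → ℂ) y := by
    intro φ hφ v hyv hv
    refine Cfsg.Agent.S0942.result r M hM y hyp v ?_ φ hφ
    have hvC : v ∈ C := Subgroup.mem_centralizer_singleton_iff.2 hyv.symm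
    exact ⟨⟨v, hvC⟩, mem_pPrimeCore_of_regular hnc (by rwa [Subgroup.orderOf_mk]), rfl⟩
  have hcoef : ∀ φ ∈ principalBlock M S, classInner F (φ : S → ℂ) = (r : ℂ)⁻¹ * conj ((φ : S → ℂ) y) := by
    intro φ hφ
    have h1 : ∀ g : S, F g * conj ((φ : S → ℂ) g) = F g * conj ((φ : S → ℂ) y) := by
      intro g
      by_cases h : IsConj y (g ^ d)
      · congr 2
        obtain ⟨t, ht⟩ := isConj_iff.1 h.symm
        have h2 : (t * g * t⁻¹) ^ d = y := by
          rw [conj_pow, ht]
        have h3 : (φ : S → ℂ) g = (φ : S → ℂ) (t * g * t⁻¹) :=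
          (isCharacter_isClassFunction (isIrr_isCharacter φ.2) g t).symm
        rw [h3]
        set g' := t * g * t⁻¹ with hg'
        have h4 : g' = y * (g' * (g' ^ d)⁻¹) := by
          rw [h2]
          have h5 : Commute g' y := by
            rw [← h2]
            exact Commute.self_pow g' d
          have h6 : Commute y (g' * y⁻¹) := (h5.symm).mul_right ((Commute.refl y).inv_right)
          rw [h6.eq, inv_mul_cancel_right]
        have h5 : Commute y (g' * (g' ^ d)⁻¹) := by
          rw [h2]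
          have h5 : Commute g' y := by
            rw [← h2]
            exact Commute.self_pow g' d
          exact (h5.symm).mul_right ((Commute.refl y).inv_right)
        rw [h4]
        exact hconst φ hφ _ h5 (hd4 g')
      · have h2 : F g = 0 := if_neg h
        rw [h2, zero_mul, zero_mul]
    rw [Core.classInner_def, Finset.sum_congr rfl fun g _ => h1 g, ← Finset.sum_mul, hsumF, hm']
    field_simp
  -- the norm
  have hnorm : classInner F F = (r : ℂ)⁻¹ := by
    have h1 : ∀ g : S, F g * conj (F g) = F g := by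
      intro g
      by_cases h : IsConj y (g ^ d)
      · have h2 : F g = 1 := if_pos h
        rw [h2, map_one, one_mul]
      · have h2 : F g = 0 := if_neg h
        rw [h2, zero_mul]
    rw [Core.classInner_def, Finset.sum_congr rfl fun g _ => h1 g, hsumF, hm']
    field_simp
  have hpos : (Nat.card C).factorization r = 1 := by
    have h1 := index_pPrimeCore_eq hnc
    rw [hidx] at h1
    exact (Nat.pow_right_injective hr.two_le (by simpa only [_root_.pow_one, _root_.Nat.card_eq_fintype_card] using h1)).symm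
  have hblock : ∑ φ ∈ (principalBlock M S).toFinset, (φ : S → ℂ) y * conj ((φ : S → ℂ) y) = r := by
    have h1 := sum_principalBlock_section hM y hyp hC 1 1 (by
      rw [orderOf_one]
      exact fun h => hr.one_lt.ne' (Nat.dvd_one.1 h)) (by
      rw [orderOf_one]
      exact fun h => hr.one_lt.ne' (Nat.dvd_one.1 h))
    rw [sum_principalBlock_of_pComplement hM hnc (by
      rw [orderOf_one]
      exact fun h => hr.one_lt.ne' (Nat.dvd_one.1 h)) (by
      rw [orderOf_one]
      exact fun h => hr.one_lt.ne' (Nat.dvd_one.1 h)), hpos, pow_one, finsum_mem_eq_toFinset_sum,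
      Subgroup.coe_one, mul_one] at h1
    exact h1
  -- the coefficients outside the principal block vanish
  have hzero : ∀ φ : IrrCharacter S, φ ∉ principalBlock M S → classInner F (φ : S → ℂ) = 0 := by
    have h1 : classInner F F = ∑ φ : IrrCharacter S, classInner F (φ : S → ℂ) * conj (classInner F (φ : S → ℂ)) :=
      classInner_eq_sum hFcf hFcf
    have h2 : ∑ φ ∈ (principalBlock M S).toFinset,
        classInner F (φ : S → ℂ) * conj (classInner F (φ : S → ℂ)) = (r : ℂ)⁻¹ := by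
      have h3 : ∀ φ ∈ (principalBlock M S).toFinset,
          classInner F (φ : S → ℂ) * conj (classInner F (φ : S → ℂ)) =
            (r : ℂ)⁻¹ * (r : ℂ)⁻¹ * ((φ : S → ℂ) y * conj ((φ : S → ℂ) y)) := by
        intro φ hφ
        rw [hcoef φ (Set.mem_toFinset.1 hφ), map_mul, map_inv₀, map_natCast, Complex.conj_conj]
        ring
      rw [Finset.sum_congr rfl h3, ← Finset.mul_sum, hblock]
      field_simp
    have h3 : ∑ φ ∈ (principalBlock M S).toFinsetᶜ, ‖classInner F (φ : S → ℂ)‖ ^ 2 = 0 := by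
      have h4 := Finset.sum_add_sum_compl (principalBlock M S).toFinset
        (fun φ : IrrCharacter S => classInner F (φ : S → ℂ) * conj (classInner F (φ : S → ℂ)))
      rw [h2, ← h1, hnorm] at h4
      have h5 : ∑ φ ∈ (principalBlock M S).toFinsetᶜ,
          classInner F (φ : S → ℂ) * conj (classInner F (φ : S → ℂ)) = 0 := by
        linear_combination h4
      have h6 : ((∑ φ ∈ (principalBlock M S).toFinsetᶜ, ‖classInner F (φ : S → ℂ)‖ ^ 2 : ℝ) : ℂ) = 0 := by
        rw [← h5]
        push_cast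
        refine Finset.sum_congr rfl fun φ _ => ?_
        rw [Complex.mul_conj']
      exact_mod_cast h6
    intro φ hφ
    have h4 := (Finset.sum_eq_zero_iff_of_nonneg (fun _ _ => by (clear * -; positivity))).1 h3 φ (by
      rw [Finset.mem_compl, Set.mem_toFinset]
      exact hφ)
    exact norm_eq_zero.1 (pow_eq_zero_iff two_ne_zero |>.1 h4)
  intro φ hφ v hyv hv h0
  have hφB : φ ∈ principalBlock M S := by
    by_contra h
    exact hφ (hzero φ h)
  rw [hconst φ hφB v hyv hv] at h0
  apply hφ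
  rw [hcoef φ hφB, h0, map_zero, mul_zero]

theorem oneBlock_congr {C C' : Type u} [Group C] [Group C'] (e : C ≃* C') {M : Ideal AlgInt}
    (h : OneBlock M C) : OneBlock M C' := fun χ => (pull_mem e χ).1 (h (pull e χ))

theorem oneBlock_centralizer {S T : Type u} [Group S] [Group T] (f : S ≃* T) {M : Ideal AlgInt} (x : S)
    (h : OneBlock M (Subgroup.centralizer ({x} : Set S))) :
    OneBlock M (Subgroup.centralizer ({f x} : Set T)) := by
  have h1 : (Subgroup.centralizer ({x} : Set S)).map f.toMonoidHom = Subgroup.centralizer ({f x} : Set T) := by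
    ext t
    constructor
    · rintro ⟨s, hs, rfl⟩
      rw [Subgroup.mem_centralizer_singleton_iff]
      have h2 : s * x = x * s := Subgroup.mem_centralizer_singleton_iff.1 hs
      show f s * f x = f x * f s
      rw [← map_mul, h2, map_mul]
    · intro ht
      refine ⟨f.symm t, Subgroup.mem_centralizer_singleton_iff.2 ?_, f.apply_symm_apply t⟩
      apply f.injective
      rw [map_mul, map_mul, f.apply_symm_apply]
      exact Subgroup.mem_centralizer_singleton_iff.1 ht
  exact oneBlock_congr ((f.subgroupMap (Subgroup.centralizer ({x} : Set S))).trans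
    (MulEquiv.subgroupCongr h1)) h

/-- **[T04]** (P1B) -/
theorem evenB_of_p1 {S : Type u} [Group S] [Fintype S] [IsSimpleGroup S] {r : ℕ} (hr : r.Prime) (hr2 : r ≠ 2)
    (hr1 : ¬ r ^ 2 ∣ Nat.card S) (y : S) (hy : orderOf y = r) (hreal : IsConj y y⁻¹) (x : S)
    (hx : ∃ j : ℕ, orderOf x = 2 ^ j) (hxy : Commute x y)
    (hC : ∀ M : Ideal AlgInt, IsPModular 2 M → OneBlock M (Subgroup.centralizer ({x} : Set S))) :
    EvenB S := by
  classical
  intro G _ _ N hN _ f hCN hidx k hk M hM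
  obtain ⟨f⟩ := f
  have : Fact r.Prime := ⟨hr⟩
  have : Fact (Nat.Prime 2) := ⟨Nat.prime_two⟩
  have hrodd : Odd r := hr.odd_of_ne_two hr2
  -- transport to `N`
  have hcard : Nat.card S = Nat.card N := Nat.card_congr f.toEquiv
  have hr1' : ¬ r ^ 2 ∣ Nat.card N := by rwa [← hcard]
  have hy' : orderOf (f y) = r := by rw [MulEquiv.orderOf_eq, hy]
  have hreal' : IsConj (f y) (f y)⁻¹ := by
    obtain ⟨t, ht⟩ := isConj_iff.1 hreal
    exact isConj_iff.2 ⟨f t, by rw [← map_inv, ← map_mul, ← map_mul, ht, map_inv]⟩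
  have hx' : ∃ j : ℕ, orderOf (f x) = 2 ^ j := by
    obtain ⟨j, hj⟩ := hx
    exact ⟨j, by rw [MulEquiv.orderOf_eq, hj]⟩
  have hxy' : Commute (f x) (f y) := by
    have h1 : f x * f y = f y * f x := by rw [← map_mul, hxy.eq, map_mul]
    exact h1
  obtain ⟨d, b, hd1, hd2, hd3, hd4⟩ := exists_rexp N hr
  obtain ⟨e, he⟩ := exists_OE (G := G)
  obtain ⟨hcount, hmem⟩ := section_mem (S := N) hr1' (f y) hy' hd1 hd2 hd4
  have heN := he.sub N
  have hde : ∀ n : N, (n ^ e) ^ d = n ^ d := by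
    intro n
    have h1 : (n ^ e) ^ d = (n ^ d) ^ e := by rw [← pow_mul, mul_comm, pow_mul]
    rw [h1]
    apply heN.fix
    exact Odd.of_dvd_nat hrodd.pow (orderOf_dvd_of_pow_eq_one (hd3 n))
  set X : Set G := {g | ∃ n : N, (n : G) = g ∧ Odd (orderOf n) ∧ IsConj (f y) (n ^ d)} with hXdef
  have hXmem : ∀ n : N, (n : G) ∈ X ↔ Odd (orderOf n) ∧ IsConj (f y) (n ^ d) := by
    intro n
    constructor
    · rintro ⟨n', hn', h1, h2⟩
      have h3 : n' = n := Subtype.ext hn'
      rw [← h3]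
      exact ⟨h1, h2⟩
    · rintro ⟨h1, h2⟩
      exact ⟨n, rfl, h1, h2⟩
  have hX : ∀ n : N, (n : G) ^ e ∈ X ↔ IsConj (f y) (n ^ d) := by
    intro n
    rw [← Subgroup.coe_pow, hXmem, hde]
    exact ⟨fun h => h.2, fun h => ⟨heN.odd n, h⟩⟩
  have hord : ∀ (g : G) (n : N), orderOf ((MulAut.conjNormal g : MulAut N) n) = orderOf n :=
    fun g n => MulEquiv.orderOf_eq _ _
  have hconjX : ∀ (g : G) (n : N), g * (n : G) * g⁻¹ = (((MulAut.conjNormal g : MulAut N) n : N) : G) :=
    fun g n => (MulAut.conjNormal_apply g n).symm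
  obtain ⟨a, s, hs2, hs⟩ := Nat.exists_eq_pow_mul_and_not_dvd
    (n := Nat.card {n : N // IsConj (f y) (n ^ d)}) (by
      intro h0
      rw [h0, mul_zero] at hcount
      exact Nat.card_pos.ne' hcount) 2 (by norm_num)
  refine concl_of_section hM N hidx hk he X ?_ ?_ ?_ ?_ ?_ (a := a) (s := s) (c := s * r) ?_ ?_ hs2 ?_
  · rintro g ⟨n, rfl, h1, -⟩
    rwa [Subgroup.orderOf_coe]
  · intro h1
    have h2 := (hXmem 1).1 (by rwa [Subgroup.coe_one])
    rw [one_pow] at h2
    have h3 : f y = 1 := isConj_one_left.1 h2.2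
    rw [h3, orderOf_one] at hy'
    exact hr.one_lt.ne hy'
  · rintro g ⟨n, rfl, h1, h2⟩
    rw [← Subgroup.coe_inv, hXmem]
    refine ⟨by rwa [orderOf_inv], ?_⟩
    rw [inv_pow]
    exact hreal'.trans (Cfsg.Agent.H612.Even.isConj_inv_inv h2)
  · rintro m hm g ⟨n, rfl, h1, h2⟩
    have h3 : m * (n : G) * m⁻¹ = (((⟨m, hm⟩ : N) * n * (⟨m, hm⟩ : N)⁻¹ : N) : G) := rfl
    rw [h3, hXmem]
    refine ⟨?_, ?_⟩
    · have h7 : orderOf ((⟨m, hm⟩ : N) * n * (⟨m, hm⟩ : N)⁻¹) = orderOf n := by
        have := orderOf_injective (MulAut.conj (⟨m, hm⟩ : N)).toMonoidHom (MulAut.conj (⟨m, hm⟩ : N)).injective n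
        simpa only [_root_.MulEquiv.toMonoidHom_eq_coe, _root_.MonoidHom.coe_coe, _root_.MulAut.conj_apply] using this
      rwa [h7]
    · rw [conj_pow]
      exact Cfsg.Agent.H612.Even.isConj_mul_inv h2
  · rintro g ⟨_, ⟨n, rfl, h1, h2⟩, h3⟩ _ ⟨n', rfl, h4, h5⟩
    rw [hconjX, hXmem, ← map_pow] at h3
    rw [hconjX, hXmem, hord, ← map_pow]
    refine ⟨h4, ?_⟩
    exact h3.2.trans ((Cfsg.Agent.H612.Even.isConj_map (MulAut.conjNormal g : MulAut N) h2.symm).trans
      (Cfsg.Agent.H612.Even.isConj_map (MulAut.conjNormal g : MulAut N) h5))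
  · rw [← hs]
    exact Nat.card_congr (Equiv.subtypeEquivRight hX)
  · rw [hcount, hs]
    ring
  · intro φ hφ
    have h1 : (fun n : N => sec e X (n : G)) = fun n : N => if IsConj (f y) (n ^ d) then (1 : ℂ) else 0 := by
      funext n
      by_cases h : IsConj (f y) (n ^ d)
      · rw [sec_of_mem ((hX n).2 h), if_pos h]
      · rw [sec_of_notMem (fun h' => h ((hX n).1 h')), if_neg h]
    rw [h1] at hφ
    by_contra hcon
    obtain ⟨j, hj⟩ := hx'
    have h2 := hmem φ hφ (f x) hxy'.symm (by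
      rw [hj]
      intro h3
      exact hr2 ((Nat.prime_dvd_prime_iff_eq hr Nat.prime_two).1 (hr.dvd_of_dvd_pow h3)))
    apply h2
    rw [← hxy'.eq]
    exact vanish hM φ hcon (f x) ⟨j, hj⟩ (oneBlock_centralizer f x (hC M hM)) (f y) (by
      rw [hy', ← even_iff_two_dvd, Nat.not_even_iff_odd]
      exact hrodd) hxy'

end Cfsg.Agent.H410.EB
end

-- part: H682/EB/Rows
section
/-!
# S4522: `EvenB` for Co₁ and the baby monster (helper682)
-/

set_option autoImplicit false

namespace Cfsg.Agent.H682.EB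

open Subgroup
open Cfsg Cfsg.Agent.H610.EB Cfsg.Agent.H684.EB

universe u

theorem evenB_of_loc {S : Type u} [Group S] [Fintype S] [IsSimpleGroup S] {r : ℕ} (hr : r.Prime) (hr2 : r ≠ 2)
    (h : Loc r S) (h1 : ¬ r ^ 2 ∣ Nat.card S) : EvenB S := by
  refine evenB_of_loc' h h1 ?_ ?_
  · intro x E hE hE2 hC M hM
    exact H104.EB.COne.oneBlock_of_constrained hM E hE2 hC
  · intro h1 y hy hreal x hx hxy hone
    exact H410.EB.evenB_of_p1 hr hr2 h1 y hy hreal x hx hxy hone

theorem evenB_co1 {S : Type u} [Group S] [Fintype S] [IsSimpleGroup S] (h : Spor.IsoCo1 S) : EvenB S :=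
  evenB_of_loc (r := 11) (by norm_num) (by norm_num) (CoOne.loc_co1 h) (by
    rw [CoOne.card_of_co1 h]
    norm_num)

theorem evenB_b {S : Type u} [Group S] [Fintype S] [IsSimpleGroup S] (h : Spor.IsoB S) : EvenB S :=
  evenB_of_loc (r := 11) (by norm_num) (by norm_num) (loc_b h) (by
    rw [card_b h]
    norm_num)

end Cfsg.Agent.H682.EB
end

private theorem dce_5d1230c898d2 : _root_.True := by
  try have : _root_.True := by simp only [_root_.Cfsg.Agent.H273.EB.chB.eq_1]
  try have : _root_.True := by simp only [_root_.Cfsg.Agent.H273.EB.chA.eq_1]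
  exact _root_.True.intro
end
end
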